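import Mathlib

/-!
Transvections `1 + v fᵀ` in `SL_n(F)` and their behaviour modulo scalar matrices.
-/

set_option autoImplicit false

namespace CfsgLib.AutPSL

open Matrix

variable {n : ℕ} {F : Type*} [Field F]

/-- The matrix `1 + v fᵀ`. -/
def rk1 (v f : Fin n → F) : Matrix (Fin n) (Fin n) F := 1 + vecMulVec v f

theorem det_rk1 (v f : Fin n → F) : (rk1 v f).det = 1 + f ⬝ᵥ v := by
  rw [rk1, vecMulVec_eq (ι := Unit), det_one_add_replicateCol_mul_replicateRow]

theorem rk1_mul (v f v' f' : Fin n → F) :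
    rk1 v f * rk1 v' f' =
      1 + vecMulVec v f + vecMulVec v' f' + (f ⬝ᵥ v') • vecMulVec v f' := by
  simp only [rk1, add_mul, mul_add, one_mul, mul_one, vecMulVec_mul_vecMulVec, vecMulVec_smul]
  abel

/-- A transvection as an element of `SL`. -/
def tv (v f : Fin n → F) (h : f ⬝ᵥ v = 0) : Matrix.SpecialLinearGroup (Fin n) F :=
  ⟨rk1 v f, by rw [det_rk1, h, add_zero]⟩

@[simp] theorem tv_val (v f : Fin n → F) (h : f ⬝ᵥ v = 0) : (tv v f h).1 = rk1 v f := rfl

theorem tv_congr {v v' f f' : Fin n → F} (h : f ⬝ᵥ v = 0) (h' : f' ⬝ᵥ v' = 0)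
    (he : vecMulVec v f = vecMulVec v' f') : tv v f h = tv v' f' h' :=
  Subtype.ext (by simp [rk1, he])

theorem tv_eq_one {v f : Fin n → F} (h : f ⬝ᵥ v = 0) (he : vecMulVec v f = 0) : tv v f h = 1 :=
  Subtype.ext (by simp [rk1, he])

theorem tv_mul {v f g : Fin n → F} (h : f ⬝ᵥ v = 0) (h' : g ⬝ᵥ v = 0) :
    tv v f h * tv v g h' = tv v (f + g) (by rw [add_dotProduct, h, h', add_zero]) := by
  apply Subtype.ext
  show rk1 v f * rk1 v g = rk1 v (f + g)
  rw [rk1_mul, h, zero_smul, add_zero, rk1, vecMulVec_add, add_assoc]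

theorem tv_mul' {v w f : Fin n → F} (h : f ⬝ᵥ v = 0) (h' : f ⬝ᵥ w = 0) :
    tv v f h * tv w f h' = tv (v + w) f (by rw [dotProduct_add, h, h', add_zero]) := by
  apply Subtype.ext
  show rk1 v f * rk1 w f = rk1 (v + w) f
  rw [rk1_mul, h', zero_smul, add_zero, rk1, add_vecMulVec, add_assoc]

/-- The root group of a point `v` in a hyperplane `f`. -/
def tvHom (v f : Fin n → F) (h : f ⬝ᵥ v = 0) :
    Multiplicative F →* Matrix.SpecialLinearGroup (Fin n) F where
  toFun t := tv (Multiplicative.toAdd t • v) f (by rw [dotProduct_smul, h, smul_zero])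
  map_one' := tv_eq_one _ (by simp)
  map_mul' s t := by
    rw [tv_mul']
    exact tv_congr _ _ (by rw [toAdd_mul, add_smul])

/-- The projection to `PSL`. -/
abbrev proj : Matrix.SpecialLinearGroup (Fin n) F →*
    Matrix.ProjectiveSpecialLinearGroup (Fin n) F :=
  QuotientGroup.mk' _

theorem proj_eq_iff {A B : Matrix.SpecialLinearGroup (Fin n) F} :
    proj A = proj B ↔ ∃ c : F, c ^ n = 1 ∧ B.1 = c • A.1 := by
  rw [QuotientGroup.mk'_apply, QuotientGroup.mk'_apply, QuotientGroup.eq,
    Matrix.SpecialLinearGroup.mem_center_iff, Fintype.card_fin]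
  constructor
  · rintro ⟨c, hc, h⟩
    refine ⟨c, hc, ?_⟩
    have hB : B.1 = A.1 * (A⁻¹ * B).1 := by
      rw [← Matrix.SpecialLinearGroup.coe_mul, mul_inv_cancel_left]
    rw [hB, ← h, scalar_apply, ← smul_one_eq_diagonal, mul_smul_comm, mul_one]
  · rintro ⟨c, hc, h⟩
    refine ⟨c, hc, ?_⟩
    rw [Matrix.SpecialLinearGroup.coe_mul, h, mul_smul_comm, ← Matrix.SpecialLinearGroup.coe_mul,
      inv_mul_cancel, Matrix.SpecialLinearGroup.coe_one, scalar_apply, smul_one_eq_diagonal]

/-- If a transvection is a scalar multiple of a transvection, the scalar is one. -/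
theorem vecMulVec_eq_of_smul [NeZero n] {v f w g : Fin n → F} {c : F} (h : f ⬝ᵥ v = 0)
    (h' : g ⬝ᵥ w = 0) (he : rk1 v f = c • rk1 w g) : vecMulVec v f = vecMulVec w g := by
  have hA : vecMulVec v f * vecMulVec v f = 0 := by
    rw [vecMulVec_mul_vecMulVec, h, zero_smul, vecMulVec_zero]
  have hB : vecMulVec w g * vecMulVec w g = 0 := by
    rw [vecMulVec_mul_vecMulVec, h', zero_smul, vecMulVec_zero]
  have hA' : vecMulVec v f = (c - 1) • (1 : Matrix (Fin n) (Fin n) F) + c • vecMulVec w g := by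
    rw [rk1, rk1, smul_add] at he
    rw [sub_smul, one_smul, sub_add_eq_add_sub, ← he]
    abel
  rcases eq_or_ne c 1 with rfl | hc
  · simpa using hA'
  exfalso
  rw [hA'] at hA
  simp only [add_mul, mul_add, smul_mul_smul_comm, mul_one, one_mul, hB, smul_zero, add_zero] at hA
  have h2 := congrArg (fun M : Matrix (Fin n) (Fin n) F => M * vecMulVec w g) hA
  simp only [add_mul, smul_mul_assoc, one_mul, hB, smul_zero, add_zero, zero_mul] at h2
  have hB0 : vecMulVec w g = 0 := by
    rcases smul_eq_zero.1 h2 with h3 | h3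
    · exact absurd (mul_self_eq_zero.1 h3) (sub_ne_zero.2 hc)
    · exact h3
  rw [hB0, smul_zero, smul_zero, add_zero, add_zero] at hA
  rcases smul_eq_zero.1 hA with h3 | h3
  · exact sub_ne_zero.2 hc (mul_self_eq_zero.1 h3)
  · exact one_ne_zero h3

/-- Equality in `PSL` of two transvections. -/
theorem proj_tv_eq [NeZero n] {v f w g : Fin n → F} (h : f ⬝ᵥ v = 0) (h' : g ⬝ᵥ w = 0) :
    proj (tv v f h) = proj (tv w g h') ↔ vecMulVec v f = vecMulVec w g := by
  refine ⟨fun he => ?_, fun he => by rw [tv_congr h h' he]⟩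
  obtain ⟨c, -, hc⟩ := proj_eq_iff.1 he.symm
  exact vecMulVec_eq_of_smul h h' hc

theorem proj_tv_eq_one [NeZero n] {v f : Fin n → F} (h : f ⬝ᵥ v = 0)
    (he : proj (tv v f h) = 1) : vecMulVec v f = 0 := by
  have h1 : tv (0 : Fin n → F) 0 (dotProduct_zero _) = 1 := tv_eq_one _ (by simp)
  rw [← map_one (proj (n := n) (F := F)), ← h1, proj_tv_eq] at he
  simpa using he

theorem proj_tvHom_injective [NeZero n] {v f : Fin n → F} (hv : v ≠ 0) (hf : f ≠ 0)
    (h : f ⬝ᵥ v = 0) : Function.Injective (proj.comp (tvHom v f h)) := by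
  intro s t hst
  have hs : ∀ r : F, f ⬝ᵥ (r • v) = 0 := fun r => by rw [dotProduct_smul, h, smul_zero]
  have h' := (proj_tv_eq (hs (Multiplicative.toAdd s)) (hs (Multiplicative.toAdd t))).1 hst
  rw [smul_vecMulVec, smul_vecMulVec] at h'
  exact Multiplicative.toAdd.injective (smul_left_injective F (vecMulVec_ne_zero hv hf) h')

/-- Conjugation of a transvection by an invertible matrix. -/
theorem conj_rk1 (g : GL (Fin n) F) (v f : Fin n → F) :
    g.1 * rk1 v f * (g⁻¹).1 = rk1 (g.1 *ᵥ v) (f ᵥ* (g⁻¹).1) := by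
  rw [rk1, mul_add, add_mul, mul_one, Units.mul_inv, mul_vecMulVec, vecMulVec_mul, rk1]

theorem dotProduct_conj (g : GL (Fin n) F) (v f : Fin n → F) :
    (f ᵥ* (g⁻¹).1) ⬝ᵥ (g.1 *ᵥ v) = f ⬝ᵥ v := by
  rw [← dotProduct_mulVec, mulVec_mulVec, Units.inv_mul, one_mulVec]

/-- Two transvections commute modulo scalars only if each point lies in the other hyperplane or
the points and hyperplanes coincide; in both cases the pairings vanish. -/
theorem commute_tv_iff [NeZero n] {v f w g : Fin n → F} (hv : v ≠ 0) (hf : f ≠ 0) (hw : w ≠ 0)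
    (hg : g ≠ 0) (h : f ⬝ᵥ v = 0) (h' : g ⬝ᵥ w = 0) :
    Commute (proj (tv v f h)) (proj (tv w g h')) ↔ f ⬝ᵥ w = 0 ∧ g ⬝ᵥ v = 0 := by
  constructor
  · intro hc
    set gA : GL (Fin n) F :=
      Matrix.SpecialLinearGroup.toGL (tv v f h) with hgA
    have hconj : proj (tv v f h * tv w g h' * (tv v f h)⁻¹) = proj (tv w g h') := by
      rw [map_mul, map_mul, map_inv, hc.eq, mul_inv_cancel_right]
    have hval : (tv v f h * tv w g h' * (tv v f h)⁻¹).1 = gA.1 * rk1 w g * (gA⁻¹).1 := by
      rw [hgA, ← map_inv]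
      rfl
    obtain ⟨c, -, hc'⟩ := proj_eq_iff.1 hconj.symm
    rw [hval, conj_rk1] at hc'
    have h2 := vecMulVec_eq_of_smul (by rw [dotProduct_conj, h']) h' hc'
    -- back to an identity between the two products
    have e1 : gA.1 * rk1 w g * (gA⁻¹).1 = rk1 w g := by rw [conj_rk1, rk1, h2, rk1]
    have e2 : rk1 v f * rk1 w g = rk1 w g * rk1 v f := by
      have := congrArg (fun M => M * gA.1) e1
      simp only [mul_assoc, Units.inv_mul, mul_one] at this
      exact this
    rw [rk1_mul, rk1_mul, add_right_comm _ (vecMulVec w g) (vecMulVec v f), add_right_inj] at e2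
    by_contra hne
    -- e2 : (f ⬝ w) • (v gᵀ) = (g ⬝ v) • (w fᵀ)
    have e3 := congrArg (fun M => f ᵥ* M) e2
    have e4 := congrArg (fun M => M *ᵥ v) e2
    simp only [vecMul_smul, vecMul_vecMulVec, h, zero_smul, smul_zero] at e3
    simp only [smul_mulVec, vecMulVec_mulVec, h, MulOpposite.op_zero, zero_smul, smul_zero] at e4
    have hfw : f ⬝ᵥ w = 0 ∨ g ⬝ᵥ v = 0 := by
      by_contra hb
      push Not at hb
      rcases smul_eq_zero.1 e3.symm with h5 | h5
      · exact hb.2 h5
      · rcases smul_eq_zero.1 h5 with h6 | h6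
        · exact hb.1 h6
        · exact hf h6
    rcases hfw with h5 | h5
    · rw [h5, zero_smul] at e2
      rcases smul_eq_zero.1 e2.symm with h6 | h6
      · exact hne ⟨h5, h6⟩
      · exact vecMulVec_ne_zero hw hf h6
    · rw [h5, zero_smul] at e2
      rcases smul_eq_zero.1 e2 with h6 | h6
      · exact hne ⟨h6, h5⟩
      · exact vecMulVec_ne_zero hv hg h6
  · rintro ⟨h1, h2⟩
    refine Commute.map ?_ proj
    apply Subtype.ext
    show rk1 v f * rk1 w g = rk1 w g * rk1 v f
    rw [rk1_mul, rk1_mul, h1, h2, zero_smul, zero_smul]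
    abel

/-- Proportional vectors. -/
def Par (v w : Fin n → F) : Prop := ∃ c : F, c ≠ 0 ∧ w = c • v

theorem Par.symm {v w : Fin n → F} (h : Par v w) : Par w v := by
  obtain ⟨c, hc, rfl⟩ := h
  exact ⟨c⁻¹, inv_ne_zero hc, by rw [smul_smul, inv_mul_cancel₀ hc, one_smul]⟩

theorem Par.trans {u v w : Fin n → F} (h : Par u v) (h' : Par v w) : Par u w := by
  obtain ⟨c, hc, rfl⟩ := h
  obtain ⟨d, hd, rfl⟩ := h'
  exact ⟨d * c, mul_ne_zero hd hc, by rw [smul_smul]⟩

/-- A sum of two rank-one matrices of rank at most one. -/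
theorem par_of_vecMulVec_add {v f w g u k : Fin n → F} (hv : v ≠ 0) (hw : w ≠ 0) (hf : f ≠ 0)
    (hg : g ≠ 0) (he : vecMulVec v f + vecMulVec w g = vecMulVec u k) : Par v w ∨ Par f g := by
  by_cases hpar : ∀ a b, f a * g b = f b * g a
  · right
    obtain ⟨a, ha⟩ := Function.ne_iff.1 hf
    refine ⟨g a / f a, ?_, funext fun b => ?_⟩
    · intro h0
      refine hg (funext fun b => ?_)
      have h1 : g a = 0 := (div_eq_zero_iff.1 h0).resolve_right ha
      have h2 := hpar a b
      rw [h1, mul_zero] at h2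
      exact (mul_eq_zero.1 h2).resolve_left ha
    · show g b = g a / f a * f b
      rw [div_mul_eq_mul_div, eq_div_iff ha]
      linear_combination hpar a b
  · left
    push Not at hpar
    obtain ⟨a, b, hab⟩ := hpar
    have hD : f a * g b - f b * g a ≠ 0 := sub_ne_zero.2 hab
    have hent : ∀ r s, v r * f s + w r * g s = u r * k s := fun r s => by
      simpa [vecMulVec_apply] using congrFun (congrFun he r) s
    have hv' : ∀ r, v r * (f a * g b - f b * g a) = u r * (k a * g b - k b * g a) := fun r => by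
      linear_combination g b * hent r a - g a * hent r b
    have hw' : ∀ r, w r * (f a * g b - f b * g a) = u r * (f a * k b - f b * k a) := fun r => by
      linear_combination f a * hent r b - f b * hent r a
    set α := k a * g b - k b * g a
    set β := f a * k b - f b * k a
    set D := f a * g b - f b * g a
    have hα : α ≠ 0 := fun h0 => hv (funext fun r => by
      have := hv' r; rw [h0, mul_zero] at this; exact (mul_eq_zero.1 this).resolve_right hD)
    have hβ : β ≠ 0 := fun h0 => hw (funext fun r => by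
      have := hw' r; rw [h0, mul_zero] at this; exact (mul_eq_zero.1 this).resolve_right hD)
    refine ⟨β / α, div_ne_zero hβ hα, funext fun r => ?_⟩
    show w r = β / α * v r
    rw [div_mul_eq_mul_div, eq_div_iff hα]
    apply mul_right_cancel₀ hD
    linear_combination α * hw' r - β * hv' r

end CfsgLib.AutPSL
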