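import Mathlib
import Cfsg.Agent.Lib.AutPSL.Root
import Cfsg.Prelude.Def_LieTypeDatum

/-!
The automorphisms of `PSL_n(F)` induced by semilinear maps and by inverse transpose.
-/

set_option autoImplicit false

namespace CfsgLib.AutPSL

open Matrix

variable {n : ℕ} {F : Type*} [Field F]

/-- Conjugation of `SL` by an invertible matrix. -/
def slConjFun (g : GL (Fin n) F) : MulAut (Matrix.SpecialLinearGroup (Fin n) F) where
  toFun s := ⟨g.1 * s.1 * (g⁻¹).1, by rw [Matrix.det_units_conj, s.2]⟩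
  invFun s := ⟨(g⁻¹).1 * s.1 * g.1, by rw [Matrix.det_units_conj', s.2]⟩
  left_inv s := Subtype.ext (by simp [mul_assoc])
  right_inv s := Subtype.ext (by simp [mul_assoc])
  map_mul' s t := Subtype.ext (by
    show g.1 * (s * t).1 * (g⁻¹).1 = (g.1 * s.1 * (g⁻¹).1) * (g.1 * t.1 * (g⁻¹).1)
    rw [Matrix.SpecialLinearGroup.coe_mul]
    simp [mul_assoc])

/-- Conjugation as a hom. -/
def slConj : GL (Fin n) F →* MulAut (Matrix.SpecialLinearGroup (Fin n) F) where
  toFun := slConjFun
  map_one' := MulEquiv.ext fun s => Subtype.ext (by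
    show (1 : GL (Fin n) F).1 * s.1 * ((1 : GL (Fin n) F)⁻¹).1 = s.1
    simp)
  map_mul' g h := MulEquiv.ext fun s => Subtype.ext (by
    show (g * h).1 * s.1 * ((g * h)⁻¹).1 = g.1 * (h.1 * s.1 * (h⁻¹).1) * (g⁻¹).1
    rw [_root_.mul_inv_rev, Units.val_mul, Units.val_mul]
    simp only [mul_assoc])

@[simp] theorem slConj_val (g : GL (Fin n) F) (s : Matrix.SpecialLinearGroup (Fin n) F) :
    (slConj g s).1 = g.1 * s.1 * (g⁻¹).1 := rfl

/-- A field automorphism applied entrywise. -/
def slFieldFun (σ : F ≃+* F) : MulAut (Matrix.SpecialLinearGroup (Fin n) F) where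
  toFun := Matrix.SpecialLinearGroup.map σ.toRingHom
  invFun := Matrix.SpecialLinearGroup.map σ.symm.toRingHom
  left_inv s := Subtype.ext (by ext i j; simp)
  right_inv s := Subtype.ext (by ext i j; simp)
  map_mul' s t := map_mul _ s t

/-- Field automorphisms as a hom. -/
def slField : RingAut F →* MulAut (Matrix.SpecialLinearGroup (Fin n) F) where
  toFun := slFieldFun
  map_one' := MulEquiv.ext fun s => Subtype.ext (by ext i j; simp [slFieldFun])
  map_mul' σ τ := MulEquiv.ext fun s => Subtype.ext (by ext i j; simp [slFieldFun])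

@[simp] theorem slField_val (σ : RingAut F) (s : Matrix.SpecialLinearGroup (Fin n) F) :
    (slField σ s).1 = s.1.map σ := rfl

/-- The underlying map of the inverse transpose. -/
def slITFun (s : Matrix.SpecialLinearGroup (Fin n) F) : Matrix.SpecialLinearGroup (Fin n) F :=
  ⟨(s⁻¹).1ᵀ, by rw [Matrix.det_transpose, (s⁻¹).2]⟩

theorem slITFun_inv (s : Matrix.SpecialLinearGroup (Fin n) F) : ((slITFun s)⁻¹).1 = s.1ᵀ := by
  have h : (slITFun s)⁻¹ = ⟨s.1ᵀ, by rw [Matrix.det_transpose, s.2]⟩ := by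
    refine inv_eq_of_mul_eq_one_right (Subtype.ext ?_)
    show (s⁻¹).1ᵀ * s.1ᵀ = 1
    rw [← Matrix.transpose_mul, ← Matrix.SpecialLinearGroup.coe_mul, mul_inv_cancel,
      Matrix.SpecialLinearGroup.coe_one, Matrix.transpose_one]
  rw [h]

theorem slITFun_slITFun (s : Matrix.SpecialLinearGroup (Fin n) F) : slITFun (slITFun s) = s := by
  apply Subtype.ext
  show ((slITFun s)⁻¹).1ᵀ = s.1
  rw [slITFun_inv, Matrix.transpose_transpose]

/-- The inverse transpose. -/
def slIT : MulAut (Matrix.SpecialLinearGroup (Fin n) F) where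
  toFun := slITFun
  invFun := slITFun
  left_inv := slITFun_slITFun
  right_inv := slITFun_slITFun
  map_mul' s t := Subtype.ext (by
    show ((s * t)⁻¹).1ᵀ = (s⁻¹).1ᵀ * (t⁻¹).1ᵀ
    rw [_root_.mul_inv_rev, Matrix.SpecialLinearGroup.coe_mul, Matrix.transpose_mul])

theorem slIT_val (s : Matrix.SpecialLinearGroup (Fin n) F) : (slIT s).1 = (s⁻¹).1ᵀ := rfl

/-- Passing to the quotient by the centre. -/
def quotAut :
    MulAut (Matrix.SpecialLinearGroup (Fin n) F) →*
      MulAut (Matrix.ProjectiveSpecialLinearGroup (Fin n) F) where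
  toFun e := QuotientGroup.congr _ _ e
    (Subgroup.characteristic_iff_map_eq.1 inferInstance e)
  map_one' := MulEquiv.ext fun x => by
    obtain ⟨s, rfl⟩ := QuotientGroup.mk'_surjective _ x; rfl
  map_mul' e e' := MulEquiv.ext fun x => by
    obtain ⟨s, rfl⟩ := QuotientGroup.mk'_surjective _ x; rfl

@[simp] theorem quotAut_proj (e : MulAut (Matrix.SpecialLinearGroup (Fin n) F))
    (s : Matrix.SpecialLinearGroup (Fin n) F) : quotAut e (proj s) = proj (e s) := rfl

/-- The automorphism induced by `v ↦ g σ v`. -/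
def ind (g : GL (Fin n) F) (σ : RingAut F) :
    MulAut (Matrix.ProjectiveSpecialLinearGroup (Fin n) F) :=
  quotAut (slConj g * slField σ)

/-- The inverse transpose on `PSL`. -/
def itAut : MulAut (Matrix.ProjectiveSpecialLinearGroup (Fin n) F) := quotAut slIT

/-- Entrywise action on invertible matrices. -/
def glField (σ : RingAut F) : GL (Fin n) F →* GL (Fin n) F :=
  Matrix.GeneralLinearGroup.map σ.toRingHom

@[simp] theorem glField_val (σ : RingAut F) (g : GL (Fin n) F) :
    (glField σ g).1 = g.1.map σ := rfl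

theorem slField_slConj (σ : RingAut F) (g : GL (Fin n) F) :
    slField σ * slConj g = slConj (glField σ g) * slField σ := by
  refine MulEquiv.ext fun s => Subtype.ext ?_
  show (g.1 * s.1 * (g⁻¹).1).map σ = (glField σ g).1 * s.1.map σ * ((glField σ g)⁻¹).1
  rw [← map_inv, glField_val, glField_val]
  show (g.1 * s.1 * (g⁻¹).1).map σ.toRingHom = g.1.map σ.toRingHom * s.1.map σ.toRingHom * (g⁻¹).1.map σ.toRingHom
  rw [Matrix.map_mul, Matrix.map_mul]

theorem ind_mul (g h : GL (Fin n) F) (σ τ : RingAut F) :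
    ind g σ * ind h τ = ind (g * glField σ h) (σ * τ) := by
  rw [ind, ind, ind, ← map_mul]
  congr 1
  rw [mul_assoc, ← mul_assoc (slField σ), slField_slConj, map_mul, map_mul]
  simp only [mul_assoc]

theorem ind_one : ind (1 : GL (Fin n) F) (1 : RingAut F) = 1 := by
  rw [ind, map_one, map_one, mul_one, map_one]

/-- The inverse transpose of an invertible matrix. -/
def glIT (g : GL (Fin n) F) : GL (Fin n) F :=
  ⟨(g⁻¹).1ᵀ, g.1ᵀ, by rw [← Matrix.transpose_mul, Units.mul_inv, Matrix.transpose_one],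
    by rw [← Matrix.transpose_mul, Units.inv_mul, Matrix.transpose_one]⟩

theorem slIT_mul_self : (slIT : MulAut (Matrix.SpecialLinearGroup (Fin n) F)) * slIT = 1 :=
  MulEquiv.ext fun s => (slIT (n := n) (F := F)).left_inv s

theorem slIT_slConj (g : GL (Fin n) F) :
    slIT * slConj g = slConj (glIT g) * slIT := by
  refine MulEquiv.ext fun s => Subtype.ext ?_
  show ((slConj g s)⁻¹).1ᵀ = (g⁻¹).1ᵀ * (s⁻¹).1ᵀ * g.1ᵀ
  rw [← map_inv, slConj_val, Matrix.transpose_mul, Matrix.transpose_mul, mul_assoc]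

theorem slIT_slField (σ : RingAut F) :
    (slIT : MulAut (Matrix.SpecialLinearGroup (Fin n) F)) * slField σ = slField σ * slIT := by
  refine MulEquiv.ext fun s => Subtype.ext ?_
  show ((slField σ s)⁻¹).1ᵀ = ((s⁻¹).1ᵀ).map σ
  rw [← map_inv, slField_val, Matrix.transpose_map]

theorem itAut_mul_self : (itAut : MulAut (Matrix.ProjectiveSpecialLinearGroup (Fin n) F)) * itAut = 1 := by
  rw [itAut, ← map_mul, slIT_mul_self, map_one]

theorem itAut_ind (g : GL (Fin n) F) (σ : RingAut F) :
    itAut * ind g σ = ind (glIT g) σ * itAut := by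
  rw [itAut, ind, ind, ← map_mul, ← map_mul]
  congr 1
  rw [← mul_assoc, slIT_slConj, mul_assoc, slIT_slField, mul_assoc]

theorem ind_isInduced (g : GL (Fin n) F) (σ : RingAut F) :
    Cfsg.IsInducedBySemilinearPSL g σ (ind g σ) := by
  intro s s' h
  show proj (slConj g (slField σ s)) = proj s'
  exact congrArg proj (Subtype.ext h.symm)

theorem isInduced_iff {g : GL (Fin n) F} {σ : RingAut F}
    {β : MulAut (Matrix.ProjectiveSpecialLinearGroup (Fin n) F)} :
    Cfsg.IsInducedBySemilinearPSL g σ β ↔ β = ind g σ := by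
  refine ⟨fun h => MulEquiv.ext fun x => ?_, fun h => h ▸ ind_isInduced g σ⟩
  obtain ⟨s, rfl⟩ := QuotientGroup.mk'_surjective _ x
  exact h s (slConj g (slField σ s)) rfl

theorem isStdField_iff {σ : RingAut F}
    {β : MulAut (Matrix.ProjectiveSpecialLinearGroup (Fin n) F)} :
    Cfsg.IsStdFieldAutPSL σ β ↔ β = ind 1 σ := by
  rw [← isInduced_iff]
  refine forall₂_congr fun s s' => ?_
  simp

theorem isInnerDiagonal_iff {β : MulAut (Matrix.ProjectiveSpecialLinearGroup (Fin n) F)} :
    Cfsg.IsInnerDiagonalAutPSL β ↔ ∃ g : GL (Fin n) F, β = ind g 1 := by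
  refine exists_congr fun g => ?_
  rw [← isInduced_iff]
  refine forall₂_congr fun s s' => ?_
  have : s.1.map (⇑(1 : RingAut F)) = s.1 := by ext i j; rfl
  simp only [this]

theorem isIT_iff {β : MulAut (Matrix.ProjectiveSpecialLinearGroup (Fin n) F)} :
    Cfsg.IsInverseTransposeAutPSL β ↔ β = itAut := by
  refine ⟨fun h => MulEquiv.ext fun x => ?_, fun h s s' he => ?_⟩
  · obtain ⟨s, rfl⟩ := QuotientGroup.mk'_surjective _ x
    exact h s (slIT s) rfl
  · subst h
    exact congrArg proj (Subtype.ext he.symm)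

theorem slConj_tv (g : GL (Fin n) F) (v f : Fin n → F) (h : f ⬝ᵥ v = 0) :
    slConj g (tv v f h) = tv (g.1 *ᵥ v) (f ᵥ* (g⁻¹).1) (by rw [dotProduct_conj, h]) :=
  Subtype.ext (conj_rk1 g v f)

theorem slField_tv (σ : RingAut F) (v f : Fin n → F) (h : f ⬝ᵥ v = 0) :
    slField σ (tv v f h) = tv (σ ∘ v) (σ ∘ f)
      (by rw [← map_zero σ, ← h]; exact ((σ.toRingHom).map_dotProduct f v).symm) := by
  apply Subtype.ext
  ext i j
  simp [rk1, vecMulVec_apply, Matrix.one_apply, apply_ite σ]

theorem slIT_tv (v f : Fin n → F) (h : f ⬝ᵥ v = 0) :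
    slIT (tv v f h) = tv (-f) v (by rw [dotProduct_neg, dotProduct_comm, h, neg_zero]) := by
  apply Subtype.ext
  have hinv : (tv v f h)⁻¹ = tv (-v) f (by rw [dotProduct_neg, h, neg_zero]) := by
    refine inv_eq_of_mul_eq_one_right ?_
    rw [tv_mul']
    exact tv_eq_one _ (by rw [add_neg_cancel, zero_vecMulVec])
  rw [slIT_val, hinv]
  ext i j
  simp [rk1, vecMulVec_apply, Matrix.one_apply, eq_comm, mul_comm]

end CfsgLib.AutPSL
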