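import Mathlib
import Cfsg.Agent.Lib.AutPSL.Root

/-!
The upper unitriangular Sylow `p`-subgroup of `PSL_n(F)`, its centre, and the fact that
automorphisms permute root groups.
-/

set_option autoImplicit false

namespace CfsgLib.AutPSL

open Matrix

variable {n : ℕ} {F : Type*} [Field F]

/-- Basis vector. -/
def ev (i : Fin n) : Fin n → F := Pi.single i 1

theorem ev_ne_zero (i : Fin n) : (ev i : Fin n → F) ≠ 0 := fun h => by
  simpa [ev] using congrFun h i

theorem ev_dot {i j : Fin n} (h : i ≠ j) : (ev j : Fin n → F) ⬝ᵥ ev i = 0 := by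
  rw [ev, single_one_dotProduct, ev, Pi.single_eq_of_ne h.symm]

theorem vecMulVec_ev (i j : Fin n) : vecMulVec (ev i : Fin n → F) (ev j) = Matrix.single i j 1 := by
  ext a b
  rw [vecMulVec_apply, ev, ev, Matrix.single_apply]
  by_cases h1 : i = a <;> by_cases h2 : j = b <;>
    simp [h1, h2, eq_comm, Pi.single_apply]

/-- Root group of a point and hyperplane in `PSL`. -/
def rootGp (v f : Fin n → F) (h : f ⬝ᵥ v = 0) :
    Subgroup (Matrix.ProjectiveSpecialLinearGroup (Fin n) F) :=
  (proj.comp (tvHom v f h)).range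

theorem mem_rootGp {v f : Fin n → F} {h : f ⬝ᵥ v = 0}
    {x : Matrix.ProjectiveSpecialLinearGroup (Fin n) F} :
    x ∈ rootGp v f h ↔ ∃ t : F, x = proj (tv (t • v) f (by rw [dotProduct_smul, h, smul_zero])) := by
  constructor
  · rintro ⟨t, rfl⟩
    exact ⟨Multiplicative.toAdd t, rfl⟩
  · rintro ⟨t, rfl⟩
    exact ⟨Multiplicative.ofAdd t, rfl⟩

theorem proj_tv_mem_rootGp {v f : Fin n → F} (h : f ⬝ᵥ v = 0) :
    proj (tv v f h) ∈ rootGp v f h :=
  mem_rootGp.2 ⟨1, congrArg proj (tv_congr h (by rw [one_smul]; exact h) (by rw [one_smul]))⟩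

variable [Finite F]

/-- Upper unitriangular matrices of determinant one. -/
def unitri : Subgroup (Matrix.SpecialLinearGroup (Fin n) F) :=
  let S : Submonoid (Matrix.SpecialLinearGroup (Fin n) F) :=
    { carrier := {A | BlockTriangular A.1 id ∧ ∀ i, A.1 i i = 1}
      one_mem' := ⟨blockTriangular_one, fun i => by simp⟩
      mul_mem' := by
        rintro A B ⟨hA, hA'⟩ ⟨hB, hB'⟩
        refine ⟨hA.mul hB, fun i => ?_⟩
        rw [Matrix.SpecialLinearGroup.coe_mul, Matrix.mul_apply, Finset.sum_eq_single i, hA', hB',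
          one_mul]
        · intro j _ hj
          rcases lt_or_gt_of_ne hj with h | h
          · rw [hA (show id j < id i from h), zero_mul]
          · rw [hB (show id i < id j from h), mul_zero]
        · intro h; exact absurd (Finset.mem_univ i) h }
  { S with
    inv_mem' := fun {A} hA => by
      have h : (A⁻¹ : Matrix.SpecialLinearGroup (Fin n) F) = A ^ (orderOf A - 1) := by
        refine inv_eq_of_mul_eq_one_right ?_
        rw [← pow_succ', Nat.sub_add_cancel (orderOf_pos A), pow_orderOf_eq_one]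
      rw [h]
      exact S.pow_mem hA _ }

theorem mem_unitri {A : Matrix.SpecialLinearGroup (Fin n) F} :
    A ∈ unitri ↔ BlockTriangular A.1 id ∧ ∀ i, A.1 i i = 1 := Iff.rfl

theorem tv_mem_unitri {a b : Fin n} (hab : a < b) (t : F) :
    tv (t • (ev a : Fin n → F)) (ev b) (by rw [dotProduct_smul, ev_dot hab.ne, smul_zero]) ∈ unitri := by
  refine mem_unitri.2 ⟨fun i j hij => ?_, fun i => ?_⟩
  · have hne : ¬ (a = i ∧ b = j) := fun h => by
      obtain ⟨rfl, rfl⟩ := h; exact lt_asymm hab hij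
    rw [tv_val, rk1, smul_vecMulVec, vecMulVec_ev]
    simp [Matrix.one_apply, (ne_of_gt (show j < i from hij)), Matrix.single_apply, hne]
  · have hne : ¬ (a = i ∧ b = i) := fun h => hab.ne (h.1.trans h.2.symm)
    rw [tv_val, rk1, smul_vecMulVec, vecMulVec_ev]
    simp [Matrix.single_apply, hne]

variable {p : ℕ} [Fact p.Prime] [CharP F p]

theorem eq_one_of_pow_prime_pow {c : F} {k : ℕ} (h : c ^ p ^ k = 1) : c = 1 := by
  have h1 : (c - 1) ^ p ^ k = 0 := by rw [sub_pow_char_pow, h, one_pow, sub_self]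
  exact sub_eq_zero.1 (eq_zero_of_pow_eq_zero h1)

theorem unitri_pow_eq_one [NeZero n] {A : Matrix.SpecialLinearGroup (Fin n) F} (hA : A ∈ unitri) :
    A ^ p ^ n = 1 := by
  haveI : CharP (Matrix (Fin n) (Fin n) F) p := Matrix.charP p
  obtain ⟨h1, h2⟩ := mem_unitri.1 hA
  have hc : A.1.charpoly = (Polynomial.X - 1) ^ n := by
    rw [Matrix.charpoly_of_upperTriangular _ h1]
    simp [h2]
  have h3 : (A.1 - 1) ^ n = 0 := by
    have := Matrix.aeval_self_charpoly A.1
    rw [hc] at this
    simpa using this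
  have h4 : (A.1 - 1) ^ p ^ n = 0 :=
    pow_eq_zero_of_le (Nat.lt_pow_self (Fact.out (p := p.Prime)).one_lt).le h3
  rw [sub_pow_char_pow_of_commute _ _ (Commute.one_right _), one_pow, sub_eq_zero] at h4
  exact Subtype.ext (by simpa using h4)

/-- A matrix conjugating every unitriangular matrix into a unitriangular one is triangular. -/
theorem upper_of_normalizes {g : Matrix.SpecialLinearGroup (Fin n) F}
    (hg : ∀ u ∈ unitri, g * u * g⁻¹ ∈ unitri) : BlockTriangular g.1 id := by
  intro k c hck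
  by_contra hne
  change c < k at hck
  have hz : ∀ b l : Fin n, c < b → l ≤ k → (g⁻¹).1 b l = 0 := by
    intro b l hcb hlk
    have hm := mem_unitri.1 (hg _ (tv_mem_unitri hcb 1))
    set h := g⁻¹ with hh
    have hexp : (g * tv ((1 : F) • ev c) (ev b) (by rw [dotProduct_smul, ev_dot hcb.ne, smul_zero]) *
        h).1 = 1 + g.1 * Matrix.single c b (1 : F) * h.1 := by
      simp only [Matrix.SpecialLinearGroup.coe_mul, tv_val, rk1, one_smul, vecMulVec_ev, mul_add,
        add_mul, mul_one]
      rw [← Matrix.SpecialLinearGroup.coe_mul, hh, mul_inv_cancel,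
        Matrix.SpecialLinearGroup.coe_one]
    rw [hexp] at hm
    have hent : (g.1 * Matrix.single c b (1 : F) * h.1) k l = g.1 k c * h.1 b l := by
      simp only [Matrix.mul_apply, Matrix.single_apply, mul_ite, mul_zero, mul_one, ite_and,
        Finset.sum_ite_eq, Finset.mem_univ, if_true, ite_mul, zero_mul]
    rcases eq_or_lt_of_le hlk with rfl | hlt
    · have := hm.2 l
      rw [Matrix.add_apply, Matrix.one_apply_eq, hent] at this
      exact (mul_eq_zero.1 (by linear_combination this)).resolve_left hne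
    · have := hm.1 (show id l < id k from hlt)
      rw [Matrix.add_apply, Matrix.one_apply_ne hlt.ne', hent, zero_add] at this
      exact (mul_eq_zero.1 this).resolve_left hne
  set h := g⁻¹ with hh
  let f : (Fin (k.val + 1) → F) →ₗ[F] (Fin (c.val + 1) → F) :=
    Matrix.mulVecLin (h.1.submatrix (Fin.castLE c.isLt) (Fin.castLE k.isLt))
  have hf : Function.Injective f := by
    refine (injective_iff_map_eq_zero f).2 fun x hx => ?_
    set y : Fin n → F := fun i => if hi : i.val < k.val + 1 then x ⟨i.val, hi⟩ else 0 with hy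
    have hy0 : h.1 *ᵥ y = 0 := by
      funext b
      rcases le_or_gt b c with hb | hb
      · have hxb := congrFun hx ⟨b.val, Nat.lt_succ_of_le hb⟩
        rw [Pi.zero_apply] at hxb ⊢
        rw [← hxb]
        show ∑ l, h.1 b l * y l = ∑ j, _ * x j
        refine (Finset.sum_of_injOn (Fin.castLE k.isLt)
          (Fin.castLE_injective _).injOn (by simp) ?_ ?_).symm
        · intro i _ hi
          have : ¬ i.val < k.val + 1 := fun hlt => hi ⟨⟨i.val, hlt⟩, by simp, by ext; rfl⟩
          simp only [hy, dif_neg this, mul_zero]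
        · intro j _
          have hj : (Fin.castLE k.isLt j).val < k.val + 1 := j.isLt
          simp only [hy, dif_pos hj, Matrix.submatrix_apply]
          congr 1
      · show ∑ l, h.1 b l * y l = 0
        refine Finset.sum_eq_zero fun l _ => ?_
        by_cases hl : l.val < k.val + 1
        · rw [hz b l hb (Fin.le_def.2 (Nat.lt_succ_iff.1 hl)), zero_mul]
        · simp only [hy, dif_neg hl, mul_zero]
    have hy1 : y = 0 := by
      have := congrArg (fun z => g.1 *ᵥ z) hy0
      rwa [mulVec_mulVec, mulVec_zero, ← Matrix.SpecialLinearGroup.coe_mul, hh, mul_inv_cancel,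
        Matrix.SpecialLinearGroup.coe_one, one_mulVec] at this
    funext j
    have := congrFun hy1 (Fin.castLE k.isLt j)
    have hj : (Fin.castLE k.isLt j).val < k.val + 1 := j.isLt
    simp only [hy, dif_pos hj, Pi.zero_apply] at this
    exact this
  have := LinearMap.finrank_le_finrank_of_injective hf
  simp only [Module.finrank_fin_fun] at this
  have : c.val < k.val := hck
  omega

/-- Image of the unitriangular group in `PSL`. -/
def projU : Subgroup (Matrix.ProjectiveSpecialLinearGroup (Fin n) F) := unitri.map proj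

theorem isPGroup_projU [NeZero n] : IsPGroup p (projU (n := n) (F := F)) := by
  rintro ⟨x, u, hu, rfl⟩
  exact ⟨n, Subtype.ext (by
    rw [SubgroupClass.coe_pow, ← map_pow, unitri_pow_eq_one (p := p) hu, map_one,
      Subgroup.coe_one])⟩

theorem projU_maximal [NeZero n] {Q : Subgroup (Matrix.ProjectiveSpecialLinearGroup (Fin n) F)}
    (hQ : IsPGroup p Q) (hle : projU ≤ Q) : Q = projU := by
  by_contra hne
  haveI : Finite Q := inferInstance
  haveI := hQ.isNilpotent
  set U' := (projU (n := n) (F := F)).subgroupOf Q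
  have hU' : U' < ⊤ := by
    rw [lt_top_iff_ne_top, Ne, Subgroup.subgroupOf_eq_top]
    exact fun h => hne (le_antisymm h hle)
  obtain ⟨x, hxN, hxU⟩ := SetLike.exists_of_lt (Group.normalizerCondition_of_isNilpotent U' hU')
  obtain ⟨g, hg⟩ := QuotientGroup.mk'_surjective _ (x : Matrix.ProjectiveSpecialLinearGroup (Fin n) F)
  have hconj : ∀ u ∈ unitri, g * u * g⁻¹ ∈ unitri := by
    intro u hu
    have hmem : (⟨proj u, hle ⟨u, hu, rfl⟩⟩ : Q) ∈ U' := ⟨u, hu, rfl⟩
    have h1 := (Subgroup.mem_normalizer_iff.1 hxN _).1 hmem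
    obtain ⟨w, hw, hwe⟩ := h1
    have hwe' : proj w = proj (g * u * g⁻¹) := by
      rw [map_mul, map_mul, map_inv, show proj g = _ from hg]
      exact hwe
    obtain ⟨c, -, hc⟩ := proj_eq_iff.1 hwe'
    have hp1 : (g * u * g⁻¹).1 ^ p ^ n = 1 := by
      rw [← Matrix.SpecialLinearGroup.coe_pow, conj_pow, unitri_pow_eq_one hu, mul_one,
        mul_inv_cancel, Matrix.SpecialLinearGroup.coe_one]
    rw [hc, smul_pow, ← Matrix.SpecialLinearGroup.coe_pow, unitri_pow_eq_one hw,
      Matrix.SpecialLinearGroup.coe_one] at hp1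
    have hc1 : c = 1 := eq_one_of_pow_prime_pow (p := p) (k := n) (by
      simpa using congrFun (congrFun hp1 0) 0)
    rw [hc1, one_smul] at hc
    rwa [show g * u * g⁻¹ = w from Subtype.ext hc]
  have hup := upper_of_normalizes hconj
  obtain ⟨k, hk⟩ := hQ x
  have hk' : proj 1 = proj (g ^ p ^ k) := by
    rw [map_one, map_pow, show proj g = _ from hg, ← SubgroupClass.coe_pow, hk, Subgroup.coe_one]
  obtain ⟨c, -, hc⟩ := proj_eq_iff.1 hk'
  have hdiag : ∀ (m : ℕ), BlockTriangular (g.1 ^ m) id ∧ ∀ i, (g.1 ^ m) i i = (g.1 i i) ^ m := by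
    intro m
    induction m with
    | zero => exact ⟨by rw [pow_zero]; exact blockTriangular_one, fun i => by simp⟩
    | succ m ih =>
      refine ⟨by rw [pow_succ]; exact ih.1.mul hup, fun i => ?_⟩
      rw [pow_succ, Matrix.mul_apply, Finset.sum_eq_single i, ih.2, pow_succ]
      · intro j _ hj
        rcases lt_or_gt_of_ne hj with h | h
        · rw [ih.1 (show id j < id i from h), zero_mul]
        · rw [hup (show id i < id j from h), mul_zero]
      · intro h; exact absurd (Finset.mem_univ i) h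
  have hd : ∀ i, g.1 i i = g.1 0 0 := by
    intro i
    have e : ∀ j, (g.1 j j) ^ p ^ k = c := fun j => by
      rw [← (hdiag _).2, ← Matrix.SpecialLinearGroup.coe_pow, hc]
      simp
    have : (g.1 i i - g.1 0 0) ^ p ^ k = 0 := by rw [sub_pow_char_pow, e, e, sub_self]
    exact sub_eq_zero.1 (eq_zero_of_pow_eq_zero this)
  have hdet : (g.1 0 0) ^ n = 1 := by
    have h1 := g.2
    rw [Matrix.det_of_isUpperTriangular hup, Finset.prod_congr rfl fun i _ => hd i,
      Finset.prod_const, Finset.card_univ, Fintype.card_fin] at h1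
    exact h1
  have hd0 : g.1 0 0 ≠ 0 := fun h => by simp [h, zero_pow (NeZero.ne n)] at hdet
  let w : Matrix.SpecialLinearGroup (Fin n) F := ⟨(g.1 0 0)⁻¹ • g.1, by
    rw [Matrix.det_smul, g.2, mul_one, Fintype.card_fin, inv_pow, hdet, inv_one]⟩
  refine hxU ⟨w, mem_unitri.2 ⟨fun i j hij => ?_, fun i => ?_⟩, ?_⟩
  · simp [w, hup hij]
  · simp [w, hd i, hd0]
  · show proj w = (x : Matrix.ProjectiveSpecialLinearGroup (Fin n) F)
    rw [← hg]
    refine proj_eq_iff.2 ⟨g.1 0 0, hdet, ?_⟩
    simp [w, smul_smul, hd0]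

/-- The Sylow subgroup. -/
def sylowU [NeZero n] : Sylow p (Matrix.ProjectiveSpecialLinearGroup (Fin n) F) where
  toSubgroup := projU
  isPGroup' := isPGroup_projU
  is_maximal' := fun hQ hle => projU_maximal hQ hle

/-- The centre of the Sylow subgroup is the root group of `(e₀, e_last)`. -/
theorem center_projU {m : ℕ} (hm : (0 : Fin (m + 2)) ≠ Fin.last (m + 1)) :
    (projU (n := m + 2) (F := F)) ⊓ Subgroup.centralizer (projU (n := m + 2) (F := F)) =
      rootGp (ev 0) (ev (Fin.last (m + 1))) (ev_dot hm) := by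
  have hlt : (0 : Fin (m + 2)) < Fin.last (m + 1) := Fin.pos_iff_ne_zero.2 hm.symm
  apply le_antisymm
  · rintro x ⟨⟨w, hw, rfl⟩, hx⟩
    have hcomm : ∀ a b : Fin (m + 2), a < b →
        w.1 * Matrix.single a b (1 : F) = Matrix.single a b (1 : F) * w.1 := by
      intro a b hab
      set u := tv ((1 : F) • (ev a : Fin (m + 2) → F)) (ev b) (by rw [dotProduct_smul, ev_dot hab.ne, smul_zero])
      have hu : u ∈ unitri := tv_mem_unitri hab 1
      have h1 : proj (w * u) = proj (u * w) := by
        rw [map_mul, map_mul]; exact (hx (proj u) ⟨u, hu, rfl⟩).symm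
      obtain ⟨c, -, hc⟩ := proj_eq_iff.1 h1
      have hc1 : c = 1 := by
        have h00 := congrFun (congrFun hc 0) 0
        rw [Matrix.smul_apply, (mem_unitri.1 (mul_mem hu hw)).2, (mem_unitri.1 (mul_mem hw hu)).2,
          smul_eq_mul, mul_one] at h00
        exact h00.symm
      rw [hc1, one_smul] at hc
      have h2 : u.1 * w.1 = w.1 * u.1 := hc
      simp only [u, tv_val, rk1, one_smul, vecMulVec_ev, mul_add, add_mul, mul_one, one_mul,
        add_right_inj] at h2
      exact h2.symm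
    obtain ⟨hw1, hw2⟩ := mem_unitri.1 hw
    have hzero : ∀ i j, i ≠ j → ¬ (i = 0 ∧ j = Fin.last (m + 1)) → w.1 i j = 0 := by
      intro i j hij hne
      rcases lt_or_gt_of_ne hij with h | h
      · by_cases hi : i = 0
        · have hj : j < Fin.last (m + 1) := Fin.lt_last_iff_ne_last.2 fun h' => hne ⟨hi, h'⟩
          have := congrFun (congrFun (hcomm j _ hj) i) (Fin.last (m + 1))
          simpa [Matrix.mul_apply, Matrix.single_apply, ite_and, hij, hij.symm] using this
        · have h0 : (0 : Fin (m + 2)) < i := Fin.pos_iff_ne_zero.2 hi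
          have := congrFun (congrFun (hcomm 0 i h0) 0) j
          simpa [Matrix.mul_apply, Matrix.single_apply, ite_and, hij, hij.symm] using this.symm
      · exact hw1 h
    refine mem_rootGp.2 ⟨w.1 0 (Fin.last (m + 1)), congrArg proj (Subtype.ext ?_)⟩
    ext i j
    simp only [tv_val, rk1, smul_vecMulVec, vecMulVec_ev, Matrix.add_apply, Matrix.smul_apply,
      Matrix.single_apply, smul_eq_mul]
    by_cases hij : i = j
    · subst hij
      rw [hw2, Matrix.one_apply_eq, if_neg (fun h => hm (h.1.trans h.2.symm)), mul_zero, add_zero]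
    · rw [Matrix.one_apply_ne hij, zero_add]
      by_cases h : i = 0 ∧ j = Fin.last (m + 1)
      · rw [if_pos ⟨h.1.symm, h.2.symm⟩, mul_one, h.1, h.2]
      · rw [if_neg (fun h' => h ⟨h'.1.symm, h'.2.symm⟩), mul_zero, hzero i j hij h]
  · rintro x hx
    obtain ⟨t, rfl⟩ := mem_rootGp.1 hx
    refine ⟨⟨_, tv_mem_unitri hlt t, rfl⟩, ?_⟩
    rintro y ⟨u, hu, rfl⟩
    obtain ⟨hu1, hu2⟩ := mem_unitri.1 hu
    rw [← map_mul, ← map_mul]
    congr 1
    apply Subtype.ext
    simp only [Matrix.SpecialLinearGroup.coe_mul, tv_val, rk1, mul_add, add_mul, mul_one, one_mul,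
      add_right_inj, mul_vecMulVec, vecMulVec_mul]
    congr 1
    · rw [mulVec_smul]
      congr 1
      funext i
      rw [ev, mulVec_single_one]
      show u.1 i 0 = _
      rcases eq_or_ne i 0 with rfl | hi
      · simp [hu2]
      · simp [hi, hu1 (show id (0 : Fin (m + 2)) < id i from Fin.pos_iff_ne_zero.2 hi)]
    · funext j
      rw [ev, single_one_vecMul]
      show _ = u.1 (Fin.last (m + 1)) j
      rcases eq_or_ne j (Fin.last (m + 1)) with rfl | hj
      · simp [hu2]
      · simp [hj, hu1 (show id j < id (Fin.last (m + 1)) from Fin.lt_last_iff_ne_last.2 hj)]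

/-- Conjugating a root group in `PSL` by an element of `PSL`. -/
theorem map_conj_rootGp (g : Matrix.SpecialLinearGroup (Fin n) F) (v f : Fin n → F)
    (h : f ⬝ᵥ v = 0) :
    ∃ h' : (f ᵥ* (g⁻¹).1) ⬝ᵥ (g.1 *ᵥ v) = 0,
      (rootGp v f h).map (MulAut.conj (proj g)).toMonoidHom =
        rootGp (g.1 *ᵥ v) (f ᵥ* (g⁻¹).1) h' := by
  refine ⟨by rw [← dotProduct_mulVec, mulVec_mulVec, ← Matrix.SpecialLinearGroup.coe_mul,
    inv_mul_cancel, Matrix.SpecialLinearGroup.coe_one, one_mulVec, h], ?_⟩
  have key : ∀ (t : F) (e : f ⬝ᵥ (t • v) = 0) (e' : (f ᵥ* (g⁻¹).1) ⬝ᵥ (t • (g.1 *ᵥ v)) = 0),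
      MulAut.conj (proj g) (proj (tv (t • v) f e)) =
        proj (tv (t • (g.1 *ᵥ v)) (f ᵥ* (g⁻¹).1) e') := by
    intro t e e'
    rw [MulAut.conj_apply, ← map_inv, ← map_mul, ← map_mul]
    congr 1
    apply Subtype.ext
    simp only [Matrix.SpecialLinearGroup.coe_mul, tv_val]
    rw [show g.1 * rk1 (t • v) f * (g⁻¹).1 = _ from
      (congrArg (fun x => g.1 * rk1 (t • v) f * x)
        (by rw [← map_inv]; rfl :
          (g⁻¹).1 = ((Matrix.SpecialLinearGroup.toGL g)⁻¹).1)).trans
        (conj_rk1 (Matrix.SpecialLinearGroup.toGL g) (t • v) f)]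
    rw [← map_inv, mulVec_smul]
    rfl
  ext x
  rw [Subgroup.mem_map, mem_rootGp]
  constructor
  · rintro ⟨y, hy, rfl⟩
    obtain ⟨t, rfl⟩ := mem_rootGp.1 hy
    exact ⟨t, key t _ _⟩
  · rintro ⟨t, rfl⟩
    exact ⟨_, mem_rootGp.2 ⟨t, rfl⟩, key t _ _⟩

/-- Every automorphism sends the central root group to a root group. -/
theorem exists_map_rootGp_central {m : ℕ} (hm : (0 : Fin (m + 2)) ≠ Fin.last (m + 1))
    (γ : MulAut (Matrix.ProjectiveSpecialLinearGroup (Fin (m + 2)) F)) :
    ∃ (v f : Fin (m + 2) → F) (h : f ⬝ᵥ v = 0), v ≠ 0 ∧ f ≠ 0 ∧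
      (rootGp (ev 0) (ev (Fin.last (m + 1))) (ev_dot hm)).map γ.toMonoidHom = rootGp v f h := by
  obtain ⟨p, hp⟩ := CharP.exists F
  haveI : NeZero p := ⟨fun h0 => by
    subst h0
    haveI := CharP.charP_to_charZero F
    exact not_finite F⟩
  haveI := CharP.char_is_prime F p |> Fact.mk
  set T := Matrix.ProjectiveSpecialLinearGroup (Fin (m + 2)) F
  let P : Sylow p T := sylowU
  haveI : Finite (Sylow p T) := inferInstance
  let P' : Sylow p T := γ • P
  obtain ⟨x, hx⟩ := MulAction.exists_smul_eq T P P'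
  have e1 : (projU (n := m + 2) (F := F)).map γ.toMonoidHom =
      (projU (n := m + 2) (F := F)).map (MulAut.conj x).toMonoidHom :=
    (congrArg Sylow.toSubgroup hx).symm
  have hmap : ∀ (e : T ≃* T) (H : Subgroup T),
      (H ⊓ Subgroup.centralizer (H : Set T)).map e.toMonoidHom =
        H.map e.toMonoidHom ⊓ Subgroup.centralizer ((H.map e.toMonoidHom : Subgroup T) : Set T) := by
    intro e H
    ext y
    simp only [Subgroup.mem_map, Subgroup.mem_inf, Subgroup.mem_centralizer_iff, SetLike.mem_coe,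
      MulEquiv.coe_toMonoidHom]
    constructor
    · rintro ⟨z, ⟨hz, hz'⟩, rfl⟩
      exact ⟨⟨z, hz, rfl⟩, by rintro _ ⟨w, hw, rfl⟩; rw [← map_mul, hz' w hw, map_mul]⟩
    · rintro ⟨⟨z, hz, rfl⟩, hy⟩
      exact ⟨z, ⟨hz, fun w hw => e.injective (by simpa using hy _ ⟨w, hw, rfl⟩)⟩, rfl⟩
  have e2 := congrArg (fun H : Subgroup T => H ⊓ Subgroup.centralizer (H : Set T)) e1
  simp only [← hmap, center_projU hm] at e2
  obtain ⟨g, rfl⟩ := QuotientGroup.mk'_surjective _ x
  obtain ⟨h', he⟩ := map_conj_rootGp g (ev 0) (ev (Fin.last (m + 1))) (ev_dot hm)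
  refine ⟨_, _, h', fun h0 => ev_ne_zero (F := F) (0 : Fin (m + 2)) ?_,
    fun h0 => ev_ne_zero (F := F) (Fin.last (m + 1)) ?_, e2.trans he⟩
  · have := congrArg (fun z => (g⁻¹).1 *ᵥ z) h0
    rwa [mulVec_mulVec, mulVec_zero, ← Matrix.SpecialLinearGroup.coe_mul, inv_mul_cancel,
      Matrix.SpecialLinearGroup.coe_one, one_mulVec] at this
  · have := congrArg (fun z => z ᵥ* g.1) h0
    rwa [vecMul_vecMul, zero_vecMul, ← Matrix.SpecialLinearGroup.coe_mul, inv_mul_cancel,
      Matrix.SpecialLinearGroup.coe_one, vecMul_one] at this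

end CfsgLib.AutPSL
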