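import Mathlib
import Cfsg.Agent.Lib.AutPSL.Sylow
import Cfsg.Agent.Lib.AutPSL.Ind

/-!
Every automorphism of `PSL_n(F)` over a finite field is induced by a semilinear map, possibly
followed by the inverse transpose.
-/

set_option autoImplicit false

namespace CfsgLib.AutPSL

open Matrix

variable {n : ℕ} {F : Type*} [Field F]

/-! ### Elementary facts -/

theorem eq_of_one_add_smul [NeZero n] {A B : Matrix (Fin n) (Fin n) F} {c : F} (hA : A * A = 0)
    (hB : B * B = 0) (he : 1 + A = c • (1 + B)) : A = B := by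
  have hA' : A = (c - 1) • (1 : Matrix (Fin n) (Fin n) F) + c • B := by
    rw [sub_smul, one_smul, sub_add_eq_add_sub, ← smul_add, ← he]; abel
  rcases eq_or_ne c 1 with rfl | hc
  · simpa using hA'
  exfalso
  rw [hA'] at hA
  simp only [add_mul, mul_add, smul_mul_smul_comm, mul_one, one_mul, hB, smul_zero, add_zero] at hA
  have h2 := congrArg (fun M => M * B) hA
  simp only [add_mul, smul_mul_assoc, one_mul, hB, smul_zero, add_zero, zero_mul] at h2
  have hB0 : B = 0 := (smul_eq_zero.1 h2).resolve_left (mul_ne_zero (sub_ne_zero.2 hc) (sub_ne_zero.2 hc))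
  rw [hB0, smul_zero, smul_zero, add_zero, add_zero] at hA
  rcases smul_eq_zero.1 hA with h3 | h3
  · exact sub_ne_zero.2 hc (mul_self_eq_zero.1 h3)
  · exact one_ne_zero h3

theorem vecMulVec_smul_eq (v f : Fin n → F) (a b : F) :
    vecMulVec (a • v) (b • f) = (a * b) • vecMulVec v f := by
  rw [smul_vecMulVec, vecMulVec_smul, smul_smul]

theorem rootGp_congr {v f w g : Fin n → F} (hv : Par v w) (hf : Par f g) (h : f ⬝ᵥ v = 0)
    (h' : g ⬝ᵥ w = 0) : rootGp v f h = rootGp w g h' := by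
  obtain ⟨a, ha, rfl⟩ := hv
  obtain ⟨b, hb, rfl⟩ := hf
  ext x
  rw [mem_rootGp, mem_rootGp]
  constructor
  · rintro ⟨t, rfl⟩
    refine ⟨t / (a * b), congrArg proj (tv_congr _ _ ?_)⟩
    rw [smul_smul, vecMulVec_smul_eq, smul_vecMulVec, div_mul_eq_mul_div, div_mul_eq_mul_div]
    congr 1
    field_simp
  · rintro ⟨t, rfl⟩
    refine ⟨t * (a * b), congrArg proj (tv_congr _ _ ?_)⟩
    rw [smul_smul, vecMulVec_smul_eq, smul_vecMulVec, mul_assoc]

theorem par_of_vecMulVec_eq {v f w g : Fin n → F} (hv : v ≠ 0) (hf : f ≠ 0)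
    (he : vecMulVec v f = vecMulVec w g) : Par w v ∧ Par g f := by
  obtain ⟨r, hr⟩ := Function.ne_iff.1 hv
  obtain ⟨s, hs⟩ := Function.ne_iff.1 hf
  have hent : ∀ a b, v a * f b = w a * g b := fun a b => congrFun (congrFun he a) b
  have hgs : g s ≠ 0 := fun h => mul_ne_zero hr hs (by rw [hent, h, mul_zero])
  have hwr : w r ≠ 0 := fun h => mul_ne_zero hr hs (by rw [hent, h, zero_mul])
  refine ⟨⟨g s / f s, div_ne_zero hgs hs, funext fun a => ?_⟩,
    ⟨w r / v r, div_ne_zero hwr hr, funext fun b => ?_⟩⟩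
  · show v a = g s / f s * w a
    rw [div_mul_eq_mul_div, eq_div_iff hs]
    linear_combination hent a s
  · show f b = w r / v r * g b
    rw [div_mul_eq_mul_div, eq_div_iff hr]
    linear_combination hent r b

theorem Par.dot_eq_zero_right {v w f : Fin n → F} (hv : Par v w) (h : f ⬝ᵥ v = 0) :
    f ⬝ᵥ w = 0 := by
  obtain ⟨c, -, rfl⟩ := hv
  rw [dotProduct_smul, h, smul_zero]

theorem Par.dot_eq_zero_left {v f g : Fin n → F} (hf : Par f g) (h : f ⬝ᵥ v = 0) :
    g ⬝ᵥ v = 0 := by
  obtain ⟨c, -, rfl⟩ := hf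
  rw [smul_dotProduct, h, smul_zero]

theorem Par.neg {v w : Fin n → F} (h : Par v w) : Par (-v) (-w) := by
  obtain ⟨c, hc, rfl⟩ := h
  exact ⟨c, hc, by rw [smul_neg]⟩

theorem par_ev_eq {i j : Fin n} (h : Par (ev i : Fin n → F) (ev j)) : i = j := by
  obtain ⟨c, -, hc⟩ := h
  by_contra hne
  have := congrFun hc j
  simp [ev, Pi.single_eq_of_ne' hne] at this

theorem ev_ne (i : Fin n) {t : F} (ht : t ≠ 0) : t • (ev i : Fin n → F) ≠ 0 :=
  smul_ne_zero ht (ev_ne_zero i)

theorem dot_ev_self (i : Fin n) : (ev i : Fin n → F) ⬝ᵥ ev i = 1 := by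
  rw [ev, single_one_dotProduct, Pi.single_eq_same]

theorem dot_smul_ev {i j : Fin n} (hij : i ≠ j) (t : F) :
    (ev j : Fin n → F) ⬝ᵥ (t • ev i) = 0 := by rw [dotProduct_smul, ev_dot hij, smul_zero]

/-- The standard root element `x_{ij}(t)`. -/
def xr {i j : Fin n} (hij : i ≠ j) (t : F) : Matrix.SpecialLinearGroup (Fin n) F :=
  tv (t • ev i) (ev j) (dot_smul_ev hij t)

theorem xr_eq_transvection {i j : Fin n} (hij : i ≠ j) (t : F) :
    xr hij t = Matrix.SpecialLinearGroup.transvection hij t := by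
  apply Subtype.ext
  rw [xr, tv_val, rk1, smul_vecMulVec, vecMulVec_ev, Matrix.SpecialLinearGroup.transvection_coe,
    Matrix.smul_single, smul_eq_mul, mul_one]

theorem xr_mul {i j : Fin n} (hij : i ≠ j) (s t : F) : xr hij s * xr hij t = xr hij (s + t) := by
  rw [xr, xr, tv_mul']
  exact tv_congr _ _ (by rw [add_smul])

theorem xr_zero {i j : Fin n} (hij : i ≠ j) : xr hij (0 : F) = 1 :=
  tv_eq_one _ (by simp)

theorem proj_xr_inj [NeZero n] {i j : Fin n} (hij : i ≠ j) {s t : F}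
    (h : proj (xr hij s) = proj (xr hij t)) : s = t := by
  have h' := (proj_tv_eq _ _).1 h
  rw [smul_vecMulVec, smul_vecMulVec] at h'
  exact smul_left_injective F (vecMulVec_ne_zero (ev_ne_zero i) (ev_ne_zero j)) h'

theorem mem_rootGp_xr {i j : Fin n} (hij : i ≠ j)
    {x : Matrix.ProjectiveSpecialLinearGroup (Fin n) F} :
    x ∈ rootGp (ev i) (ev j) (ev_dot hij) ↔ ∃ t : F, x = proj (xr hij t) := mem_rootGp

/-- `diag (c, c⁻¹)` in two coordinates is a product of root elements. -/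
theorem diag2n_eq {i j : Fin n} (hij : i ≠ j) (c : F) (hc : c ≠ 0) :
    Matrix.SpecialLinearGroup.diag2n hij c hc =
      xr hij c * xr hij.symm (-c⁻¹) * xr hij c * xr hij (-1) * xr hij.symm 1 * xr hij (-1) := by
  simp only [xr_eq_transvection]
  apply Subtype.ext
  simp only [Matrix.SpecialLinearGroup.coe_mul, Matrix.SpecialLinearGroup.transvection_coe,
    Matrix.SpecialLinearGroup.diag2n_coe]
  have h1 : ∀ a b : F, Matrix.single i j a * Matrix.single i j b = 0 := fun a b =>
    Matrix.single_mul_single_of_ne _ _ _ _ hij.symm _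
  have h2 : ∀ a b : F, Matrix.single j i a * Matrix.single j i b = 0 := fun a b =>
    Matrix.single_mul_single_of_ne _ _ _ _ hij _
  have h3 : ∀ a b : F, Matrix.single i i a * Matrix.single j i b = 0 := fun a b =>
    Matrix.single_mul_single_of_ne _ _ _ _ hij _
  have h4 : ∀ a b : F, Matrix.single j j a * Matrix.single i j b = 0 := fun a b =>
    Matrix.single_mul_single_of_ne _ _ _ _ hij.symm _
  have h5 : ∀ a b : F, Matrix.single i j a * Matrix.single i i b = 0 := fun a b =>
    Matrix.single_mul_single_of_ne _ _ _ _ hij.symm _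
  have h6 : ∀ a b : F, Matrix.single j i a * Matrix.single j j b = 0 := fun a b =>
    Matrix.single_mul_single_of_ne _ _ _ _ hij _
  simp only [mul_add, add_mul, one_mul, mul_one, Matrix.single_mul_single_same, h1, h2, h3, h4, h5,
    h6, mul_zero, zero_mul, add_zero, zero_add]
  ext r s
  by_cases hri : r = i <;> by_cases hrj : r = j <;> by_cases hsi : s = i <;>
    by_cases hsj : s = j <;>
    simp_all [Matrix.single_apply, Matrix.one_apply, Matrix.diagonal_apply, eq_comm] <;>
    field_simp <;> ring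

theorem aut_ext (hn : 2 ≤ n) {β γ : MulAut (Matrix.ProjectiveSpecialLinearGroup (Fin n) F)}
    (h : ∀ (i j : Fin n) (hij : i ≠ j) (t : F), β (proj (xr hij t)) = γ (proj (xr hij t))) :
    β = γ := by
  haveI : Nontrivial (Fin n) := Fin.nontrivial_iff_two_le.2 hn
  refine MulEquiv.ext fun x => ?_
  obtain ⟨s, rfl⟩ := QuotientGroup.mk'_surjective _ x
  refine Matrix.SpecialLinearGroup.diagonal_transvection_induction'
    (fun M => β (proj M) = γ (proj M)) s ?_ ?_ ?_
  · intro i j hij c hc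
    simp only [diag2n_eq hij c hc, map_mul, h]
  · intro i j hij a
    rw [← xr_eq_transvection]
    exact h i j hij a
  · intro A B hA hB
    simp only [map_mul, hA, hB]

theorem commute_proj_xr_iff [NeZero n] {i j k l : Fin n} (hij : i ≠ j) (hkl : k ≠ l) :
    Commute (proj (xr hij (1 : F))) (proj (xr hkl 1)) ↔ j ≠ k ∧ i ≠ l := by
  rw [xr, xr, commute_tv_iff (ev_ne i one_ne_zero) (ev_ne_zero j) (ev_ne k one_ne_zero)
    (ev_ne_zero l), one_smul, one_smul]
  constructor
  · rintro ⟨h1, h2⟩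
    exact ⟨fun h => by rw [h, dot_ev_self] at h1; exact one_ne_zero h1,
      fun h => by rw [h, dot_ev_self] at h2; exact one_ne_zero h2⟩
  · rintro ⟨h1, h2⟩
    exact ⟨ev_dot h1.symm, ev_dot h2⟩

theorem ind_proj_tv (g : GL (Fin n) F) (σ : RingAut F) (v f : Fin n → F) (h : f ⬝ᵥ v = 0) :
    ∃ h', ind g σ (proj (tv v f h)) =
      proj (tv (g.1 *ᵥ (σ ∘ v)) ((σ ∘ f) ᵥ* (g⁻¹).1) h') := by
  have h0 : (σ ∘ f) ⬝ᵥ (σ ∘ v) = 0 := by
    rw [← map_zero σ, ← h]; exact ((σ.toRingHom).map_dotProduct f v).symm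
  refine ⟨by rw [dotProduct_conj, h0], ?_⟩
  show proj (slConj g (slField σ (tv v f h))) = _
  rw [slField_tv, slConj_tv]

theorem map_ind_rootGp (g : GL (Fin n) F) (v f : Fin n → F) (h : f ⬝ᵥ v = 0) :
    ∃ h', (rootGp v f h).map (ind g 1).toMonoidHom = rootGp (g.1 *ᵥ v) (f ᵥ* (g⁻¹).1) h' := by
  refine ⟨by rw [dotProduct_conj, h], ?_⟩
  have key : ∀ (t : F) (e : f ⬝ᵥ (t • v) = 0) (e' : (f ᵥ* (g⁻¹).1) ⬝ᵥ (t • (g.1 *ᵥ v)) = 0),
      ind g 1 (proj (tv (t • v) f e)) = proj (tv (t • (g.1 *ᵥ v)) (f ᵥ* (g⁻¹).1) e') := by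
    intro t e e'
    obtain ⟨h', he⟩ := ind_proj_tv g 1 (t • v) f e
    rw [he]
    exact congrArg proj (tv_congr _ _ (congrArg (fun x => vecMulVec x (f ᵥ* (g⁻¹).1))
      (mulVec_smul g.1 t v)))
  ext x
  rw [Subgroup.mem_map, mem_rootGp]
  constructor
  · rintro ⟨y, hy, rfl⟩
    obtain ⟨t, rfl⟩ := mem_rootGp.1 hy
    exact ⟨t, key t _ _⟩
  · rintro ⟨t, rfl⟩
    exact ⟨_, mem_rootGp.2 ⟨t, rfl⟩, key t _ _⟩

theorem map_itAut_rootGp (v f : Fin n → F) (h : f ⬝ᵥ v = 0) :
    ∃ h', (rootGp v f h).map (itAut (n := n) (F := F)).toMonoidHom = rootGp (-f) v h' := by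
  refine ⟨by rw [dotProduct_neg, dotProduct_comm, h, neg_zero], ?_⟩
  have key : ∀ (t : F) (e : f ⬝ᵥ (t • v) = 0) (e' : v ⬝ᵥ (t • -f) = 0),
      itAut (proj (tv (t • v) f e)) = proj (tv (t • -f) v e') := by
    intro t e e'
    show proj (slIT (tv (t • v) f e)) = _
    rw [slIT_tv]
    refine congrArg proj (tv_congr _ _ ?_)
    rw [vecMulVec_smul, smul_vecMulVec]
  ext x
  rw [Subgroup.mem_map, mem_rootGp]
  constructor
  · rintro ⟨y, hy, rfl⟩
    obtain ⟨t, rfl⟩ := mem_rootGp.1 hy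
    exact ⟨t, key t _ _⟩
  · rintro ⟨t, rfl⟩
    exact ⟨_, mem_rootGp.2 ⟨t, rfl⟩, key t _ _⟩

variable [Finite F]

/-- An automorphism maps each standard root group to a root group. -/
theorem exists_map_rootGp (β : MulAut (Matrix.ProjectiveSpecialLinearGroup (Fin n) F))
    {i j : Fin n} (hij : i ≠ j) :
    ∃ (v f : Fin n → F) (h : f ⬝ᵥ v = 0), v ≠ 0 ∧ f ≠ 0 ∧
      (rootGp (ev i) (ev j) (ev_dot hij)).map β.toMonoidHom = rootGp v f h := by
  obtain ⟨m, rfl⟩ : ∃ m, n = m + 2 :=
    ⟨n - 2, by have := Fintype.one_lt_card_iff.2 ⟨i, j, hij⟩; simp at this; omega⟩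
  have hm : (0 : Fin (m + 2)) ≠ Fin.last (m + 1) := by
    intro h; simpa using congrArg Fin.val h
  set π : Equiv.Perm (Fin (m + 2)) :=
    Equiv.swap (Equiv.swap 0 i (Fin.last (m + 1))) j * Equiv.swap 0 i with hπ
  have hπ0 : π 0 = i := by
    have : i ≠ Equiv.swap 0 i (Fin.last (m + 1)) := fun h => hm
      ((Equiv.swap 0 i).injective (by rw [Equiv.swap_apply_left]; exact h))
    rw [hπ, Equiv.Perm.mul_apply, Equiv.swap_apply_left, Equiv.swap_apply_of_ne_of_ne this hij]
  have hπ1 : π (Fin.last (m + 1)) = j := by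
    rw [hπ, Equiv.Perm.mul_apply, Equiv.swap_apply_left]
  let g : GL (Fin (m + 2)) F :=
    ⟨(π⁻¹).permMatrix F, π.permMatrix F,
      by
          rw [Equiv.Perm.permMatrix, Equiv.Perm.permMatrix, ← PEquiv.toMatrix_trans,
        ← Equiv.toPEquiv_trans, show (π⁻¹).trans π = π * π⁻¹ from rfl, mul_inv_cancel]
          exact Matrix.permMatrix_one,
      by
          rw [Equiv.Perm.permMatrix, Equiv.Perm.permMatrix, ← PEquiv.toMatrix_trans,
        ← Equiv.toPEquiv_trans, show π.trans π⁻¹ = π⁻¹ * π from rfl, inv_mul_cancel]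
          exact Matrix.permMatrix_one⟩
  obtain ⟨h1, hg⟩ := map_ind_rootGp g (ev (0 : Fin (m + 2))) (ev (Fin.last (m + 1))) (ev_dot hm)
  have e0 : g.1 *ᵥ ev 0 = ev i := by
    show (π⁻¹).permMatrix F *ᵥ _ = _
    rw [Matrix.permMatrix_mulVec]
    funext r
    simp [ev, Pi.single_apply, ← hπ0, Equiv.Perm.inv_eq_iff_eq]
    rcases eq_or_ne r (π 0) with rfl | hr
    · simp
    · simp [hr, Equiv.symm_apply_eq]
  have e1 : ev (Fin.last (m + 1)) ᵥ* (g⁻¹).1 = ev j := by
    show _ ᵥ* π.permMatrix F = _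
    rw [Matrix.vecMul_permMatrix]
    funext r
    simp [ev, Pi.single_apply, ← hπ1]
    rcases eq_or_ne r (π (Fin.last (m + 1))) with rfl | hr
    · simp
    · simp [hr, Equiv.symm_apply_eq]
  obtain ⟨v, f, h, hv, hf, hγ⟩ := exists_map_rootGp_central hm (β * ind g 1)
  refine ⟨v, f, h, hv, hf, ?_⟩
  rw [← hγ]
  simp only [e0, e1] at hg
  rw [← hg, Subgroup.map_map]
  rfl

/-- The data of the images of standard root groups. -/
structure Img (β : MulAut (Matrix.ProjectiveSpecialLinearGroup (Fin n) F)) where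
  pt : Fin n → Fin n → (Fin n → F)
  hyp : Fin n → Fin n → (Fin n → F)
  pt_ne : ∀ i j, i ≠ j → pt i j ≠ 0
  hyp_ne : ∀ i j, i ≠ j → hyp i j ≠ 0
  perp : ∀ i j, i ≠ j → hyp i j ⬝ᵥ pt i j = 0
  map_eq : ∀ i j (h : i ≠ j),
    (rootGp (ev i) (ev j) (ev_dot h)).map β.toMonoidHom = rootGp (pt i j) (hyp i j) (perp i j h)

theorem exists_img (β : MulAut (Matrix.ProjectiveSpecialLinearGroup (Fin n) F)) :
    Nonempty (Img β) := by
  classical
  have : ∀ i j : Fin n, ∃ (v f : Fin n → F), i ≠ j → v ≠ 0 ∧ f ≠ 0 ∧ ∃ h : f ⬝ᵥ v = 0,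
      ∀ hij : i ≠ j, (rootGp (ev i) (ev j) (ev_dot hij)).map β.toMonoidHom = rootGp v f h := by
    intro i j
    by_cases hij : i = j
    · exact ⟨0, 0, fun h => absurd hij h⟩
    · obtain ⟨v, f, h, hv, hf, he⟩ := exists_map_rootGp β hij
      exact ⟨v, f, fun _ => ⟨hv, hf, h, fun _ => he⟩⟩
  choose v f hvf using this
  exact ⟨⟨v, f, fun i j h => (hvf i j h).1, fun i j h => (hvf i j h).2.1,
    fun i j h => (hvf i j h).2.2.1, fun i j h => (hvf i j h).2.2.2 h⟩⟩

variable {β : MulAut (Matrix.ProjectiveSpecialLinearGroup (Fin n) F)}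

/-- Composition with the inverse transpose exchanges points and hyperplanes. -/
def Img.dual (I : Img β) : Img (itAut * β) where
  pt i j := -I.hyp i j
  hyp i j := I.pt i j
  pt_ne i j h := neg_ne_zero.2 (I.hyp_ne i j h)
  hyp_ne i j h := I.pt_ne i j h
  perp i j h := by rw [dotProduct_neg, dotProduct_comm, I.perp i j h, neg_zero]
  map_eq i j h := by
    obtain ⟨h', he⟩ := map_itAut_rootGp (I.pt i j) (I.hyp i j) (I.perp i j h)
    rw [← he, ← I.map_eq i j h, Subgroup.map_map]
    rfl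

theorem Img.exists_value (I : Img β) {i j : Fin n} (h : i ≠ j) (s : F) :
    ∃ t : F, β (proj (xr h s)) = proj (tv (t • I.pt i j) (I.hyp i j)
      (by rw [dotProduct_smul, I.perp i j h, smul_zero])) := by
  have : β (proj (xr h s)) ∈ rootGp (I.pt i j) (I.hyp i j) (I.perp i j h) :=
    I.map_eq i j h ▸ Subgroup.mem_map_of_mem _ ((mem_rootGp_xr h).2 ⟨s, rfl⟩)
  exact mem_rootGp.1 this

theorem Img.exists_value_one [NeZero n] (I : Img β) {i j : Fin n} (h : i ≠ j) :
    ∃ t : F, t ≠ 0 ∧ β (proj (xr h 1)) = proj (tv (t • I.pt i j) (I.hyp i j)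
      (by rw [dotProduct_smul, I.perp i j h, smul_zero])) := by
  obtain ⟨t, ht⟩ := I.exists_value h 1
  refine ⟨t, fun h0 => ?_, ht⟩
  have h1 : β (proj (xr h 1)) = β (proj (xr h 0)) := by
    rw [ht, xr_zero, map_one, map_one, tv_eq_one _ (by rw [h0, zero_smul, zero_vecMulVec]), map_one]
  exact one_ne_zero (proj_xr_inj h (β.injective h1))

theorem Img.commute_iff [NeZero n] (I : Img β) {i j k l : Fin n} (hij : i ≠ j) (hkl : k ≠ l) :
    (I.hyp i j ⬝ᵥ I.pt k l = 0 ∧ I.hyp k l ⬝ᵥ I.pt i j = 0) ↔ (j ≠ k ∧ i ≠ l) := by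
  obtain ⟨s, hs, hs'⟩ := I.exists_value_one hij
  obtain ⟨t, ht, ht'⟩ := I.exists_value_one hkl
  rw [← commute_proj_xr_iff (F := F) hij hkl]
  have : Commute (proj (xr hij (1 : F))) (proj (xr hkl 1)) ↔
      Commute (β (proj (xr hij (1 : F)))) (β (proj (xr hkl 1))) :=
    ⟨fun h => h.map β, fun h => β.injective (by rw [map_mul, map_mul]; exact h)⟩
  rw [this, hs', ht', commute_tv_iff (smul_ne_zero hs (I.pt_ne i j hij)) (I.hyp_ne i j hij)
    (smul_ne_zero ht (I.pt_ne k l hkl)) (I.hyp_ne k l hkl)]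
  simp [dotProduct_smul, hs, ht]

/-- Distinct standard root groups have distinct images. -/
theorem Img.not_both [NeZero n] (I : Img β) {i j k l : Fin n} (hij : i ≠ j) (hkl : k ≠ l)
    (hp : Par (I.pt i j) (I.pt k l)) (hh : Par (I.hyp i j) (I.hyp k l)) : i = k ∧ j = l := by
  have he : (rootGp (ev i) (ev j) (ev_dot hij)).map β.toMonoidHom =
      (rootGp (ev k) (ev l) (ev_dot hkl)).map β.toMonoidHom := by
    rw [I.map_eq i j hij, I.map_eq k l hkl]
    exact rootGp_congr hp hh _ _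
  have he' := Subgroup.map_injective β.injective he
  have hm : proj (xr hij (1 : F)) ∈ rootGp (ev k) (ev l) (ev_dot hkl) :=
    he' ▸ (mem_rootGp_xr hij).2 ⟨1, rfl⟩
  obtain ⟨t, ht⟩ := mem_rootGp.1 hm
  have h1 := (proj_tv_eq _ _).1 ht
  rw [one_smul] at h1
  obtain ⟨h2, h3⟩ := par_of_vecMulVec_eq (ev_ne_zero i) (ev_ne_zero j) h1
  refine ⟨?_, (par_ev_eq h3).symm⟩
  obtain ⟨c, hc, hc'⟩ := h2
  have ht0 : c * t ≠ 0 := by
    refine mul_ne_zero hc fun h0 => ev_ne_zero (F := F) i ?_
    rw [hc', h0, zero_smul, smul_zero]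
  exact (par_ev_eq ⟨c * t, ht0, by rw [hc', smul_smul]⟩).symm

/-- Two root groups in the same row or column share the point or the hyperplane. -/
theorem Img.collinear [NeZero n] (I : Img β) {i j k l : Fin n} (hij : i ≠ j) (hkl : k ≠ l)
    (h : (i = k ∧ j ≠ l) ∨ (j = l ∧ i ≠ k)) :
    Par (I.pt i j) (I.pt k l) ∨ Par (I.hyp i j) (I.hyp k l) := by
  obtain ⟨s, hs, hs'⟩ := I.exists_value_one hij
  obtain ⟨t, ht, ht'⟩ := I.exists_value_one hkl
  have hcom : j ≠ k ∧ i ≠ l := by
    rcases h with ⟨rfl, -⟩ | ⟨rfl, -⟩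
    · exact ⟨hij.symm, hkl⟩
    · exact ⟨hkl.symm, hij⟩
  obtain ⟨h1, h2⟩ := (I.commute_iff hij hkl).2 hcom
  -- the product is conjugate to the first factor
  obtain ⟨g, hg⟩ : ∃ g : Matrix.SpecialLinearGroup (Fin n) F,
      g * xr hij (1 : F) * g⁻¹ = xr hij 1 * xr hkl 1 := by
    rcases h with ⟨rfl, hjl⟩ | ⟨rfl, hik⟩
    · refine ⟨xr hjl (-1), ?_⟩
      have hval : (xr hjl (-1 : F) * xr hij 1 * (xr hjl (-1))⁻¹).1 = (xr hij (1 : F) * xr hkl 1).1 := by
        have hinv : (xr hjl (-1 : F))⁻¹ = xr hjl 1 := inv_eq_of_mul_eq_one_right (by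
          rw [xr_mul, neg_add_cancel, xr_zero])
        rw [hinv]
        simp [xr_eq_transvection, Matrix.SpecialLinearGroup.coe_mul,
          Matrix.SpecialLinearGroup.transvection_coe, mul_add, add_mul,
          Matrix.single_mul_single_of_ne, hij, hij.symm, hkl, hkl.symm, hjl, hjl.symm,
          Matrix.single_mul_single_same]
        try rw [show ∀ x y : Fin n, Matrix.single x y (-1 : F) = -Matrix.single x y 1 from
          fun x y => by ext a b; simp [Matrix.single_apply]; split_ifs <;> simp]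
        try abel
      exact Subtype.ext hval
    · refine ⟨xr hik.symm 1, ?_⟩
      have hval : (xr hik.symm (1 : F) * xr hij 1 * (xr hik.symm 1)⁻¹).1 =
          (xr hij (1 : F) * xr hkl 1).1 := by
        have hinv : (xr hik.symm (1 : F))⁻¹ = xr hik.symm (-1) := inv_eq_of_mul_eq_one_right (by
          rw [xr_mul, add_neg_cancel, xr_zero])
        rw [hinv]
        simp [xr_eq_transvection, Matrix.SpecialLinearGroup.coe_mul,
          Matrix.SpecialLinearGroup.transvection_coe, mul_add, add_mul,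
          Matrix.single_mul_single_of_ne, hij, hij.symm, hkl, hkl.symm, hik, hik.symm,
          Matrix.single_mul_single_same]
        try rw [show ∀ x y : Fin n, Matrix.single x y (-1 : F) = -Matrix.single x y 1 from
          fun x y => by ext a b; simp [Matrix.single_apply]; split_ifs <;> simp]
        try abel
      exact Subtype.ext hval
  obtain ⟨γ, hγ⟩ := QuotientGroup.mk'_surjective _ (β (proj g))
  set a := tv (s • I.pt i j) (I.hyp i j) (by rw [dotProduct_smul, I.perp i j hij, smul_zero])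
  set b := tv (t • I.pt k l) (I.hyp k l) (by rw [dotProduct_smul, I.perp k l hkl, smul_zero])
  have he : proj (γ * a * γ⁻¹) = proj (a * b) := by
    rw [map_mul, map_mul, map_inv, map_mul, show proj γ = _ from hγ, ← hs', ← ht', ← map_inv,
      ← map_mul, ← map_mul, ← map_mul, ← map_inv, ← map_mul, ← map_mul, ← map_mul, hg]
  obtain ⟨c, -, hc⟩ := proj_eq_iff.1 he
  have hconj : (γ * a * γ⁻¹).1 =
      rk1 (γ.1 *ᵥ (s • I.pt i j)) (I.hyp i j ᵥ* (γ⁻¹).1) := by
    have := conj_rk1 (Matrix.SpecialLinearGroup.toGL γ) (s • I.pt i j) (I.hyp i j)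
    rw [← map_inv] at this
    exact this
  have hprod : (a * b).1 = 1 + (vecMulVec (s • I.pt i j) (I.hyp i j) +
      vecMulVec (t • I.pt k l) (I.hyp k l)) := by
    show rk1 _ _ * rk1 _ _ = _
    rw [rk1_mul, dotProduct_smul, h1, smul_zero, zero_smul, add_zero, add_assoc]
  rw [hconj, hprod, rk1] at hc
  have hsq : (vecMulVec (s • I.pt i j) (I.hyp i j) + vecMulVec (t • I.pt k l) (I.hyp k l)) *
      (vecMulVec (s • I.pt i j) (I.hyp i j) + vecMulVec (t • I.pt k l) (I.hyp k l)) = 0 := by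
    simp only [add_mul, mul_add, vecMulVec_mul_vecMulVec, dotProduct_smul, h1, h2,
      I.perp i j hij, I.perp k l hkl, smul_zero, zero_smul, vecMulVec_zero, add_zero]
  have hp : (I.hyp i j ᵥ* (γ⁻¹).1) ⬝ᵥ (γ.1 *ᵥ (s • I.pt i j)) = 0 := by
    rw [← dotProduct_mulVec, mulVec_mulVec, ← Matrix.SpecialLinearGroup.coe_mul, inv_mul_cancel,
      Matrix.SpecialLinearGroup.coe_one, one_mulVec, dotProduct_smul, I.perp i j hij, smul_zero]
  have heq := eq_of_one_add_smul hsq
    (by rw [vecMulVec_mul_vecMulVec, hp, zero_smul, vecMulVec_zero]) hc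
  rcases par_of_vecMulVec_add (smul_ne_zero hs (I.pt_ne i j hij)) (smul_ne_zero ht (I.pt_ne k l hkl))
      (I.hyp_ne i j hij) (I.hyp_ne k l hkl) heq with h3 | h3
  · exact .inl (Par.trans (Par.trans ⟨s, hs, rfl⟩ h3) (Par.symm ⟨t, ht, rfl⟩))
  · exact .inr h3

theorem Par.refl (v : Fin n → F) : Par v v := ⟨1, one_ne_zero, (one_smul F v).symm⟩

/-- Each row is of one of the two types. -/
theorem Img.row_type [NeZero n] (I : Img β) (i : Fin n) :
    (∀ j k, i ≠ j → i ≠ k → Par (I.pt i j) (I.pt i k)) ∨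
      ∀ j k, i ≠ j → i ≠ k → Par (I.hyp i j) (I.hyp i k) := by
  by_contra hc
  push Not at hc
  obtain ⟨⟨j, k, hij, hik, hnp⟩, ⟨a, b, hia, hib, hnh⟩⟩ := hc
  have hjk : j ≠ k := fun h => hnp (h ▸ Par.refl _)
  have col : ∀ x y, i ≠ x → i ≠ y → x ≠ y →
      Par (I.pt i x) (I.pt i y) ∨ Par (I.hyp i x) (I.hyp i y) := fun x y hx hy hxy =>
    I.collinear hx hy (.inl ⟨rfl, hxy⟩)
  have hH : Par (I.hyp i j) (I.hyp i k) := (col j k hij hik hjk).resolve_left hnp
  have key : ∀ l, i ≠ l → Par (I.hyp i j) (I.hyp i l) := by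
    intro l hil
    by_cases hjl : j = l
    · exact hjl ▸ Par.refl _
    rcases col j l hij hil hjl with h | h
    · by_cases hkl : k = l
      · exact absurd (hkl ▸ h) hnp
      rcases col k l hik hil hkl with h' | h'
      · exact absurd (h.trans h'.symm) hnp
      · exact absurd (I.not_both hij hil h (hH.trans h')).2 hjl
    · exact h
  exact hnh ((key a hia).symm.trans (key b hib))

/-- Each column is of one of the two types. -/
theorem Img.col_type [NeZero n] (I : Img β) (j : Fin n) :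
    (∀ i k, i ≠ j → k ≠ j → Par (I.pt i j) (I.pt k j)) ∨
      ∀ i k, i ≠ j → k ≠ j → Par (I.hyp i j) (I.hyp k j) := by
  by_contra hc
  push Not at hc
  obtain ⟨⟨i, k, hij, hkj, hnp⟩, ⟨a, b, haj, hbj, hnh⟩⟩ := hc
  have hik : i ≠ k := fun h => hnp (h ▸ Par.refl _)
  have col : ∀ x y, x ≠ j → y ≠ j → x ≠ y →
      Par (I.pt x j) (I.pt y j) ∨ Par (I.hyp x j) (I.hyp y j) := fun x y hx hy hxy =>
    I.collinear hx hy (.inr ⟨rfl, hxy⟩)
  have hH : Par (I.hyp i j) (I.hyp k j) := (col i k hij hkj hik).resolve_left hnp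
  have key : ∀ l, l ≠ j → Par (I.hyp i j) (I.hyp l j) := by
    intro l hlj
    by_cases hil : i = l
    · exact hil ▸ Par.refl _
    rcases col i l hij hlj hil with h | h
    · by_cases hkl : k = l
      · exact absurd (hkl ▸ h) hnp
      rcases col k l hkj hlj hkl with h' | h'
      · exact absurd (h.trans h'.symm) hnp
      · exact absurd (I.not_both hij hlj h (hH.trans h')).1 hil
    · exact h
  exact hnh ((key a haj).symm.trans (key b hbj))

/-- The frame form: points depend on the row, hyperplanes on the column. -/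
def Img.Frame (I : Img β) : Prop :=
  (∀ i j k, i ≠ j → i ≠ k → Par (I.pt i j) (I.pt i k)) ∧
    ∀ j i k, i ≠ j → k ≠ j → Par (I.hyp i j) (I.hyp k j)

theorem exists_third (hn : 3 ≤ n) (i j : Fin n) : ∃ k : Fin n, k ≠ i ∧ k ≠ j := by
  classical
  by_contra hc
  push Not at hc
  have hsub : (Finset.univ : Finset (Fin n)) ⊆ {i, j} := fun k _ => by
    by_cases hk : k = i
    · simp [hk]
    · simp [hc k hk]
  have := (Finset.card_le_card hsub).trans Finset.card_le_two
  simp at this
  omega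

theorem Img.frame_or_dual [NeZero n] (I : Img β) : I.Frame ∨ (3 ≤ n ∧ I.dual.Frame) := by
  by_cases hn : 3 ≤ n
  swap
  · left
    have htwo : ∀ i j k : Fin n, i ≠ j → i ≠ k → j = k := by
      intro i j k hij hik
      ext
      have := i.isLt; have := j.isLt; have := k.isLt
      have := Fin.val_ne_of_ne hij; have := Fin.val_ne_of_ne hik
      omega
    exact ⟨fun i j k hij hik => htwo i j k hij hik ▸ Par.refl _,
      fun j i k hij hkj => htwo j i k hij.symm hkj.symm ▸ Par.refl _⟩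
  have opp : ∀ i j, i ≠ j → ¬ ((∀ x y, i ≠ x → i ≠ y → Par (I.pt i x) (I.pt i y)) ∧
      (∀ x y, x ≠ j → y ≠ j → Par (I.pt x j) (I.pt y j))) ∧
      ¬ ((∀ x y, i ≠ x → i ≠ y → Par (I.hyp i x) (I.hyp i y)) ∧
      (∀ x y, x ≠ j → y ≠ j → Par (I.hyp x j) (I.hyp y j))) := by
    intro i j hij
    obtain ⟨k, hki, hkj⟩ := exists_third hn i j
    have hnc : ¬ (I.hyp i k ⬝ᵥ I.pt k j = 0 ∧ I.hyp k j ⬝ᵥ I.pt i k = 0) := by
      rw [I.commute_iff hki.symm hkj]; simp
    refine ⟨fun ⟨hr, hcl⟩ => hnc ?_, fun ⟨hr, hcl⟩ => hnc ?_⟩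
    · have hP : Par (I.pt i k) (I.pt k j) := (hr k j hki.symm hij).trans (hcl i k hij hkj)
      exact ⟨hP.dot_eq_zero_right (I.perp i k hki.symm),
        hP.symm.dot_eq_zero_right (I.perp k j hkj)⟩
    · have hP : Par (I.hyp i k) (I.hyp k j) := (hr k j hki.symm hij).trans (hcl i k hij hkj)
      exact ⟨hP.symm.dot_eq_zero_left (I.perp k j hkj),
        hP.dot_eq_zero_left (I.perp i k hki.symm)⟩
  rcases I.row_type 0 with h0 | h0
  · left
    have hcolH : ∀ j, (0 : Fin n) ≠ j → ∀ x y, x ≠ j → y ≠ j → Par (I.hyp x j) (I.hyp y j) :=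
      fun j hj => (I.col_type j).resolve_left fun h => (opp 0 j hj).1 ⟨h0, h⟩
    have hrowP : ∀ i x y, i ≠ x → i ≠ y → Par (I.pt i x) (I.pt i y) := fun i => by
      obtain ⟨j, hj0, hji⟩ := exists_third hn 0 i
      exact (I.row_type i).resolve_right fun h => (opp i j hji.symm).2 ⟨h, hcolH j hj0.symm⟩
    refine ⟨fun i j k => hrowP i j k, fun j i k => ?_⟩
    obtain ⟨l, hlj, -⟩ := exists_third hn j j
    exact ((I.col_type j).resolve_left fun h => (opp l j hlj).1 ⟨fun x y => hrowP l x y, h⟩) i k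
  · right
    refine ⟨hn, ?_⟩
    have hcolP : ∀ j, (0 : Fin n) ≠ j → ∀ x y, x ≠ j → y ≠ j → Par (I.pt x j) (I.pt y j) :=
      fun j hj => (I.col_type j).resolve_right fun h => (opp 0 j hj).2 ⟨h0, h⟩
    have hrowH : ∀ i x y, i ≠ x → i ≠ y → Par (I.hyp i x) (I.hyp i y) := fun i => by
      obtain ⟨j, hj0, hji⟩ := exists_third hn 0 i
      exact (I.row_type i).resolve_left fun h => (opp i j hji.symm).1 ⟨h, hcolP j hj0.symm⟩
    refine ⟨fun i j k hij hik => (hrowH i j k hij hik).neg, fun j i k => ?_⟩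
    obtain ⟨l, hlj, -⟩ := exists_third hn j j
    exact ((I.col_type j).resolve_right fun h => (opp l j hlj).2 ⟨fun x y => hrowH l x y, h⟩) i k

/-- In frame form there is a matrix normalising all standard root groups after composition. -/
theorem Img.exists_normalized (hn : 2 ≤ n) (I : Img β) (hI : I.Frame) :
    ∃ g : GL (Fin n) F, ∀ i j (h : i ≠ j),
      (rootGp (ev i) (ev j) (ev_dot h)).map ((ind g 1)⁻¹ * β).toMonoidHom =
        rootGp (ev i) (ev j) (ev_dot h) := by
  classical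
  haveI : NeZero n := ⟨by omega⟩
  haveI : Nontrivial (Fin n) := Fin.nontrivial_iff_two_le.2 hn
  choose o ho using fun i : Fin n => exists_ne i
  set b : Fin n → Fin n → F := fun i => I.pt i (o i) with hb
  set a : Fin n → Fin n → F := fun j => I.hyp (o j) j with ha
  have hp : ∀ i j, i ≠ j → Par (b i) (I.pt i j) := fun i j h => hI.1 i (o i) j (ho i).symm h
  have hh : ∀ i j, i ≠ j → Par (a j) (I.hyp i j) := fun i j h => hI.2 j (o j) i (ho j) h
  have hab : ∀ i j, i ≠ j → a j ⬝ᵥ b i = 0 := fun i j h =>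
    (hh i j h).symm.dot_eq_zero_left ((hp i j h).symm.dot_eq_zero_right (I.perp i j h))
  have hd : ∀ i, a i ⬝ᵥ b i ≠ 0 := by
    intro i h0
    set k := o i
    have hki : k ≠ i := ho i
    by_cases hn3 : 3 ≤ n
    · obtain ⟨l, hli, hlk⟩ := exists_third hn3 i k
      have hnc : ¬ (I.hyp k i ⬝ᵥ I.pt i l = 0 ∧ I.hyp i l ⬝ᵥ I.pt k i = 0) := by
        rw [I.commute_iff hki hli.symm]; simp
      refine hnc ⟨(hh k i hki).dot_eq_zero_left ((hp i l hli.symm).dot_eq_zero_right h0), ?_⟩
      exact (hh i l hli.symm).dot_eq_zero_left ((hp k i hki).dot_eq_zero_right (hab k l hlk.symm))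
    · have hn2 : n = 2 := by omega
      subst hn2
      have hnc : ¬ (I.hyp k i ⬝ᵥ I.pt i k = 0 ∧ I.hyp i k ⬝ᵥ I.pt k i = 0) := by
        rw [I.commute_iff hki hki.symm]; simp
      have h1 : I.hyp k i ⬝ᵥ I.pt i k = 0 :=
        (hh k i hki).dot_eq_zero_left ((hp i k hki.symm).dot_eq_zero_right h0)
      refine hnc ⟨h1, ?_⟩
      -- in dimension two the two hyperplanes through the same point agree
      have hpar : Par (I.hyp i k) (I.hyp k i) := by
        have hv := I.pt_ne i k hki.symm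
        have hf := I.hyp_ne i k hki.symm
        have hg := I.hyp_ne k i hki
        have e1 : I.hyp i k 0 * I.pt i k 0 + I.hyp i k 1 * I.pt i k 1 = 0 := by
          simpa [dotProduct, Fin.sum_univ_two] using I.perp i k hki.symm
        have e2 : I.hyp k i 0 * I.pt i k 0 + I.hyp k i 1 * I.pt i k 1 = 0 := by
          simpa [dotProduct, Fin.sum_univ_two] using h1
        have hdet : I.hyp i k 0 * I.hyp k i 1 = I.hyp i k 1 * I.hyp k i 0 := by
          by_contra hne
          apply hv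
          have hne' : I.hyp i k 0 * I.hyp k i 1 - I.hyp i k 1 * I.hyp k i 0 ≠ 0 := sub_ne_zero.2 hne
          funext r
          fin_cases r
          · exact (mul_eq_zero.1 (by linear_combination I.hyp k i 1 * e1 - I.hyp i k 1 * e2 :
              (I.hyp i k 0 * I.hyp k i 1 - I.hyp i k 1 * I.hyp k i 0) * I.pt i k 0 = 0)).resolve_left hne'
          · exact (mul_eq_zero.1 (by linear_combination I.hyp i k 0 * e2 - I.hyp k i 0 * e1 :
              (I.hyp i k 0 * I.hyp k i 1 - I.hyp i k 1 * I.hyp k i 0) * I.pt i k 1 = 0)).resolve_left hne'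
        rcases eq_or_ne (I.hyp i k 0) 0 with h00 | h00
        · have h10 : I.hyp i k 1 ≠ 0 := fun h10 => hf (by
            funext r; fin_cases r <;> simp [h00, h10])
          have hg0 : I.hyp k i 0 = 0 := by
            rw [h00, zero_mul] at hdet
            exact (mul_eq_zero.1 hdet.symm).resolve_left h10
          have hg1 : I.hyp k i 1 ≠ 0 := fun hg1 => hg (by
            funext r; fin_cases r <;> simp [hg0, hg1])
          exact ⟨I.hyp k i 1 / I.hyp i k 1, div_ne_zero hg1 h10, by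
            funext r; fin_cases r <;> simp [h00, hg0, h10]⟩
        · have hg0 : I.hyp k i 0 ≠ 0 := fun hg0 => hg (by
            rw [hg0, mul_zero] at hdet
            funext r; fin_cases r
            · simp [hg0]
            · simpa using (mul_eq_zero.1 hdet).resolve_left h00)
          refine ⟨I.hyp k i 0 / I.hyp i k 0, div_ne_zero hg0 h00, ?_⟩
          funext r; fin_cases r
          · simp [h00]
          · simp only [Fin.mk_one, Fin.isValue, Pi.smul_apply, smul_eq_mul]
            rw [div_mul_eq_mul_div, eq_div_iff h00]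
            linear_combination hdet
      exact hpar.symm.dot_eq_zero_left (I.perp k i hki)
  set M : Matrix (Fin n) (Fin n) F := Matrix.of fun r i => b i r with hM
  set A : Matrix (Fin n) (Fin n) F := Matrix.of fun j r => a j r with hA
  have hAM : A * M = Matrix.diagonal fun i => a i ⬝ᵥ b i := by
    ext j i
    rcases eq_or_ne j i with rfl | h
    · rw [Matrix.diagonal_apply_eq]; rfl
    · rw [Matrix.diagonal_apply_ne _ h]; exact hab i j h.symm
  have hdet : M.det ≠ 0 := fun h0 => by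
    have := congrArg Matrix.det hAM
    rw [Matrix.det_mul, h0, mul_zero, Matrix.det_diagonal] at this
    exact Finset.prod_ne_zero_iff.2 (fun i _ => hd i) this.symm
  set g : GL (Fin n) F := Matrix.GeneralLinearGroup.mkOfDetNeZero M hdet with hg
  refine ⟨g, fun i j hij => ?_⟩
  obtain ⟨h', hmap⟩ := map_ind_rootGp g (ev i) (ev j) (ev_dot hij)
  have e0 : g.1 *ᵥ ev i = b i := by
    show M *ᵥ _ = _
    rw [ev, mulVec_single_one]
    rfl
  have e1 : Par (a j) (ev j ᵥ* (g⁻¹).1) := by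
    refine ⟨(a j ⬝ᵥ b j)⁻¹, inv_ne_zero (hd j), ?_⟩
    have h1 : a j ᵥ* g.1 = (a j ⬝ᵥ b j) • ev j := by
      funext r
      show (A * M) j r = _
      rw [hAM]
      rcases eq_or_ne j r with rfl | h
      · simp [ev]
      · simp [ev, h, Ne.symm h]
    have h2 := congrArg (fun z => z ᵥ* (g⁻¹).1) h1
    rw [vecMul_vecMul, Units.mul_inv, vecMul_one, smul_vecMul] at h2
    have h3 := congrArg (fun z => (a j ⬝ᵥ b j)⁻¹ • z) h2
    simp only [smul_smul, inv_mul_cancel₀ (hd j), one_smul] at h3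
    exact h3.symm
  have hpar0 : Par (I.pt i j) (g.1 *ᵥ ev i) := e0 ▸ (hp i j hij).symm
  have hpar1 : Par (I.hyp i j) (ev j ᵥ* (g⁻¹).1) := (hh i j hij).symm.trans e1
  have he : (rootGp (ev i) (ev j) (ev_dot hij)).map β.toMonoidHom =
      (rootGp (ev i) (ev j) (ev_dot hij)).map (ind g 1).toMonoidHom := by
    rw [I.map_eq i j hij, hmap]
    exact rootGp_congr hpar0 hpar1 _ _
  have hcomp : ((ind g 1)⁻¹ * β).toMonoidHom =
      ((ind g 1)⁻¹ : MulAut _).toMonoidHom.comp β.toMonoidHom := rfl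
  rw [hcomp, ← Subgroup.map_map, he, Subgroup.map_map]
  convert Subgroup.map_id _
  ext x
  simp

/-- An automorphism normalising all standard root groups. -/
theorem exists_param [NeZero n] (γ : MulAut (Matrix.ProjectiveSpecialLinearGroup (Fin n) F))
    (hγ : ∀ i j (h : i ≠ j), (rootGp (ev i) (ev j) (ev_dot h)).map γ.toMonoidHom =
      rootGp (ev i) (ev j) (ev_dot h)) :
    ∃ φ : Fin n → Fin n → F → F, ∀ i j (h : i ≠ j),
      (∀ t, γ (proj (xr h t)) = proj (xr h (φ i j t))) ∧
      (∀ s t, φ i j (s + t) = φ i j s + φ i j t) ∧ φ i j 0 = 0 ∧ Function.Bijective (φ i j) := by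
  classical
  have : ∀ i j : Fin n, ∀ t : F, ∃ u : F, ∀ h : i ≠ j, γ (proj (xr h t)) = proj (xr h u) := by
    intro i j t
    by_cases h : i = j
    · exact ⟨0, fun h' => absurd h h'⟩
    · obtain ⟨u, hu⟩ := (mem_rootGp_xr h).1
        (hγ i j h ▸ Subgroup.mem_map_of_mem γ.toMonoidHom ((mem_rootGp_xr h).2 ⟨t, rfl⟩))
      exact ⟨u, fun _ => hu⟩
  choose φ hφ using this
  refine ⟨φ, fun i j h => ⟨fun t => hφ i j t h, ?_, ?_, ?_⟩⟩
  · intro s t
    apply proj_xr_inj h
    rw [← hφ i j (s + t) h, ← xr_mul, ← xr_mul, map_mul, map_mul, map_mul, hφ i j s h, hφ i j t h]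
  · apply proj_xr_inj h
    rw [← hφ i j 0 h, xr_zero, map_one, map_one]
  · haveI := Fintype.ofFinite F
    refine Finite.injective_iff_bijective.1 fun s t hst => proj_xr_inj h (γ.injective ?_)
    rw [hφ i j s h, hφ i j t h, hst]

theorem xr_conj [NeZero n] {i j k : Fin n} (hij : i ≠ j) (hjk : j ≠ k) (hik : i ≠ k) (s t : F) :
    proj (xr hij s) * proj (xr hjk t) * (proj (xr hij s))⁻¹ =
      proj (xr hik (s * t)) * proj (xr hjk t) := by
  rw [← map_mul, ← map_inv, ← map_mul, ← map_mul]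
  congr 1
  have hinv : (xr hij s)⁻¹ = xr hij (-s) := inv_eq_of_mul_eq_one_right (by
    rw [xr_mul, add_neg_cancel, xr_zero])
  rw [hinv]
  apply Subtype.ext
  simp [xr_eq_transvection, Matrix.SpecialLinearGroup.coe_mul,
    Matrix.SpecialLinearGroup.transvection_coe, mul_add, add_mul,
    Matrix.single_mul_single_of_ne, hij, hij.symm, hjk, hjk.symm, hik, hik.symm,
    Matrix.single_mul_single_same]
  rw [show Matrix.single i j (-s) = -Matrix.single i j s by
    ext a b; simp [Matrix.single_apply]; split_ifs <;> simp]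
  abel

/-- The normalised automorphism in dimension at least three. -/
theorem param_eq_ind_of_three [NeZero n] (hn : 3 ≤ n)
    (γ : MulAut (Matrix.ProjectiveSpecialLinearGroup (Fin n) F)) (φ : Fin n → Fin n → F → F)
    (hφ : ∀ i j (h : i ≠ j), (∀ t, γ (proj (xr h t)) = proj (xr h (φ i j t))) ∧
      (∀ s t, φ i j (s + t) = φ i j s + φ i j t) ∧ φ i j 0 = 0 ∧ Function.Bijective (φ i j)) :
    ∃ (d : Fin n → F) (σ : RingAut F), (∀ i, d i ≠ 0) ∧
      ∀ i j, i ≠ j → ∀ t, φ i j t = d i * σ t / d j := by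
  classical
  have hc : ∀ i j, i ≠ j → φ i j 1 ≠ 0 := fun i j h h0 =>
    one_ne_zero ((hφ i j h).2.2.2.1 (h0.trans (hφ i j h).2.2.1.symm))
  have hrel : ∀ i j k, i ≠ j → j ≠ k → i ≠ k → ∀ s t, φ i k (s * t) = φ i j s * φ j k t := by
    intro i j k hij hjk hik s t
    have h := congrArg γ (xr_conj hij hjk hik s t)
    simp only [map_mul, map_inv, (hφ i j hij).1, (hφ j k hjk).1, (hφ i k hik).1] at h
    rw [xr_conj hij hjk hik] at h
    exact (proj_xr_inj hik (mul_right_cancel h)).symm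
  let ψ : Fin n → Fin n → F → F := fun i j t => φ i j t / φ i j 1
  have hψrow : ∀ i j k, i ≠ j → j ≠ k → i ≠ k → ∀ t, ψ i k t = ψ i j t ∧ ψ i k t = ψ j k t := by
    intro i j k hij hjk hik t
    have e1 := hrel i j k hij hjk hik t 1
    have e2 := hrel i j k hij hjk hik 1 t
    have e3 := hrel i j k hij hjk hik 1 1
    simp only [mul_one, one_mul] at e1 e2 e3
    constructor
    · show φ i k t / φ i k 1 = φ i j t / φ i j 1
      rw [e1, e3, mul_div_mul_right _ _ (hc j k hjk)]
    · show φ i k t / φ i k 1 = φ j k t / φ j k 1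
      rw [e2, e3, mul_div_mul_left _ _ (hc i j hij)]
  have hψ : ∀ i j k l, i ≠ j → k ≠ l → ∀ t, ψ i j t = ψ k l t := by
    intro i j k l hij hkl t
    obtain ⟨m, hmi, hmk⟩ := exists_third hn i k
    have r : ∀ i j m, i ≠ j → i ≠ m → ψ i j t = ψ i m t := by
      intro i j m hij him
      by_cases h : j = m
      · rw [h]
      · exact (hψrow i m j him (Ne.symm h) hij t).1
    have c : ∀ i k m, i ≠ m → k ≠ m → ψ i m t = ψ k m t := by
      intro i k m him hkm
      by_cases h : i = k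
      · rw [h]
      · exact (hψrow i k m h hkm him t).2
    rw [r i j m hij hmi.symm, c i k m hmi.symm hmk.symm, r k m l hmk.symm hkl]
  obtain ⟨one, h01, -⟩ := exists_third hn (0 : Fin n) 0
  have h01' : (0 : Fin n) ≠ one := h01.symm
  set s : F → F := ψ 0 one with hs
  have hsadd : ∀ a b, s (a + b) = s a + s b := fun a b => by
    show φ 0 one (a + b) / _ = φ 0 one a / _ + φ 0 one b / _
    rw [(hφ 0 one h01').2.1, add_div]
  have hsmul : ∀ a b, s (a * b) = s a * s b := by
    intro a b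
    obtain ⟨two, h20, h21⟩ := exists_third hn (0 : Fin n) one
    have e := hrel 0 one two h01' h21.symm h20.symm a b
    have e3 := hrel 0 one two h01' h21.symm h20.symm 1 1
    rw [one_mul] at e3
    rw [hs, hψ 0 one 0 two h01' h20.symm (a * b), ← hs]
    show φ 0 two (a * b) / φ 0 two 1 = s a * s b
    rw [e, e3, hs]
    conv_rhs => rw [hψ 0 one one two h01' h21.symm b]
    show _ = φ 0 one a / φ 0 one 1 * (φ one two b / φ one two 1)
    rw [div_mul_div_comm]
  have hsbij : Function.Bijective s := by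
    refine Finite.injective_iff_bijective.1 fun a b hab => (hφ 0 one h01').2.2.2.1 ?_
    exact mul_right_cancel₀ (inv_ne_zero (hc 0 one h01')) (by simpa [hs, ψ, div_eq_mul_inv] using hab)
  let σ : RingAut F :=
    { Equiv.ofBijective s hsbij with
      map_mul' := hsmul
      map_add' := hsadd }
  let d : Fin n → F := fun i => if i = 0 then 1 else φ i 0 1
  have hd : ∀ i, d i ≠ 0 := fun i => by
    show (if i = 0 then (1 : F) else _) ≠ 0
    split_ifs with h
    · exact one_ne_zero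
    · exact hc i 0 h
  refine ⟨d, σ, hd, fun i j hij t => ?_⟩
  have hcd : φ i j 1 * d j = d i := by
    show φ i j 1 * (if j = 0 then 1 else φ j 0 1) = if i = 0 then 1 else φ i 0 1
    by_cases hj : j = 0
    · subst hj
      rw [if_pos rfl, if_neg hij, mul_one]
    rw [if_neg hj]
    by_cases hi : i = 0
    · subst hi
      rw [if_pos rfl]
      obtain ⟨k, hk0, hkj⟩ := exists_third hn (0 : Fin n) j
      have e1 := hrel 0 j k hij hkj.symm hk0.symm 1 1
      have e2 := hrel j 0 k (Ne.symm hij) hk0.symm hkj.symm 1 1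
      rw [one_mul] at e1 e2
      rw [e2, ← mul_assoc] at e1
      exact mul_right_cancel₀ (hc 0 k hk0.symm) (e1.symm.trans (one_mul _).symm)
    · rw [if_neg hi]
      have e := hrel i j 0 hij hj hi 1 1
      rw [one_mul] at e
      exact e.symm
  show φ i j t = d i * s t / d j
  rw [hs, ← hψ i j 0 one hij h01' t]
  show φ i j t = d i * (φ i j t / φ i j 1) / d j
  rw [← hcd]
  field_simp [hc i j hij, hd j]

theorem xr2_relations {a b : F} (h : (0 : Fin 2) ≠ 1) :
    (xr h a * xr h.symm b * xr h a).1 = !![1 + a * b, a * (2 + a * b); b, 1 + a * b] := by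
  rw [xr_eq_transvection, xr_eq_transvection]
  ext i j
  fin_cases i <;> fin_cases j <;>
    simp [Matrix.SpecialLinearGroup.coe_mul, Matrix.SpecialLinearGroup.transvection_coe,
      Matrix.mul_apply, Fin.sum_univ_two] <;> ring

theorem xr01_val (h : (0 : Fin 2) ≠ 1) (t : F) : (xr h t).1 = !![1, t; 0, 1] := by
  rw [xr_eq_transvection]
  ext i j
  fin_cases i <;> fin_cases j <;> simp [Matrix.SpecialLinearGroup.transvection_coe]

theorem xr10_val (h : (1 : Fin 2) ≠ 0) (t : F) : (xr h t).1 = !![1, 0; t, 1] := by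
  rw [xr_eq_transvection]
  ext i j
  fin_cases i <;> fin_cases j <;> simp [Matrix.SpecialLinearGroup.transvection_coe]

/-- The normalised automorphism in dimension two. -/
theorem param_eq_ind_of_two
    (γ : MulAut (Matrix.ProjectiveSpecialLinearGroup (Fin 2) F)) (φ : Fin 2 → Fin 2 → F → F)
    (hφ : ∀ i j (h : i ≠ j), (∀ t, γ (proj (xr h t)) = proj (xr h (φ i j t))) ∧
      (∀ s t, φ i j (s + t) = φ i j s + φ i j t) ∧ φ i j 0 = 0 ∧ Function.Bijective (φ i j)) :
    ∃ (d : Fin 2 → F) (σ : RingAut F), (∀ i, d i ≠ 0) ∧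
      ∀ i j, i ≠ j → ∀ t, φ i j t = d i * σ t / d j := by
  have h01 : (0 : Fin 2) ≠ 1 := by decide
  obtain ⟨hA, hAadd, hA0, hAbij⟩ := hφ 0 1 h01
  obtain ⟨hB, -, hB0, -⟩ := hφ 1 0 h01.symm
  set A := φ 0 1
  set B := φ 1 0
  have hAne : ∀ a, a ≠ 0 → A a ≠ 0 := fun a ha h => ha (hAbij.1 (h.trans hA0.symm))
  -- the monomial elements
  have hN : ∀ a : F, a ≠ 0 → B (-a⁻¹) = -(A a)⁻¹ := by
    intro a ha
    set N := xr h01 a * xr h01.symm (-a⁻¹) * xr h01 a with hNdef
    set N' := xr h01 (A a) * xr h01.symm (B (-a⁻¹)) * xr h01 (A a) with hN'def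
    have hγN : γ (proj N) = proj N' := by simp only [hNdef, hN'def, map_mul, hA, hB]
    have hNval : N.1 = !![0, a; -a⁻¹, 0] := by
      rw [hNdef, xr2_relations]
      ext i j
      fin_cases i <;> fin_cases j <;> simp [ha] <;> ring
    have hNinv : (N⁻¹).1 = !![0, -a; a⁻¹, 0] := by
      rw [Matrix.SpecialLinearGroup.coe_inv, hNval, Matrix.adjugate_fin_two_of]
      simp
    have hconj : proj N * proj (xr h01 (1 : F)) * (proj N)⁻¹ =
        proj (xr h01.symm (-(a⁻¹ * a⁻¹))) := by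
      rw [← map_inv, ← map_mul, ← map_mul]
      congr 1
      apply Subtype.ext
      rw [Matrix.SpecialLinearGroup.coe_mul, Matrix.SpecialLinearGroup.coe_mul, hNval, hNinv,
        xr01_val, xr10_val]
      ext i j
      fin_cases i <;> fin_cases j <;> simp [Matrix.mul_apply, Fin.sum_univ_two, ha]
    have h' := congrArg γ hconj
    simp only [map_mul, map_inv, hγN, hA, hB] at h'
    rw [← map_inv, ← map_mul, ← map_mul] at h'
    obtain ⟨c, hc2, hc⟩ := proj_eq_iff.1 h'
    -- the (0,1) entry of the conjugate vanishes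
    have e01 := congrFun (congrFun hc 0) 1
    rw [Matrix.smul_apply, Matrix.SpecialLinearGroup.coe_mul, Matrix.SpecialLinearGroup.coe_mul,
      xr01_val, xr10_val, Matrix.SpecialLinearGroup.coe_inv, hN'def,
      xr2_relations, Matrix.adjugate_fin_two_of] at e01
    simp [Matrix.mul_apply, Fin.sum_univ_two] at e01
    have hc0 : c ≠ 0 := fun h => by simp [h] at hc2
    have hA1 : A 1 ≠ 0 := hAne 1 one_ne_zero
    have key : (1 + A a * B (-a⁻¹)) * (1 + A a * B (-a⁻¹)) * A 1 * c = 0 := by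
      linear_combination c * (e01.resolve_left hc0)
    have : 1 + A a * B (-a⁻¹) = 0 := by
      rcases mul_eq_zero.1 key with h | h
      · rcases mul_eq_zero.1 h with h | h
        · exact mul_self_eq_zero.1 h
        · exact absurd h hA1
      · exact absurd h hc0
    have hi := mul_inv_cancel₀ (hAne a ha)
    linear_combination (A a)⁻¹ * this - B (-a⁻¹) * hi
  have hquad : ∀ a b : F, a ≠ 0 → A (-(a * a) * b) = -(A a * A a) * B b := by
    intro a b ha
    set N := xr h01 a * xr h01.symm (-a⁻¹) * xr h01 a with hNdef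
    have key : ∀ (x : F), x ≠ 0 → ∀ y : F,
        proj (xr h01 x * xr h01.symm (-x⁻¹) * xr h01 x) * proj (xr h01.symm y) *
          (proj (xr h01 x * xr h01.symm (-x⁻¹) * xr h01 x))⁻¹ = proj (xr h01 (-(x * x) * y)) := by
      intro x hx y
      rw [← map_inv, ← map_mul, ← map_mul]
      congr 1
      apply Subtype.ext
      have hNval : (xr h01 x * xr h01.symm (-x⁻¹) * xr h01 x).1 = !![0, x; -x⁻¹, 0] := by
        rw [xr2_relations]
        ext i j
        fin_cases i <;> fin_cases j <;> simp [hx] <;> ring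
      rw [Matrix.SpecialLinearGroup.coe_mul, Matrix.SpecialLinearGroup.coe_mul,
        Matrix.SpecialLinearGroup.coe_inv, hNval, Matrix.adjugate_fin_two_of,
        xr01_val, xr10_val]
      ext i j
      fin_cases i <;> fin_cases j <;> simp [Matrix.mul_apply, Fin.sum_univ_two, hx] <;> ring
    have h' := congrArg γ (key a ha b)
    simp only [map_mul, map_inv, hA, hB, hN a ha] at h'
    rw [← map_mul, ← map_mul, key (A a) (hAne a ha)] at h'
    exact (proj_xr_inj h01 h').symm
  set c := A 1 with hc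
  have hc0 : c ≠ 0 := hAne 1 one_ne_zero
  set s : F → F := fun t => A t / c with hs
  have hAneg : ∀ t, A (-t) = -A t := fun t => by
    have h := hAadd t (-t)
    rw [add_neg_cancel, hA0] at h
    linear_combination -h
  have hBA : ∀ t, B t = A t / (c * c) := by
    intro t
    have h := hquad 1 t one_ne_zero
    rw [one_mul, neg_one_mul, hAneg] at h
    rw [eq_div_iff (mul_ne_zero hc0 hc0)]
    linear_combination h
  have hsq : ∀ a b, s (a * a * b) = s a * s a * s b := by
    intro a b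
    rcases eq_or_ne a 0 with rfl | ha
    · simp [hs, hA0]
    · have h := hquad a b ha
      rw [neg_mul, neg_mul, hAneg, neg_inj, hBA] at h
      show A (a * a * b) / c = A a / c * (A a / c) * (A b / c)
      rw [h]
      field_simp
  have hs1 : s 1 = 1 := div_self hc0
  have hsadd : ∀ a b, s (a + b) = s a + s b := fun a b => by
    show A (a + b) / c = A a / c + A b / c
    rw [hAadd, add_div]
  have hsmul : ∀ a b, s (a * b) = s a * s b := by
    intro a b
    by_cases h2 : (2 : F) = 0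
    · -- every element is a square
      haveI : CharP F 2 := CharTwo.of_one_ne_zero_of_two_eq_zero one_ne_zero h2
      obtain ⟨r, hr⟩ := (FiniteField.isSquare_of_char_two (by
        rw [ringChar.eq F 2]) a : IsSquare a)
      subst hr
      rw [hsq, show s (r * r) = s r * s r by simpa [hs1] using hsq r 1]
    · have e1 := hsq (a + 1) b
      have e2 := hsq a b
      rw [show (a + 1) * (a + 1) * b = a * a * b + (a * b + a * b) + b by ring, hsadd, hsadd, hsadd,
        hsadd, hs1] at e1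
      exact mul_left_cancel₀ h2 (by linear_combination e1 - e2)
  have hsbij : Function.Bijective s := Finite.injective_iff_bijective.1 fun a b hab =>
    hAbij.1 (mul_right_cancel₀ (inv_ne_zero hc0) (by simpa [hs, div_eq_mul_inv] using hab))
  let σ : RingAut F :=
    { Equiv.ofBijective s hsbij with
      map_mul' := hsmul
      map_add' := hsadd }
  refine ⟨![c, 1], σ, fun i => by fin_cases i <;> simp [hc0], fun i j hij t => ?_⟩
  fin_cases i <;> fin_cases j <;> try exact absurd rfl hij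
  · show A t = c * s t / 1
    rw [div_one, hs]
    field_simp
  · show B t = 1 * s t / c
    rw [hBA, hs]
    field_simp

/-- The action of a diagonal semilinear map on root elements. -/
theorem ind_diag_xr (d : Fin n → F) (hd : ∀ i, d i ≠ 0) (σ : RingAut F) {i j : Fin n} (h : i ≠ j)
    (t : F) (D : GL (Fin n) F) (hD : D.1 = Matrix.diagonal d) :
    ind D σ (proj (xr h t)) = proj (xr h (d i * σ t / d j)) := by
  show proj (slConj D (slField σ (xr h t))) = _
  congr 1
  apply Subtype.ext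
  rw [slConj_val, slField_val, xr_eq_transvection, xr_eq_transvection]
  apply (Units.mul_left_inj D).1
  rw [mul_assoc, Units.inv_mul, mul_one, hD]
  simp only [Matrix.SpecialLinearGroup.transvection_coe]
  ext a b
  rw [Matrix.diagonal_mul, Matrix.mul_diagonal, Matrix.map_apply, Matrix.add_apply,
    Matrix.add_apply, Matrix.one_apply, Matrix.single_apply, Matrix.single_apply]
  by_cases hab : i = a ∧ j = b
  · obtain ⟨rfl, rfl⟩ := hab
    simp [h, hd j]
  · rcases eq_or_ne a b with rfl | hne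
    · simp [hab]
    · simp [hab, hne]

/-- **Automorphisms of `PSL_n(F)`.** -/
theorem aut_classify (hn : 2 ≤ n) (β : MulAut (Matrix.ProjectiveSpecialLinearGroup (Fin n) F)) :
    ∃ (g : GL (Fin n) F) (σ : RingAut F),
      β = ind g σ ∨ (3 ≤ n ∧ β = ind g σ * itAut) := by
  classical
  haveI : NeZero n := ⟨by omega⟩
  have main : ∀ (γ : MulAut (Matrix.ProjectiveSpecialLinearGroup (Fin n) F)) (I : Img γ),
      I.Frame → ∃ (g : GL (Fin n) F) (σ : RingAut F), γ = ind g σ := by
    intro γ I hI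
    obtain ⟨g, hg⟩ := I.exists_normalized hn hI
    obtain ⟨φ, hφ⟩ := exists_param _ hg
    obtain ⟨d, σ, hd, hds⟩ : ∃ (d : Fin n → F) (σ : RingAut F), (∀ i, d i ≠ 0) ∧
        ∀ i j, i ≠ j → ∀ t, φ i j t = d i * σ t / d j := by
      rcases Nat.lt_or_ge n 3 with h | h
      · obtain rfl : n = 2 := by omega
        exact param_eq_ind_of_two _ φ hφ
      · exact param_eq_ind_of_three h _ φ hφ
    set D : GL (Fin n) F := Matrix.GeneralLinearGroup.mkOfDetNeZero (Matrix.diagonal d)
      (by rw [Matrix.det_diagonal]; exact Finset.prod_ne_zero_iff.2 fun i _ => hd i)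
    have e : (ind g 1)⁻¹ * γ = ind D σ := aut_ext hn fun i j h t => by
      rw [(hφ i j h).1, hds i j h, ind_diag_xr d hd σ h t D rfl]
    refine ⟨g * D, σ, ?_⟩
    rw [← mul_inv_cancel_left (ind g 1) γ, e, ind_mul, one_mul]
    congr 2
  obtain ⟨I⟩ := exists_img β
  rcases I.frame_or_dual with h | ⟨h3, h⟩
  · obtain ⟨g, σ, rfl⟩ := main β I h
    exact ⟨g, σ, .inl rfl⟩
  · obtain ⟨g, σ, he⟩ := main _ I.dual h
    refine ⟨glIT g, σ, .inr ⟨h3, ?_⟩⟩
    rw [← itAut_ind, ← he, ← mul_assoc, itAut_mul_self, one_mul]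

end CfsgLib.AutPSL
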