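import Cfsg.Agent.Lib.AutPSL.Centralizer
import Cfsg.Agent.Lib.Coprime.BalanceSet
import Cfsg.Agent.Lib.Classical.SLBasic
import Cfsg.Agent.Lib.Perm.Dickson.Minimal

/-!
# Cores of centralisers of field automorphisms of `PSL_n`
-/

set_option autoImplicit false
set_option linter.all false

namespace CfsgLib.AutPSL

open Matrix CfsgLib.Descent

variable {F : Type*} [Field F] [Finite F] {n : ℕ}

theorem conj_proj (s : Matrix.SpecialLinearGroup (Fin n) F) :
    MulAut.conj (proj s) = indHom (Matrix.SpecialLinearGroup.toGL s) := by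
  refine MulEquiv.ext fun y => ?_
  obtain ⟨t, rfl⟩ := QuotientGroup.mk'_surjective _ y
  show proj s * proj t * (proj s)⁻¹ = proj (slConj (Matrix.SpecialLinearGroup.toGL s) (slField 1 t))
  rw [← map_mul, ← map_inv, ← map_mul]
  refine congrArg proj (Subtype.ext ?_)
  rw [slConj_val]
  rfl

theorem ind_proj (g : GL (Fin n) F) (τ : RingAut F) (s : Matrix.SpecialLinearGroup (Fin n) F) :
    ind g τ (proj s) = proj (slConj g (slField τ s)) := rfl

theorem field_proj (σ : RingAut F) (s : Matrix.SpecialLinearGroup (Fin n) F) :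
    ind (1 : GL (Fin n) F) σ (proj s) = proj (slField σ s) := by
  rw [ind_proj, map_one]; rfl

theorem proj_eq_imp {A B : Matrix.SpecialLinearGroup (Fin n) F} (h : proj A = proj B) :
    ∃ c : F, A.1 = c • B.1 := by
  have h1 : B⁻¹ * A ∈ Subgroup.center (Matrix.SpecialLinearGroup (Fin n) F) := QuotientGroup.eq.1 h.symm
  obtain ⟨r, -, hr⟩ := Matrix.SpecialLinearGroup.mem_center_iff.1 h1
  refine ⟨r, ?_⟩
  conv_lhs => rw [← mul_inv_cancel_left B A]
  rw [Matrix.SpecialLinearGroup.coe_mul, ← hr, Matrix.scalar_apply, ← Matrix.smul_one_eq_diagonal, Matrix.mul_smul,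
    Matrix.mul_one]

theorem proj_eq_one_of_scalar (hn : 2 ≤ n) {s : Matrix.SpecialLinearGroup (Fin n) F} {c : F} (h : s.1 = c • 1) :
    proj s = 1 := by
  refine (QuotientGroup.eq_one_iff _).2 (Matrix.SpecialLinearGroup.mem_center_iff.2 ⟨c, ?_, ?_⟩)
  · have := s.2
    rwa [h, Matrix.det_smul, Matrix.det_one, mul_one] at this
  · rw [h, Matrix.scalar_apply, Matrix.smul_one_eq_diagonal]

theorem indHom_scalar (hn : 2 ≤ n) {g : GL (Fin n) F} {c : F} (h : g.1 = c • 1) : indHom g = 1 := by
  haveI : NeZero n := ⟨by omega⟩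
  have hc : c ≠ 0 := fun e => g.ne_zero (by rw [h, e, zero_smul])
  rw [indHom_apply, show g = scal (Units.mk0 c hc) from Units.ext (by rw [scal_val, h]; rfl), ind_scal, ind_one]

theorem scalar_of_indHom (hn : 2 ≤ n) {g : GL (Fin n) F} (h : indHom g = 1) : ∃ c : F, g.1 = c • 1 := by
  obtain ⟨-, c, -, hc⟩ := eq_one_of_ind_eq_one hn (show ind g 1 = 1 from h)
  exact ⟨c, hc⟩

theorem conj_injective (hn : 2 ≤ n) :
    Function.Injective (MulAut.conj : Matrix.ProjectiveSpecialLinearGroup (Fin n) F →* _) := by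
  rw [injective_iff_map_eq_one]
  intro k hk
  obtain ⟨s, rfl⟩ := QuotientGroup.mk'_surjective _ k
  have h1 : indHom (Matrix.SpecialLinearGroup.toGL s) = 1 := (conj_proj s).symm.trans hk
  obtain ⟨c, hc⟩ := scalar_of_indHom hn h1
  exact proj_eq_one_of_scalar hn hc

/-- commuting with the elementary transvections forces scalars -/
theorem scalar_of_transv {g : Matrix (Fin n) (Fin n) F}
    (h : ∀ i j, i ≠ j → g * Matrix.single i j 1 = Matrix.single i j 1 * g) : ∃ c : F, g = c • 1 := by
  obtain ⟨c, hc⟩ := Matrix.mem_range_scalar_of_commute_single (M := g) fun i j hij => (h i j hij).symm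
  exact ⟨c, by rw [← hc, Matrix.scalar_apply, Matrix.smul_one_eq_diagonal]⟩

theorem slField_transvection (σ : RingAut F) {i j : Fin n} (hij : i ≠ j) {t : F} (ht : σ t = t) :
    slField σ (SpecialLinearGroup.transvection hij t) = SpecialLinearGroup.transvection hij t := by
  apply Subtype.ext
  rw [slField_val]
  show ((1 : Matrix (Fin n) (Fin n) F) + Matrix.single i j t).map σ = 1 + Matrix.single i j t
  rw [Matrix.map_add _ (map_add σ), Matrix.map_one _ (map_zero σ) (map_one σ), Matrix.map_single, ht]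

/-- the fixed transvections -/
def fixTransv (σ : RingAut F) : Set (Matrix.ProjectiveSpecialLinearGroup (Fin n) F) :=
  {k | ∃ (i j : Fin n) (hij : i ≠ j) (t : F), σ t = t ∧ k = proj (SpecialLinearGroup.transvection hij t)}

theorem fixTransv_fix (σ : RingAut F) : ∀ s ∈ fixTransv (n := n) σ, ind (1 : GL (Fin n) F) σ s = s := by
  rintro _ ⟨i, j, hij, t, ht, rfl⟩
  rw [field_proj, slField_transvection σ hij ht]

theorem transv_ne_one (hn : 2 ≤ n) {i j : Fin n} (hij : i ≠ j) {t : F} (ht : t ≠ 0) :
    proj (SpecialLinearGroup.transvection hij t) ≠ 1 := by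
  intro h
  obtain ⟨c, hc⟩ := proj_eq_imp (B := 1) (h.trans (map_one _).symm)
  have := congrFun (congrFun hc i) j
  rw [show (SpecialLinearGroup.transvection hij t).1 = 1 + Matrix.single i j t from rfl] at this
  simp [hij] at this
  exact ht this

/-- an automorphism of the finite field fixing the fixed field of `σ` is a power of `σ` -/
theorem zpowers_of_fixed (σ τ : RingAut F) (h : ∀ x, σ x = x → τ x = x) : τ ∈ Subgroup.zpowers σ := by
  classical
  haveI : Finite (RingAut F) := Finite.of_injective (fun τ : RingAut F => (τ : F → F)) DFunLike.coe_injective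
  haveI : Fintype (Subgroup.zpowers σ) := Fintype.ofFinite _
  haveI : FaithfulSMul (Subgroup.zpowers σ) F := ⟨fun h => Subtype.ext (RingEquiv.ext h)⟩
  obtain ⟨ψ, hψ⟩ : ∃ ψ : F →ₐ[FixedPoints.subfield (Subgroup.zpowers σ) F] F, ∀ x, ψ x = τ x :=
    ⟨{ (τ : F ≃+* F).toRingHom with commutes' := fun c => h c.1 (c.2 ⟨σ, Subgroup.mem_zpowers σ⟩) }, fun x => rfl⟩
  obtain ⟨⟨ρ, hρ⟩, hg⟩ := (FixedPoints.toAlgHom_bijective (Subgroup.zpowers σ) F).2 ψ
  have : τ = ρ := RingEquiv.ext fun x => by rw [← hψ x, ← hg]; rfl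
  exact this ▸ hρ

/-- a semilinear map fixing the fixed transvections is a power of the field automorphism -/
theorem transv_linear (hn : 2 ≤ n) (σ : RingAut F) (g : GL (Fin n) F) (τ : RingAut F)
    (h : ∀ s ∈ fixTransv (n := n) σ, ind g τ s = s) : ind g τ ∈ Subgroup.zpowers (ind (1 : GL (Fin n) F) σ) := by
  have key : ∀ i j, i ≠ j → ∀ t, σ t = t → g.1 * Matrix.single i j (τ t) * (g⁻¹).1 = Matrix.single i j t := by
    intro i j hij t ht
    obtain ⟨c, hc⟩ := proj_eq_imp (show proj (slConj g (slField τ (SpecialLinearGroup.transvection hij t))) =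
      proj (SpecialLinearGroup.transvection hij t) from h _ ⟨i, j, hij, t, ht, rfl⟩)
    rw [slConj_val, slField_val, show (SpecialLinearGroup.transvection hij t).1 = 1 + Matrix.single i j t from rfl,
      Matrix.map_add _ (map_add τ), Matrix.map_one _ (map_zero τ) (map_one τ), Matrix.map_single, Matrix.mul_add,
      Matrix.add_mul, Matrix.mul_one, ← Units.val_mul, mul_inv_cancel, Units.val_one, smul_add] at hc
    set N := g.1 * Matrix.single i j (τ t) * (g⁻¹).1 with hN
    have hN2 : N * N = 0 := by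
      rw [hN, show g.1 * Matrix.single i j (τ t) * (g⁻¹).1 * (g.1 * Matrix.single i j (τ t) * (g⁻¹).1) =
        g.1 * (Matrix.single i j (τ t) * ((g⁻¹).1 * g.1) * Matrix.single i j (τ t)) * (g⁻¹).1 by
          simp only [Matrix.mul_assoc], ← Units.val_mul, inv_mul_cancel, Units.val_one, Matrix.mul_one,
        Matrix.single_mul_single_of_ne _ _ _ _ hij.symm, Matrix.mul_zero, Matrix.zero_mul]
    have hN' : N = (c - 1) • 1 + c • Matrix.single i j t := by
      rw [sub_smul, one_smul, sub_add_eq_add_sub, ← hc, add_sub_cancel_left]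
    have h1 := congrFun (congrFun hN2 i) i
    rw [hN', Matrix.add_mul, Matrix.mul_add, Matrix.mul_add] at h1
    simp [Matrix.single_mul_single_of_ne, hij, hij.symm] at h1
    rw [hN', sub_eq_zero.1 h1, sub_self, zero_smul, zero_add, one_smul]
  have hg : ∀ i j, i ≠ j → g.1 * Matrix.single i j 1 = Matrix.single i j 1 * g.1 := fun i j hij => by
    have h1 := key i j hij 1 (map_one σ)
    rw [map_one] at h1
    conv_rhs => rw [← h1, Matrix.mul_assoc, ← Units.val_mul, inv_mul_cancel, Units.val_one, Matrix.mul_one]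
  obtain ⟨c, hc⟩ := scalar_of_transv hg
  haveI : NeZero n := ⟨by omega⟩
  have hc0 : c ≠ 0 := fun e => g.ne_zero (by rw [hc, e, zero_smul])
  have hτ : ∀ t, σ t = t → τ t = t := fun t ht => by
    have h1 := key ⟨0, by omega⟩ ⟨1, by omega⟩ (by simp [Fin.ext_iff]) t ht
    rw [hc, Matrix.smul_mul, Matrix.one_mul] at h1
    have hgi : c • (g⁻¹).1 = 1 := by
      have := congrArg Units.val (mul_inv_cancel g)
      rwa [Units.val_mul, hc, Matrix.smul_mul, Matrix.one_mul] at this
    rw [Matrix.smul_mul, ← Matrix.mul_smul, hgi, Matrix.mul_one] at h1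
    simpa using congrFun (congrFun h1 ⟨0, by omega⟩) ⟨1, by omega⟩
  obtain ⟨k, hk⟩ := Subgroup.mem_zpowers_iff.1 (zpowers_of_fixed σ τ hτ)
  refine Subgroup.mem_zpowers_iff.2 ⟨k, ?_⟩
  rw [← fieldHom_apply, ← map_zpow, hk, fieldHom_apply,
    show g = scal (Units.mk0 c hc0) from Units.ext (by rw [scal_val, hc]; rfl), ind_scal]

/-- the fixed transvections detect the powers of a field automorphism -/
theorem transv_cent (hn : 2 ≤ n) (σ : RingAut F) (a : MulAut (Matrix.ProjectiveSpecialLinearGroup (Fin n) F))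
    (h : ∀ s ∈ fixTransv (n := n) σ, a s = s) : a ∈ Subgroup.zpowers (ind (1 : GL (Fin n) F) σ) := by
  obtain ⟨g, τ, rfl | ⟨hn3, rfl⟩⟩ := aut_classify hn a
  · exact transv_linear hn σ g τ h
  exfalso
  set i0 : Fin n := ⟨0, by omega⟩
  set i1 : Fin n := ⟨1, by omega⟩
  set i2 : Fin n := ⟨2, by omega⟩
  have key : ∀ i j, i ≠ j → g.1 * Matrix.single j i (-1) * (g⁻¹).1 = Matrix.single i j 1 := by
    intro i j hij
    have h1 := h _ ⟨i, j, hij, 1, map_one σ, rfl⟩
    obtain ⟨c, hc⟩ := proj_eq_imp (show proj (slConj g (slField τ (slIT (SpecialLinearGroup.transvection hij 1)))) =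
      proj (SpecialLinearGroup.transvection hij 1) from h1)
    rw [slConj_val, slField_val, slIT_val, SpecialLinearGroup.transvection_inv,
      show (SpecialLinearGroup.transvection hij (-1 : F)).1 = 1 + Matrix.single i j (-1) from rfl,
      show (SpecialLinearGroup.transvection hij (1 : F)).1 = 1 + Matrix.single i j 1 from rfl,
      Matrix.transpose_add, Matrix.transpose_one, Matrix.transpose_single,
      Matrix.map_add _ (map_add τ), Matrix.map_one _ (map_zero τ) (map_one τ), Matrix.map_single, map_neg, map_one,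
      Matrix.mul_add, Matrix.add_mul, Matrix.mul_one, ← Units.val_mul, mul_inv_cancel, Units.val_one, smul_add] at hc
    set N := g.1 * Matrix.single j i (-1) * (g⁻¹).1 with hN
    have hN2 : N * N = 0 := by
      rw [hN, show g.1 * Matrix.single j i (-1) * (g⁻¹).1 * (g.1 * Matrix.single j i (-1) * (g⁻¹).1) =
        g.1 * (Matrix.single j i (-1) * ((g⁻¹).1 * g.1) * Matrix.single j i (-1)) * (g⁻¹).1 by
          simp only [Matrix.mul_assoc], ← Units.val_mul, inv_mul_cancel, Units.val_one, Matrix.mul_one,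
        Matrix.single_mul_single_of_ne _ _ _ _ hij, Matrix.mul_zero, Matrix.zero_mul]
    have hN' : N = (c - 1) • 1 + c • Matrix.single i j 1 := by
      rw [sub_smul, one_smul, sub_add_eq_add_sub, ← hc, add_sub_cancel_left]
    have h2 := congrFun (congrFun hN2 i) i
    rw [hN', Matrix.add_mul, Matrix.mul_add, Matrix.mul_add] at h2
    simp [Matrix.single_mul_single_of_ne, hij, hij.symm] at h2
    rw [hN', sub_eq_zero.1 h2, sub_self, zero_smul, zero_add, one_smul]
  have h01 := key i0 i1 (by simp [i0, i1, Fin.ext_iff])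
  have h12 := key i1 i2 (by simp [i1, i2, Fin.ext_iff])
  have h02 : i0 ≠ i2 := by simp [i0, i2, Fin.ext_iff]
  have h3 : g.1 * Matrix.single i1 i0 (-1) * (g⁻¹).1 * (g.1 * Matrix.single i2 i1 (-1) * (g⁻¹).1) =
      Matrix.single i0 i1 1 * Matrix.single i1 i2 1 := congrArg₂ (· * ·) h01 h12
  rw [show g.1 * Matrix.single i1 i0 (-1) * (g⁻¹).1 * (g.1 * Matrix.single i2 i1 (-1) * (g⁻¹).1) =
    g.1 * (Matrix.single i1 i0 (-1) * ((g⁻¹).1 * g.1) * Matrix.single i2 i1 (-1)) * (g⁻¹).1 by
      simp only [Matrix.mul_assoc], ← Units.val_mul, inv_mul_cancel, Units.val_one, Matrix.mul_one,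
    Matrix.single_mul_single_of_ne _ _ _ _ h02, Matrix.mul_zero, Matrix.zero_mul,
    Matrix.single_mul_single_same] at h3
  exact (zero_ne_one : (0 : F) ≠ 1) (by simpa using congrFun (congrFun h3 i0) i2)

/-- matrices of fixed points -/
theorem exists_fixed_lift (hn : 2 ≤ n) {σ : RingAut F} {r : ℕ} (hr : orderOf σ = r) (hr0 : 0 < r)
    {k : Matrix.ProjectiveSpecialLinearGroup (Fin n) F} (hk : ind (1 : GL (Fin n) F) σ k = k) :
    ∃ g : GL (Fin n) F, glMap σ g = g ∧ indHom g = MulAut.conj k := by
  obtain ⟨s, rfl⟩ := QuotientGroup.mk'_surjective _ k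
  have hc : Matrix.SpecialLinearGroup.toGL s ∈ centPre (ind (1 : GL (Fin n) F) σ) := by
    rw [mem_centPre, ← indHom_apply, ← conj_proj]
    conv_rhs => rw [← hk]
    rw [← BalanceSet.conj_smul]
    group
  obtain ⟨b, hb⟩ := centPre_field_decomp hn hr hr0 hc
  exact ⟨_, hb, by rw [indHom_apply, ind_scal_mul, ← indHom_apply]; exact (conj_proj s).symm⟩

/-- the group of images of fixed matrices -/
def fixSL (σ : RingAut F) : Subgroup (Matrix.ProjectiveSpecialLinearGroup (Fin n) F) :=
  ((slField (n := n) σ).toMonoidHom.eqLocus (MonoidHom.id _)).map proj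

theorem transv_mem_fixSL {σ : RingAut F} {s : Matrix.ProjectiveSpecialLinearGroup (Fin n) F}
    (hs : s ∈ fixTransv (n := n) σ) : s ∈ fixSL σ := by
  obtain ⟨i, j, hij, t, ht, rfl⟩ := hs
  exact Subgroup.mem_map_of_mem _ (slField_transvection σ hij ht)

theorem fixSL_simple (hn : 2 ≤ n) (σ : RingAut F) (h4 : n = 2 → 4 ≤ Nat.card (fixedField σ)) :
    IsSimpleGroup (fixSL (n := n) σ) := by
  classical
  haveI : IsSimpleGroup (Matrix.ProjectiveSpecialLinearGroup (Fin n) (fixedField σ)) := by
    rcases Nat.lt_or_ge n 3 with h | h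
    · obtain rfl : n = 2 := by omega
      exact (CfsgLib.Perm.Dickson.psl_simple_noncomm (h4 rfl)).1
    · exact CfsgLib.Classical.psl_isSimple h
  let j : fixedField σ →+* F := (fixedField σ).subtype
  let f : Matrix.SpecialLinearGroup (Fin n) (fixedField σ) →* Matrix.ProjectiveSpecialLinearGroup (Fin n) F :=
    proj.comp (Matrix.SpecialLinearGroup.map j)
  have hf : f.range = fixSL σ := by
    ext k
    constructor
    · rintro ⟨u, rfl⟩
      refine Subgroup.mem_map_of_mem _ (?_ : slField σ _ = _)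
      apply Subtype.ext
      ext a b
      exact (u.1 a b).2
    · rintro ⟨s, hs, rfl⟩
      have hs' : ∀ a b, s.1 a b ∈ fixedField σ := fun a b =>
        congrArg (fun X : Matrix.SpecialLinearGroup (Fin n) F => X.1 a b) (show slField σ s = s from hs)
      refine ⟨⟨Matrix.of fun a b => ⟨s.1 a b, hs' a b⟩, j.injective ?_⟩, congrArg proj (Subtype.ext ?_)⟩
      · rw [RingHom.map_det, map_one]
        exact s.2
      · ext a b; rfl
  have hker : Subgroup.center (Matrix.SpecialLinearGroup (Fin n) (fixedField σ)) ≤ f.ker := fun u hu => by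
    obtain ⟨c, -, hc⟩ := Matrix.SpecialLinearGroup.mem_center_iff.1 hu
    refine proj_eq_one_of_scalar hn (c := (c : F)) ?_
    show u.1.map j = _
    rw [← hc, Matrix.scalar_apply, Matrix.diagonal_map (map_zero j), Matrix.smul_one_eq_diagonal]
    rfl
  haveI : Nontrivial (fixSL (n := n) σ) := ⟨⟨⟨_, transv_mem_fixSL (σ := σ)
    ⟨⟨0, by omega⟩, ⟨1, by omega⟩, by simp [Fin.ext_iff], 1, map_one σ, rfl⟩⟩, 1,
    fun e => transv_ne_one hn _ one_ne_zero (congrArg Subtype.val e)⟩⟩
  refine IsSimpleGroup.isSimpleGroup_of_surjective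
    (f := QuotientGroup.lift _ (f.codRestrict (fixSL σ) fun u => hf ▸ ⟨u, rfl⟩) fun u hu => Subtype.ext (hker hu)) ?_
  rintro ⟨k, hk⟩
  rw [← hf] at hk
  obtain ⟨u, rfl⟩ := hk
  exact ⟨QuotientGroup.mk u, rfl⟩

theorem fixSL_normal {σ : RingAut F} {g : GL (Fin n) F} (hg : glMap σ g = g)
    {k : Matrix.ProjectiveSpecialLinearGroup (Fin n) F} (hk : k ∈ fixSL σ) : indHom g k ∈ fixSL σ := by
  obtain ⟨s, hs, rfl⟩ := hk
  refine ⟨slConj g s, ?_, ?_⟩
  · show slField σ (slConj g s) = slConj g s
    have := congrArg (fun e => e s) (slField_slConj σ g)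
    simp only [MulAut.mul_apply] at this
    rw [this, glField_eq_glMap, hg, show slField σ s = s from hs]
  · show _ = ind g 1 (proj s)
    rw [ind_proj, map_one]; rfl

theorem diag_pair_mem {σ : RingAut F} {i j : Fin n} (hij : i ≠ j) {t : F} (ht0 : t ≠ 0) (ht : σ t = t) :
    ∃ s : Matrix.SpecialLinearGroup (Fin n) F, slField σ s = s ∧
      ∀ p : ℕ, (s ^ p).1 = Matrix.diagonal (fun k => if k = i then t ^ p else if k = j then (t ^ p)⁻¹ else 1) := by
  have hdet : (Matrix.diagonal (fun k => if k = i then t else if k = j then t⁻¹ else 1)).det = 1 := by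
    rw [Matrix.det_diagonal, ← Finset.prod_subset (Finset.subset_univ ({i, j} : Finset (Fin n)))]
    · rw [Finset.prod_pair hij]; simp [hij.symm, ht0]
    · intro k _ hk
      simp only [Finset.mem_insert, Finset.mem_singleton, not_or] at hk
      simp [hk.1, hk.2]
  obtain ⟨s, hs⟩ : ∃ s : Matrix.SpecialLinearGroup (Fin n) F,
      s.1 = Matrix.diagonal (fun k => if k = i then t else if k = j then t⁻¹ else 1) := ⟨⟨_, hdet⟩, rfl⟩
  refine ⟨s, Subtype.ext ?_, fun p => ?_⟩
  · rw [slField_val, hs, Matrix.diagonal_map (map_zero σ)]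
    refine congrArg _ (funext fun k => ?_)
    split_ifs <;> simp [*]
  · rw [Matrix.SpecialLinearGroup.coe_pow, hs, Matrix.diagonal_pow]
    refine congrArg _ (funext fun k => ?_)
    simp only [Pi.pow_apply]
    split_ifs <;> simp

theorem weyl_two {i j : Fin 2} {hij : i ≠ j} (hi : i = ⟨0, by omega⟩ := by rfl) (hj : j = ⟨1, by omega⟩ := by rfl) :
    (SpecialLinearGroup.transvection hij (1 : F) * SpecialLinearGroup.transvection hij.symm (-1) *
      SpecialLinearGroup.transvection hij 1).1 = !![0, 1; -1, 0] := by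
  subst hi hj
  rw [Matrix.SpecialLinearGroup.coe_mul, Matrix.SpecialLinearGroup.coe_mul]
  show (1 + Matrix.single _ _ (1 : F)) * (1 + Matrix.single _ _ (-1)) * (1 + Matrix.single _ _ 1) = _
  ext a b
  fin_cases a <;> fin_cases b <;> simp [Matrix.mul_apply, Fin.sum_univ_two, Matrix.single]

/-- normal `p'`-subgroups of the fixed points centralise the fixed transvections -/
theorem field_hY (hn : 2 ≤ n) {σ : RingAut F} {r : ℕ} (hr : orderOf σ = r) (hr0 : 0 < r) {p : ℕ} [hp : Fact p.Prime]
    (hpF : (p : F) ≠ 0)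
    (hd : p ∣ Nat.card ↥(MonoidHom.eqLocus (ind (1 : GL (Fin n) F) σ).toMonoidHom
      (MonoidHom.id (Matrix.ProjectiveSpecialLinearGroup (Fin n) F))))
    (Y : Subgroup (Matrix.ProjectiveSpecialLinearGroup (Fin n) F))
    (hYf : ∀ y ∈ Y, ind (1 : GL (Fin n) F) σ y = y)
    (hYn : ∀ k, ind (1 : GL (Fin n) F) σ k = k → ∀ y ∈ Y, k * y * k⁻¹ ∈ Y) (hYp : ¬ p ∣ Nat.card Y)
    {y : Matrix.ProjectiveSpecialLinearGroup (Fin n) F} (hy : y ∈ Y)
    {s : Matrix.ProjectiveSpecialLinearGroup (Fin n) F} (hs : s ∈ fixTransv (n := n) σ) :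
    y * s = s * y := by
  classical
  haveI : NeZero n := ⟨by omega⟩
  haveI : Fintype (fixedField σ) := Fintype.ofFinite _
  have hsfix : ∀ k ∈ fixSL (n := n) σ, ind (1 : GL (Fin n) F) σ k = k := by
    rintro _ ⟨u, hu, rfl⟩
    rw [field_proj, show slField σ u = u from hu]
  by_cases h4 : n = 2 → 4 ≤ Nat.card (fixedField σ)
  · -- the simple case
    haveI := fixSL_simple hn σ h4
    set N := fixSL (n := n) σ
    have hnorm : ∀ k, ind (1 : GL (Fin n) F) σ k = k → ∀ u ∈ N, k * u * k⁻¹ ∈ N := fun k hk u hu => by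
      obtain ⟨g, hg, hgk⟩ := exists_fixed_lift hn hr hr0 hk
      have := fixSL_normal hg hu
      rwa [hgk, MulAut.conj_apply] at this
    haveI : (Y.subgroupOf N).Normal := ⟨fun u hu c => by
      rw [Subgroup.mem_subgroupOf] at hu ⊢
      exact hYn c.1 (hsfix _ c.2) _ hu⟩
    rcases IsSimpleGroup.eq_bot_or_eq_top_of_normal (Y.subgroupOf N) inferInstance with h | h
    · have hm : y * s * y⁻¹ * s⁻¹ ∈ Y ⊓ N := by
        refine Subgroup.mem_inf.2 ⟨?_, mul_mem (hnorm y (hYf y hy) s (transv_mem_fixSL hs)) (inv_mem (transv_mem_fixSL hs))⟩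
        rw [show y * s * y⁻¹ * s⁻¹ = y * (s * y⁻¹ * s⁻¹) by group]
        exact mul_mem hy (hYn s (fixTransv_fix σ s hs) _ (inv_mem hy))
      have h1 : (⟨_, hm.2⟩ : N) ∈ Y.subgroupOf N := hm.1
      rw [h, Subgroup.mem_bot] at h1
      have h2 : y * s * y⁻¹ * s⁻¹ = 1 := congrArg Subtype.val h1
      rwa [mul_inv_eq_one, mul_inv_eq_iff_eq_mul] at h2
    · exfalso
      refine hYp (dvd_trans ?_ (Subgroup.card_dvd_of_le (Subgroup.subgroupOf_eq_top.1 h)))
      -- an element of order `p` in `N`
      suffices ∃ u ∈ N, u ≠ 1 ∧ u ^ p = 1 by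
        obtain ⟨u, hu, hu1, hup⟩ := this
        rw [← orderOf_eq_prime hup hu1, ← Subgroup.orderOf_mk u hu]
        exact orderOf_dvd_natCard _
      by_cases hpq : p ∣ Nat.card (fixedField σ)ˣ
      swap
      · obtain ⟨⟨k, hk⟩, hkp⟩ := exists_prime_orderOf_dvd_card' p hd
        rw [Subgroup.orderOf_mk] at hkp
        obtain ⟨g, hg, hgk⟩ := exists_fixed_lift hn hr hr0 (show ind (1 : GL (Fin n) F) σ k = k from hk)
        set m := Nat.card (fixedField σ)ˣ
        refine ⟨k ^ m, ?_, fun e => hpq (hkp ▸ orderOf_dvd_of_pow_eq_one e), by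
          rw [← pow_mul, mul_comm, pow_mul, ← hkp, pow_orderOf_eq_one, one_pow]⟩
        -- the determinant of `g ^ m` is one
        have hd1 : (g ^ m).1.det = 1 := by
          have hdet : σ g.1.det = g.1.det := by
            rw [show g.1.det = ((Matrix.GeneralLinearGroup.det g : Fˣ) : F) from rfl, ← det_glMap, hg]
          rw [Units.val_pow_eq_pow_val, Matrix.det_pow]
          have hne : (⟨g.1.det, hdet⟩ : fixedField σ) ≠ 0 := fun e =>
            (Matrix.GeneralLinearGroup.det g).ne_zero (congrArg Subtype.val e)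
          have := congrArg (fun u : (fixedField σ)ˣ => ((u : fixedField σ) : F))
            (pow_card_eq_one' (x := Units.mk0 _ hne))
          simpa only [Units.val_pow_eq_pow_val, SubmonoidClass.coe_pow, Units.val_mk0, Units.val_one,
            OneMemClass.coe_one, m] using this
        obtain ⟨u, hu⟩ : ∃ u : Matrix.SpecialLinearGroup (Fin n) F, u.1 = (g ^ m).1 := ⟨⟨_, hd1⟩, rfl⟩
        refine ⟨u, ?_, conj_injective hn ?_⟩
        · refine Subtype.ext ?_
          show u.1.map σ = u.1
          rw [hu]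
          exact congrArg Units.val (by rw [map_pow, hg] : glMap σ (g ^ m) = g ^ m)
        · rw [map_pow, ← hgk, ← map_pow, conj_proj]
          exact congrArg indHom (Units.ext hu)
      · obtain ⟨t, ht⟩ := exists_prime_orderOf_dvd_card' p hpq
        obtain ⟨t0, ht0, htf, htp, ht1⟩ : ∃ t0 : F, t0 ≠ 0 ∧ σ t0 = t0 ∧ t0 ^ p = 1 ∧ t0 ≠ 1 := by
          refine ⟨((t : fixedField σ) : F), fun e => t.ne_zero (Subtype.ext e), (t : fixedField σ).2, ?_, fun e => ?_⟩
          · have := congrArg (fun u : (fixedField σ)ˣ => ((u : fixedField σ) : F)) (ht ▸ pow_orderOf_eq_one t)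
            simpa using this
          · rw [show t = 1 from Units.ext (Subtype.ext e), orderOf_one] at ht
            exact hp.out.one_lt.ne ht
        set i0 : Fin n := ⟨0, by omega⟩
        set i1 : Fin n := ⟨1, by omega⟩
        have h01 : i0 ≠ i1 := by simp [i0, i1, Fin.ext_iff]
        obtain ⟨u, hu, hupow⟩ := diag_pair_mem h01 ht0 htf
        by_cases hne : proj u = 1
        swap
        · refine ⟨proj u, Subgroup.mem_map_of_mem _ hu, hne, ?_⟩
          rw [← map_pow]
          refine proj_eq_one_of_scalar hn (c := 1) ?_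
          rw [hupow, htp]
          simp [← Matrix.diagonal_one]
        -- then `n = 2` and `t = -1`
        obtain ⟨c, hc⟩ := proj_eq_imp (B := 1) (hne.trans (map_one _).symm)
        have e0 := congrFun (congrFun hc i0) i0
        have e1 := congrFun (congrFun hc i1) i1
        have hp1 := hupow 1
        rw [pow_one, pow_one] at hp1
        rw [hp1] at e0 e1
        simp [h01.symm] at e0 e1
        have hn2 : n = 2 := by
          by_contra hn3
          have e2 := congrFun (congrFun hc ⟨2, by omega⟩) ⟨2, by omega⟩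
          rw [hp1] at e2
          rw [Matrix.diagonal_apply_eq, if_neg (by simp [i0, Fin.ext_iff]), if_neg (by simp [i1, Fin.ext_iff]),
            Matrix.smul_apply, Matrix.SpecialLinearGroup.coe_one, Matrix.one_apply_eq, smul_eq_mul, mul_one] at e2
          exact ht1 (e0.trans e2.symm)
        have htt : t0 * t0 = 1 := by
          rw [← e0] at e1
          field_simp at e1
          linear_combination -e1
        have hp2 : p = 2 := by
          by_contra hp2
          obtain ⟨k, hk⟩ := hp.out.odd_of_ne_two hp2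
          rw [hk, pow_succ, pow_mul, sq, htt, one_pow, one_mul] at htp
          exact ht1 htp
        subst hn2
        -- the Weyl element
        refine ⟨proj (SpecialLinearGroup.transvection h01 (1 : F) * SpecialLinearGroup.transvection h01.symm (-1) *
          SpecialLinearGroup.transvection h01 1), Subgroup.mem_map_of_mem _ ?_, fun e => ?_, ?_⟩
        · exact mul_mem (mul_mem (slField_transvection σ h01 (map_one σ))
            (slField_transvection σ h01.symm (by rw [map_neg, map_one]))) (slField_transvection σ h01 (map_one σ))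
        · obtain ⟨c, hc⟩ := proj_eq_imp (B := 1) (e.trans (map_one _).symm)
          rw [weyl_two] at hc
          have := congrFun (congrFun hc 0) 1
          simp at this
        · rw [← map_pow, hp2]
          refine proj_eq_one_of_scalar hn (c := -1) ?_
          rw [Matrix.SpecialLinearGroup.coe_pow, weyl_two]
          ext a b
          fin_cases a <;> fin_cases b <;> simp [sq, Matrix.mul_apply, Fin.sum_univ_two]
  · -- `PSL_2(2)` and `PSL_2(3)`
    simp only [Classical.not_imp, not_le] at h4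
    obtain ⟨hn2, hq⟩ := h4
    subst hn2
    set q := Nat.card (fixedField σ) with hqdef
    have hq1 : 1 < q := Finite.one_lt_card
    let f : GL (Fin 2) (fixedField σ) →* MulAut (Matrix.ProjectiveSpecialLinearGroup (Fin 2) F) :=
      indHom.comp (Matrix.GeneralLinearGroup.map (n := Fin 2) (fixedField σ).subtype)
    have hin : ∀ k, ind (1 : GL (Fin 2) F) σ k = k → MulAut.conj k ∈ f.range := fun k hk => by
      obtain ⟨g, hg, hgk⟩ := exists_fixed_lift hn hr hr0 hk
      have hg' : ∀ a b, g.1 a b ∈ fixedField σ := fun a b =>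
        congrArg (fun X : GL (Fin 2) F => X.1 a b) hg
      have hdet : (Matrix.of fun a b => (⟨g.1 a b, hg' a b⟩ : fixedField σ)).det ≠ 0 := fun e => by
        have h1 := congrArg (fixedField σ).subtype e
        rw [RingHom.map_det, map_zero] at h1
        exact (Matrix.GeneralLinearGroup.det g).ne_zero h1
      exact ⟨Matrix.GeneralLinearGroup.mkOfDetNeZero _ hdet,
        (congrArg indHom (Units.ext (by ext a b; rfl))).trans hgk⟩
    have hHcard : Nat.card ↥(MonoidHom.eqLocus (ind (1 : GL (Fin 2) F) σ).toMonoidHom (MonoidHom.id _)) ∣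
        (q ^ 2 - 1) * (q ^ 2 - q) := by
      have h1 : Nat.card (GL (Fin 2) (fixedField σ)) = (q ^ 2 - 1) * (q ^ 2 - q) := by
        rw [Matrix.card_GL_field, Fin.prod_univ_two, hqdef, Nat.card_eq_fintype_card]
        simp
      refine h1 ▸ dvd_trans ?_ (Subgroup.card_range_dvd f)
      exact Subgroup.card_dvd_of_injective
        ((MulAut.conj.comp (Subgroup.subtype _)).codRestrict f.range fun k => hin k.1 k.2)
        fun a b hab => Subtype.ext (conj_injective hn (congrArg Subtype.val hab))
    have hYH : Nat.card Y ∣ (q ^ 2 - 1) * (q ^ 2 - q) :=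
      (Subgroup.card_dvd_of_le (fun y hy => hYf y hy)).trans hHcard
    have hpdvd := hd.trans hHcard
    have hcop : Nat.Coprime p (Nat.card Y) := hp.out.coprime_iff_not_dvd.2 hYp
    -- the order of `s` divides `q`, and `|Y| ≤ q`
    have hqF : (q : F) = 0 := by
      haveI : Fintype (fixedField σ) := Fintype.ofFinite _
      rw [hqdef, Nat.card_eq_fintype_card]
      exact congrArg Subtype.val (FiniteField.cast_card_eq_zero (fixedField σ))
    have hsq : s ^ q = 1 := by
      obtain ⟨i, j, hij, t, -, rfl⟩ := hs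
      rw [← map_pow]
      refine proj_eq_one_of_scalar hn (c := 1) ?_
      have hpow : ∀ m : ℕ, ((SpecialLinearGroup.transvection hij t) ^ m).1 = 1 + Matrix.single i j ((m : F) * t) := by
        intro m
        induction m with
        | zero => simp
        | succ m ih =>
          rw [pow_succ, Matrix.SpecialLinearGroup.coe_mul, ih,
            show (SpecialLinearGroup.transvection hij t).1 = 1 + Matrix.single i j t from rfl]
          simp [Matrix.mul_add, Matrix.add_mul, Matrix.single_mul_single_of_ne, hij.symm, Matrix.single_add, add_mul,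
            add_assoc]
          abel
      rw [hpow, hqF, zero_mul, Matrix.single_zero, add_zero, one_smul]
    have hYq : Nat.card Y ≤ q := by
      have hpq : ∀ {a : ℕ}, q = a → a.Prime → p ≠ a := fun {a} ha _ e => hpF (by rw [e, ← ha]; exact hqF)
      interval_cases q
      · -- q = 2, p = 3
        norm_num at hpdvd hYH
        have hp3 : p = 3 := by
          rcases hp.out.dvd_mul.1 (show p ∣ 3 * 2 from hpdvd) with h | h
          · exact (Nat.prime_dvd_prime_iff_eq hp.out Nat.prime_three).1 h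
          · exact absurd ((Nat.prime_dvd_prime_iff_eq hp.out Nat.prime_two).1 h) (hpq rfl Nat.prime_two)
        subst hp3
        exact Nat.le_of_dvd (by norm_num) (Nat.Coprime.dvd_of_dvd_mul_left hcop.symm (show Nat.card Y ∣ 3 * 2 from hYH))
      · norm_num at hpdvd hYH
        have hp2 : p = 2 := by
          have := Nat.le_of_dvd (by norm_num) hpdvd
          have := hpq rfl Nat.prime_three
          by_contra hne
          have hc : Nat.Coprime p (2 ^ 4) := ((Nat.coprime_primes hp.out Nat.prime_two).2 hne).pow_right 4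
          have h3 : p ∣ 3 := hc.dvd_of_dvd_mul_left (show p ∣ 2 ^ 4 * 3 from hpdvd)
          exact this (((Nat.prime_dvd_prime_iff_eq hp.out Nat.prime_three)).1 h3)
        subst hp2
        exact Nat.le_of_dvd (by norm_num) ((hcop.symm.pow_right 4).dvd_of_dvd_mul_left
          (show Nat.card Y ∣ 2 ^ 4 * 3 from hYH))
    -- the conjugates of `y`
    have hsf := fixTransv_fix σ s hs
    have hc1 : s * y * s⁻¹ ∈ Y := hYn s hsf y hy
    by_contra hne
    have hy1 : y ≠ 1 := fun e => hne (by rw [e, one_mul, mul_one])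
    have hy2 : s * y * s⁻¹ ≠ y := fun e => hne (mul_inv_eq_iff_eq_mul.1 e).symm
    have hy3 : s * y * s⁻¹ ≠ 1 := fun e => hy1 (by simpa using e)
    haveI : Fintype Y := Fintype.ofFinite _
    have hthree : 3 ≤ Nat.card Y := by
      rw [Nat.card_eq_fintype_card]
      refine le_trans ?_ (Finset.card_le_univ ({1, ⟨y, hy⟩, ⟨_, hc1⟩} : Finset Y))
      rw [Finset.card_insert_of_notMem, Finset.card_pair]
      · exact fun e => hy2 (congrArg Subtype.val e).symm
      · simp only [Finset.mem_insert, Finset.mem_singleton, not_or]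
        exact ⟨fun e => hy1 (congrArg Subtype.val e).symm, fun e => hy3 (congrArg Subtype.val e).symm⟩
    have hq3 : q = 3 := by omega
    have hY3 : Nat.card Y = 3 := by omega
    -- the third element is `y⁻¹`
    have hy4 : y⁻¹ ≠ y := fun e => by
      have h1 : y ^ 2 = 1 := by rw [sq]; nth_rw 1 [← e]; exact inv_mul_cancel y
      have h2 := orderOf_dvd_natCard (⟨y, hy⟩ : Y)
      rw [Subgroup.orderOf_mk, orderOf_eq_prime h1 hy1, hY3] at h2
      norm_num at h2
    have hinv : s * y * s⁻¹ = y⁻¹ := by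
      by_contra h5
      have h6 : 4 ≤ Nat.card Y := by
        rw [Nat.card_eq_fintype_card]
        refine le_trans ?_ (Finset.card_le_univ ({1, ⟨y, hy⟩, ⟨_, hc1⟩, ⟨y⁻¹, inv_mem hy⟩} : Finset Y))
        rw [Finset.card_insert_of_notMem, Finset.card_insert_of_notMem, Finset.card_pair]
        · exact fun e => h5 (congrArg Subtype.val e)
        · simp only [Finset.mem_insert, Finset.mem_singleton, not_or]
          exact ⟨fun e => hy2 (congrArg Subtype.val e).symm, fun e => hy4 (congrArg Subtype.val e).symm⟩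
        · simp only [Finset.mem_insert, Finset.mem_singleton, not_or]
          exact ⟨fun e => hy1 (congrArg Subtype.val e).symm, fun e => hy3 (congrArg Subtype.val e).symm,
            fun e => hy1 (inv_eq_one.1 (congrArg Subtype.val e).symm)⟩
      omega
    have h7 : s ^ 3 * y * (s ^ 3)⁻¹ = y⁻¹ := by
      have h8 : s * y⁻¹ * s⁻¹ = y := by rw [show s * y⁻¹ * s⁻¹ = (s * y * s⁻¹)⁻¹ by group, hinv, inv_inv]
      rw [show s ^ 3 * y * (s ^ 3)⁻¹ = s * (s * (s * y * s⁻¹) * s⁻¹) * s⁻¹ by rw [pow_succ, pow_succ, pow_one]; group, hinv, h8, hinv]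
    rw [← hq3, hsq, one_mul, inv_one, mul_one] at h7
    exact hy4 h7.symm

/-- cores of centralisers of standard field automorphisms -/
theorem field_core (hn : 2 ≤ n) {σ : RingAut F} {p : ℕ} [Fact p.Prime] (hpF : (p : F) ≠ 0) (hσ : orderOf σ = p)
    (A : Subgroup (MulAut (Matrix.ProjectiveSpecialLinearGroup (Fin n) F))) (hinn : ∀ k, MulAut.conj k ∈ A) :
    Cfsg.pPrimeCore p ↥(A ⊓ Subgroup.centralizer {ind (1 : GL (Fin n) F) σ}) ≠ ⊥ ↔
      Nat.Coprime p (Nat.card ↥(MonoidHom.eqLocus (ind (1 : GL (Fin n) F) σ).toMonoidHom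
        (MonoidHom.id (Matrix.ProjectiveSpecialLinearGroup (Fin n) F)))) := by
  have hp0 := (Fact.out : p.Prime).pos
  refine BalanceSet.core_ne_bot_iff (conj_injective hn) A hinn _ (by rw [orderOf_fieldHom hn, hσ]) (fun k hk => ?_)
    (fixTransv σ) (fixTransv_fix σ)
    ⟨_, fixTransv_fix σ _ ⟨⟨0, by omega⟩, ⟨1, by omega⟩, by simp [Fin.ext_iff], 1, map_one σ, rfl⟩,
      transv_ne_one hn _ one_ne_zero⟩
    (fun a _ h => transv_cent hn σ a h) (fun hd Y hYf hYn hYp y hy s hs => field_hY hn hσ hp0 hpF hd Y hYf hYn hYp hy hs)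
  obtain ⟨s, rfl⟩ := QuotientGroup.mk'_surjective _ k
  have h1 : ind (Matrix.SpecialLinearGroup.toGL s) 1 = ind (1 : GL (Fin n) F) σ := (conj_proj s).symm.trans hk
  have h2 : ind (Matrix.SpecialLinearGroup.toGL s)⁻¹ 1 * ind (1 : GL (Fin n) F) σ = 1 := by
    rw [← h1, ← indHom_apply, ← indHom_apply, ← map_mul, inv_mul_cancel, map_one]
  rw [ind_mul, one_mul] at h2
  obtain ⟨rfl, -⟩ := eq_one_of_ind_eq_one hn h2
  rw [orderOf_one] at hσ
  exact (Fact.out : p.Prime).one_lt.ne hσ

end CfsgLib.AutPSL
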