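import Mathlib

/-!
Field automorphisms of a finite field form a cyclic group of order `f`, `|F| = p^f`.
-/

set_option autoImplicit false

namespace CfsgLib.AutPSL

theorem exists_ringAut_equiv {F : Type*} [Field F] [Fintype F] {p f : ℕ} [Fact p.Prime]
    (hF : Fintype.card F = p ^ f) :
    Nonempty (RingAut F ≃* Multiplicative (ZMod f)) := by
  haveI : CharP F p := charP_of_card_eq_prime_pow hF
  letI : Algebra (ZMod p) F := ZMod.algebra F p
  let e : RingAut F ≃* (F ≃ₐ[ZMod p] F) :=
    { toFun := fun σ => AlgEquiv.ofRingEquiv (f := σ) fun x =>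
        RingHom.congr_fun (Subsingleton.elim (σ.toRingHom.comp (algebraMap (ZMod p) F))
          (algebraMap (ZMod p) F)) x
      invFun := fun τ => τ.toRingEquiv
      left_inv := fun σ => RingEquiv.ext fun x => rfl
      right_inv := fun τ => AlgEquiv.ext fun x => rfl
      map_mul' := fun σ τ => AlgEquiv.ext fun x => rfl }
  have hfin : Module.finrank (ZMod p) F = f := by
    have h := Module.card_eq_pow_finrank (K := ZMod p) (V := F)
    rw [hF, ZMod.card] at h
    exact (Nat.pow_right_injective (Fact.out (p := p.Prime)).two_le h).symm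
  have hcard : Nat.card (F ≃ₐ[ZMod p] F) = f := by
    rw [IsGalois.card_aut_eq_finrank, hfin]
  exact ⟨e.trans (hcard ▸ (zmodCyclicMulEquiv (inferInstance : IsCyclic (F ≃ₐ[ZMod p] F))).symm)⟩

theorem card_ringAut {F : Type*} [Field F] [Fintype F] {p f : ℕ} [Fact p.Prime]
    (hF : Fintype.card F = p ^ f) : Nat.card (RingAut F) = f := by
  obtain ⟨e⟩ := exists_ringAut_equiv hF
  rw [Nat.card_congr e.toEquiv, Nat.card_congr Multiplicative.toAdd, Nat.card_zmod]

end CfsgLib.AutPSL
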