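import Mathlib
import Cfsg.Agent.Lib.AutPSL.Main
import Cfsg.Agent.Lib.AutPSL.Field

/-!
Uniqueness of the decomposition of automorphisms of `PSL_n(F)` and the outer automorphism group.
-/

set_option autoImplicit false

namespace CfsgLib.AutPSL

open Matrix

variable {n : ℕ} {F : Type*} [Field F] [Finite F]

theorem par_ev_of_mulVec [NeZero n] {g : GL (Fin n) F} {σ : RingAut F} {i j : Fin n} (hij : i ≠ j)
    {v f : Fin n → F} (hv : v ≠ 0) (hf : f ≠ 0) (h : f ⬝ᵥ v = 0)
    (he : ind g σ (proj (xr hij 1)) = proj (tv v f h)) :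
    Par v (g.1 *ᵥ ev i) := by
  obtain ⟨h', he'⟩ := ind_proj_tv g σ ((1 : F) • ev i) (ev j) (dot_smul_ev hij 1)
  rw [xr, he'] at he
  have h2 := (proj_tv_eq _ _).1 he.symm
  obtain ⟨h3, -⟩ := par_of_vecMulVec_eq hv hf h2
  have hσ : (σ : F → F) ∘ ((1 : F) • (ev i : Fin n → F)) = ev i := by
    funext r
    simp [ev, Pi.single_apply, apply_ite σ]
  rw [hσ] at h3
  exact h3.symm

theorem eq_one_of_ind_eq_one (hn : 2 ≤ n) {g : GL (Fin n) F} {σ : RingAut F}
    (h : ind g σ = 1) : σ = 1 ∧ ∃ c : F, c ≠ 0 ∧ g.1 = c • (1 : Matrix (Fin n) (Fin n) F) := by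
  classical
  haveI : NeZero n := ⟨by omega⟩
  haveI : Nontrivial (Fin n) := Fin.nontrivial_iff_two_le.2 hn
  have hcol : ∀ i, ∃ c : F, c ≠ 0 ∧ g.1 *ᵥ ev i = c • ev i := by
    intro i
    obtain ⟨j, hji⟩ := exists_ne i
    obtain ⟨c, hc, hc'⟩ := par_ev_of_mulVec (g := g) (σ := σ) hji.symm (ev_ne i (one_ne_zero (α := F)))
      (ev_ne_zero j) (dot_smul_ev hji.symm 1) (by rw [h]; rfl)
    exact ⟨c, hc, by rw [hc', one_smul]⟩
  choose d hd hd' using hcol
  have hg : g.1 = Matrix.diagonal d := by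
    ext a b
    have := congrFun (hd' b) a
    rw [ev, mulVec_single_one] at this
    rw [Matrix.diagonal_apply]
    simp [Pi.single_apply] at this
    rw [this]
    split_ifs with hab
    · rw [hab]
    · rfl
  have hpar : ∀ i j, i ≠ j → ∀ t, d i * σ t / d j = t := fun i j hij t => by
    have := ind_diag_xr d hd σ hij t g hg
    rw [h] at this
    exact (proj_xr_inj hij this).symm
  have hconst : ∀ i, d i = d 0 := by
    intro i
    by_cases hi : i = 0
    · rw [hi]
    · have := hpar i 0 hi 1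
      rw [map_one, mul_one, div_eq_one_iff_eq (hd 0)] at this
      exact this
  refine ⟨RingEquiv.ext fun t => ?_, d 0, hd 0, ?_⟩
  · obtain ⟨j, hj⟩ := exists_ne (0 : Fin n)
    have := hpar j 0 hj t
    rw [hconst j, mul_div_cancel_left₀ _ (hd 0)] at this
    exact this
  · rw [hg, Matrix.smul_one_eq_diagonal]
    exact congrArg _ (funext hconst)

theorem ind_ne_itAut (hn : 3 ≤ n) (g : GL (Fin n) F) (σ : RingAut F) :
    ind g σ ≠ itAut := by
  intro h
  haveI : NeZero n := ⟨by omega⟩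
  obtain ⟨j, hj, -⟩ := exists_third hn (0 : Fin n) 0
  obtain ⟨k, hk, hkj⟩ := exists_third hn (0 : Fin n) j
  have key : ∀ l, (hl : (0 : Fin n) ≠ l) → Par (-(ev l) : Fin n → F) (g.1 *ᵥ ev 0) := by
    intro l hl
    refine par_ev_of_mulVec (g := g) (σ := σ) (f := (1 : F) • ev 0) hl
      (neg_ne_zero.2 (ev_ne_zero l)) (ev_ne 0 one_ne_zero)
      (by rw [dotProduct_neg, dotProduct_comm, dot_smul_ev hl, neg_zero]) ?_
    rw [h]
    show proj (slIT (xr hl 1)) = _
    rw [xr, slIT_tv]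
  have h2 := ((key j hj.symm).trans (key k hk.symm).symm).neg
  rw [neg_neg, neg_neg] at h2
  exact hkj (par_ev_eq h2).symm

/-- Decomposition data `(g, σ, e)`. -/
def rep (g : GL (Fin n) F) (σ : RingAut F) (e : Bool) :
    MulAut (Matrix.ProjectiveSpecialLinearGroup (Fin n) F) :=
  ind g σ * cond e itAut 1

theorem ind_inv (g : GL (Fin n) F) (σ : RingAut F) : ∃ h, (ind g σ)⁻¹ = ind h σ⁻¹ :=
  ⟨(glField σ⁻¹ g)⁻¹, inv_eq_of_mul_eq_one_left (by
    rw [ind_mul, inv_mul_cancel, inv_mul_cancel, ind_one])⟩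

theorem rep_mul (g h : GL (Fin n) F) (σ τ : RingAut F) (e e' : Bool) :
    ∃ k, rep g σ e * rep h τ e' = rep k (σ * τ) (xor e e') := by
  cases e <;> cases e'
  · exact ⟨g * glField σ h, by simp [rep, ind_mul]⟩
  · exact ⟨g * glField σ h, by simp [rep, ← mul_assoc, ind_mul]⟩
  · refine ⟨g * glField σ (glIT h), ?_⟩
    simp only [rep, cond_true, cond_false, mul_one, Bool.xor_false]
    rw [mul_assoc, itAut_ind, ← mul_assoc, ind_mul]
  · refine ⟨g * glField σ (glIT h), ?_⟩
    simp only [rep, cond_true, Bool.xor_self, cond_false, mul_one]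
    rw [mul_assoc, ← mul_assoc itAut, itAut_ind, mul_assoc, itAut_mul_self, mul_one, ind_mul]

theorem rep_inj (hn : 3 ≤ n) {g h : GL (Fin n) F} {σ τ : RingAut F} {e e' : Bool}
    (he : rep g σ e = rep h τ e') : σ = τ ∧ e = e' := by
  obtain ⟨g', hg'⟩ := ind_inv g σ
  have key : ∀ k : GL (Fin n) F, ∀ ρ : RingAut F, ind g σ = ind k ρ → σ = ρ := by
    intro k ρ hk
    have h1 : 1 = (ind g σ)⁻¹ * ind k ρ := by rw [← hk, inv_mul_cancel]
    rw [hg', ind_mul] at h1
    exact inv_mul_eq_one.1 (eq_one_of_ind_eq_one (n := n) (by omega) h1.symm).1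
  have mix : ∀ k ρ k' ρ', ind k ρ * itAut ≠ ind k' ρ' (n := n) (F := F) := by
    intro k ρ k' ρ' hk
    obtain ⟨k'', hk''⟩ := ind_inv k ρ
    have h1 : itAut = (ind k ρ)⁻¹ * ind k' ρ' := by rw [← hk, inv_mul_cancel_left]
    rw [hk'', ind_mul] at h1
    exact ind_ne_itAut hn _ _ h1.symm
  cases e <;> cases e' <;> simp only [rep, cond_true, cond_false, mul_one] at he
  · exact ⟨key _ _ he, rfl⟩
  · exact absurd he.symm (mix _ _ _ _)
  · exact absurd he (mix _ _ _ _)
  · exact ⟨key _ _ (mul_right_cancel he), rfl⟩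

theorem exists_rep (hn : 2 ≤ n)
    (β : MulAut (Matrix.ProjectiveSpecialLinearGroup (Fin n) F)) :
    ∃ g σ e, β = rep g σ e := by
  obtain ⟨g, σ, h | ⟨-, h⟩⟩ := aut_classify hn β
  · exact ⟨g, σ, false, by simp [rep, h]⟩
  · exact ⟨g, σ, true, by simp [rep, h]⟩

/-- In dimension two the inverse transpose is inner. -/
theorem itAut_two : (itAut : MulAut (Matrix.ProjectiveSpecialLinearGroup (Fin 2) F)) =
    ind (Matrix.SpecialLinearGroup.toGL ⟨!![0, 1; -1, 0], by simp [Matrix.det_fin_two_of]⟩) 1 := by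
  refine MulEquiv.ext fun x => ?_
  obtain ⟨s, rfl⟩ := QuotientGroup.mk'_surjective _ x
  set J : Matrix.SpecialLinearGroup (Fin 2) F :=
    ⟨!![0, 1; -1, 0], by simp [Matrix.det_fin_two_of]⟩
  show proj (slIT s) = proj (slConj _ (slField 1 s))
  refine congrArg proj (Subtype.ext ?_)
  rw [slIT_val, slConj_val, slField_val, ← map_inv]
  show _ = J.1 * s.1.map (⇑(1 : RingAut F)) * (J⁻¹).1
  rw [show s.1.map (⇑(1 : RingAut F)) = s.1 from Matrix.ext fun _ _ => rfl,
    Matrix.SpecialLinearGroup.coe_inv, Matrix.SpecialLinearGroup.coe_inv,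
    Matrix.adjugate_fin_two, Matrix.adjugate_fin_two]
  ext i j
  fin_cases i <;> fin_cases j <;> simp [J, Matrix.mul_apply, Fin.sum_univ_two, Matrix.vecMul, dotProduct]

theorem mem_inn_iff {β : MulAut (Matrix.ProjectiveSpecialLinearGroup (Fin n) F)} :
    β ∈ Cfsg.Inn _ ↔ ∃ s : Matrix.SpecialLinearGroup (Fin n) F,
      β = ind (Matrix.SpecialLinearGroup.toGL s) 1 := by
  have key : ∀ s : Matrix.SpecialLinearGroup (Fin n) F,
      MulAut.conj (proj s) = ind (Matrix.SpecialLinearGroup.toGL s) 1 := fun s =>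
    MulEquiv.ext fun x => by
      obtain ⟨t, rfl⟩ := QuotientGroup.mk'_surjective _ x
      show proj s * proj t * (proj s)⁻¹ = proj (slConj _ (slField 1 t))
      rw [← map_inv, ← map_mul, ← map_mul]
      refine congrArg proj (Subtype.ext ?_)
      rw [slConj_val, slField_val, ← map_inv]
      show _ = s.1 * t.1.map (⇑(1 : RingAut F)) * (s⁻¹).1
      rw [show t.1.map (⇑(1 : RingAut F)) = t.1 from Matrix.ext fun _ _ => rfl]
      rfl
  constructor
  · rintro ⟨x, rfl⟩
    obtain ⟨s, rfl⟩ := QuotientGroup.mk'_surjective _ x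
    exact ⟨s, key s⟩
  · rintro ⟨s, rfl⟩
    exact ⟨proj s, key s⟩

instance inn_normal {G : Type*} [Group G] : (Cfsg.Inn G).Normal :=
  ⟨fun x hx β => by
    obtain ⟨g, rfl⟩ := hx
    exact ⟨β g, MulEquiv.ext fun y => by simp [MulAut.conj_apply]⟩⟩

/-- `diag (u, 1, …, 1)`. -/
def diagUnit (n : ℕ) [NeZero n] : Fˣ →* GL (Fin n) F :=
  (Units.map ((Matrix.diagonalRingHom (Fin n) F).toMonoidHom.comp
    (MonoidHom.mulSingle (fun _ : Fin n => F) 0)))

theorem det_diagUnit [NeZero n] (u : Fˣ) : (diagUnit n u).1.det = (u : F) := by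
  show (Matrix.diagonal (Pi.mulSingle (0 : Fin n) (u : F))).det = _
  rw [Matrix.det_diagonal, Finset.prod_eq_single (0 : Fin n)]
  · simp
  · intro b _ hb; rw [Pi.mulSingle_eq_of_ne hb]
  · intro h; exact absurd (Finset.mem_univ _) h

variable [Fintype F]

/-- The image of the inner-diagonal automorphisms in `Out` is cyclic of order `gcd (n, q - 1)`. -/
theorem card_diag_range (hn : 2 ≤ n) :
    ∃ K : Subgroup (Cfsg.Out (Matrix.ProjectiveSpecialLinearGroup (Fin n) F)),
      IsCyclic K ∧ Nat.card K = Nat.gcd n (Fintype.card F - 1) ∧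
      ∀ β : MulAut (Matrix.ProjectiveSpecialLinearGroup (Fin n) F),
        (β : Cfsg.Out _) ∈ K ↔ ∃ g, β = ind g 1 := by
  classical
  haveI : NeZero n := ⟨by omega⟩
  set T := Matrix.ProjectiveSpecialLinearGroup (Fin n) F
  let ι : GL (Fin n) F →* MulAut T :=
    { toFun := fun g => ind g 1
      map_one' := ind_one
      map_mul' := fun g h => by
        rw [ind_mul, one_mul, show glField (1 : RingAut F) h = h from Units.ext (Matrix.ext fun _ _ => rfl)] }
  let χ : Fˣ →* Cfsg.Out T := ((QuotientGroup.mk' (Cfsg.Inn T)).comp ι).comp (diagUnit n)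
  refine ⟨χ.range, isCyclic_of_surjective χ.rangeRestrict χ.rangeRestrict_surjective, ?_, fun β => ?_⟩
  · have hker : χ.ker = (powMonoidHom n : Fˣ →* Fˣ).range := by
      ext u
      show ((ind (diagUnit n u) 1 : MulAut T) : Cfsg.Out T) = 1 ↔ _
      rw [QuotientGroup.eq_one_iff, mem_inn_iff]
      constructor
      · rintro ⟨s, hs⟩
        set S := Matrix.SpecialLinearGroup.toGL s
        have h1 : ind (S⁻¹ * diagUnit n u) 1 = (1 : MulAut T) := by
          show ι _ = 1
          rw [map_mul, map_inv]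
          show (ind S 1)⁻¹ * ind (diagUnit n u) 1 = 1
          rw [hs, inv_mul_cancel]
        obtain ⟨-, c, hc, hce⟩ := eq_one_of_ind_eq_one hn h1
        refine ⟨Units.mk0 c hc, Units.ext ?_⟩
        have h2 := congrArg Matrix.det hce
        rw [Units.val_mul, Matrix.det_mul, det_diagUnit, ← map_inv] at h2
        rw [show ((Matrix.SpecialLinearGroup.toGL s⁻¹).1).det = 1 from (s⁻¹).2, one_mul,
          Matrix.det_smul, Matrix.det_one, mul_one, Fintype.card_fin] at h2
        simp [powMonoidHom_apply, h2]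
      · rintro ⟨c, rfl⟩
        have hdet : ((c : F)⁻¹ • (diagUnit n (c ^ n)).1).det = 1 := by
          rw [Matrix.det_smul, det_diagUnit, Fintype.card_fin, Units.val_pow_eq_pow_val, ← mul_pow,
            inv_mul_cancel₀ c.ne_zero, one_pow]
        refine ⟨⟨_, hdet⟩, MulEquiv.ext fun x => ?_⟩
        obtain ⟨t, rfl⟩ := QuotientGroup.mk'_surjective _ x
        refine congrArg proj (Subtype.ext ?_)
        set D := diagUnit n (c ^ n)
        set S := Matrix.SpecialLinearGroup.toGL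
          (⟨(c : F)⁻¹ • D.1, hdet⟩ : Matrix.SpecialLinearGroup (Fin n) F)
        show D.1 * t.1.map _ * (D⁻¹).1 = S.1 * t.1.map _ * (S⁻¹).1
        have hS : (S⁻¹).1 = (c : F) • (D⁻¹).1 := by
          refine Units.inv_eq_of_mul_eq_one_right ?_
          show ((c : F)⁻¹ • D.1) * ((c : F) • (D⁻¹).1) = 1
          rw [smul_mul_smul_comm, inv_mul_cancel₀ c.ne_zero, one_smul, Units.mul_inv]
        rw [hS]
        show _ = ((c : F)⁻¹ • D.1) * _ * ((c : F) • (D⁻¹).1)
        rw [smul_mul_assoc, smul_mul_smul_comm, inv_mul_cancel₀ c.ne_zero, one_smul]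
    haveI : IsCyclic Fˣ := inferInstance
    rw [← Subgroup.index_ker, hker, IsCyclic.index_powMonoidHom_range, Nat.card_units,
      Nat.card_eq_fintype_card, Nat.gcd_comm]
  · constructor
    · rintro ⟨u, hu⟩
      have h1 : (ι (diagUnit n u))⁻¹ * β ∈ Cfsg.Inn T := QuotientGroup.eq.1 hu
      obtain ⟨s, hs⟩ := mem_inn_iff.1 h1
      refine ⟨diagUnit n u * Matrix.SpecialLinearGroup.toGL s, ?_⟩
      show β = ι _
      rw [map_mul]
      show β = ι (diagUnit n u) * ind _ 1
      rw [← hs, mul_inv_cancel_left]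
    · rintro ⟨g, rfl⟩
      have hg : g.1.det ≠ 0 := (g.isUnit.map Matrix.detMonoidHom).ne_zero
      set D := diagUnit n (Units.mk0 _ hg)
      refine ⟨Units.mk0 _ hg, QuotientGroup.eq.2 ?_⟩
      have hdet : (D⁻¹ * g).1.det = 1 := by
        have h1 : (D⁻¹).1.det * g.1.det = 1 := by
          have h2 := congrArg Matrix.det (Units.inv_mul D)
          rwa [Matrix.det_mul, det_diagUnit, Matrix.det_one] at h2
        rw [Units.val_mul, Matrix.det_mul, h1]
      refine mem_inn_iff.2 ⟨⟨_, hdet⟩, ?_⟩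
      show (ι D)⁻¹ * ι g = _
      rw [← map_inv, ← map_mul]
      exact congrArg (fun x => ind x 1) (Units.ext rfl)

end CfsgLib.AutPSL
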