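import Mathlib
import Cfsg.Agent.Lib.AutPSL.Outer
import Cfsg.Agent.Lib.Descent.Hermitian

/-!
Field and graph-field automorphisms of prime order of `PSL_n(F)` inside their cosets.
-/

set_option autoImplicit false

namespace CfsgLib.AutPSL

open Matrix CfsgLib.Descent

variable {n : ℕ} {F : Type*} [Field F]

/-- Scalar matrices. -/
def scal (c : Fˣ) : GL (Fin n) F :=
  Units.map (Matrix.scalar (Fin n) : F →+* Matrix (Fin n) (Fin n) F).toMonoidHom c

theorem scal_val (c : Fˣ) : (scal (n := n) c).1 = (c : F) • (1 : Matrix (Fin n) (Fin n) F) := by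
  show Matrix.scalar (Fin n) (c : F) = _
  rw [Matrix.scalar_apply, Matrix.smul_one_eq_diagonal]

theorem glField_eq_glMap (σ : RingAut F) (g : GL (Fin n) F) : glField σ g = glMap σ g := rfl

theorem glField_scal (σ : RingAut F) (c : Fˣ) :
    glMap σ (scal (n := n) c) = scal (Units.map (σ : F →* F) c) := by
  apply Units.ext
  rw [glMap_val, scal_val, scal_val]
  ext i j
  rcases eq_or_ne i j with rfl | h
  · simp
  · simp [h]

theorem scal_comm (c : Fˣ) (g : GL (Fin n) F) : scal c * g = g * scal c := by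
  apply Units.ext
  rw [Units.val_mul, Units.val_mul, scal_val, smul_mul_assoc, one_mul, mul_smul_comm, mul_one]

theorem ind_scal (c : Fˣ) (σ : RingAut F) : ind (scal (n := n) c) σ = ind 1 σ := by
  refine MulEquiv.ext fun x => ?_
  obtain ⟨s, rfl⟩ := QuotientGroup.mk'_surjective _ x
  refine congrArg proj (Subtype.ext ?_)
  show (scal c).1 * s.1.map σ * ((scal c)⁻¹).1 = 1 * s.1.map σ * ((1 : GL (Fin n) F)⁻¹).1
  rw [mul_assoc, inv_one, Units.val_one, one_mul, mul_one]
  have h : Commute (scal c).1 (s.1.map σ) := by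
    rw [Commute, SemiconjBy, scal_val, smul_mul_assoc, one_mul, mul_smul_comm, mul_one]
  rw [← mul_assoc, h.eq, mul_assoc, Units.mul_inv, mul_one]

theorem ind_scal_mul (c : Fˣ) (g : GL (Fin n) F) (σ : RingAut F) :
    ind (scal c * g) σ = ind g σ := by
  have h1 : ind (scal c) 1 * ind g σ = ind (scal c * g) σ := by
    rw [ind_mul, one_mul]; rfl
  rw [← h1, ind_scal, ind_one, one_mul]

/-- Conjugation by matrices as a hom. -/
def indHom : GL (Fin n) F →* MulAut (Matrix.ProjectiveSpecialLinearGroup (Fin n) F) where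
  toFun g := ind g 1
  map_one' := ind_one
  map_mul' g h := by rw [ind_mul, one_mul]; rfl

theorem indHom_apply (g : GL (Fin n) F) : indHom g = ind g 1 := rfl

/-- Field automorphisms as a hom. -/
def fieldHom : RingAut F →* MulAut (Matrix.ProjectiveSpecialLinearGroup (Fin n) F) where
  toFun σ := ind 1 σ
  map_one' := ind_one
  map_mul' σ τ := by rw [ind_mul, map_one, mul_one]

theorem fieldHom_apply (σ : RingAut F) : fieldHom σ = ind (1 : GL (Fin n) F) σ := rfl

theorem mem_inndiag_iff {β : MulAut (Matrix.ProjectiveSpecialLinearGroup (Fin n) F)} :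
    β ∈ Cfsg.inndiagPSL n F ↔ ∃ g, β = ind g 1 := by
  have : Cfsg.inndiagPSL n F = (indHom (n := n) (F := F)).range := by
    apply le_antisymm
    · rw [Cfsg.inndiagPSL, Cfsg.autSubgroupOf, Subgroup.closure_le]
      intro γ hγ
      obtain ⟨g, hg⟩ := isInnerDiagonal_iff.1 hγ
      exact ⟨g, hg.symm⟩
    · rintro _ ⟨g, rfl⟩
      exact Subgroup.subset_closure (isInnerDiagonal_iff.2 ⟨g, rfl⟩)
  rw [this, MonoidHom.mem_range]
  exact ⟨fun ⟨g, h⟩ => ⟨g, h.symm⟩, fun ⟨g, h⟩ => ⟨g, h.symm⟩⟩

theorem ind_mul_fieldHom (g : GL (Fin n) F) (σ : RingAut F) :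
    ind g 1 * ind 1 σ = ind g σ := by rw [ind_mul, map_one, mul_one, one_mul]

theorem ind_pow (A : GL (Fin n) F) (σ : RingAut F) :
    ∀ k, (ind A σ) ^ k = ind (nprod σ A k) (σ ^ k)
  | 0 => by rw [pow_zero, pow_zero]; exact ind_one.symm
  | k + 1 => by rw [pow_succ', ind_pow A σ k, ind_mul, ← pow_succ']; rfl

theorem glIT_one : glIT (1 : GL (Fin n) F) = 1 := Units.ext (by simp [glIT])

theorem glIT_inv_val (B : GL (Fin n) F) : (glIT B⁻¹).1 = B.1ᵀ := rfl

theorem itAut_fieldHom (σ : RingAut F) :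
    itAut * ind (1 : GL (Fin n) F) σ = ind 1 σ * itAut := by rw [itAut_ind, glIT_one]

theorem ringAut_comm [Finite F] (σ τ : RingAut F) : σ * τ = τ * σ := by
  cases nonempty_fintype F
  obtain ⟨p, hp⟩ := CharP.exists F
  obtain ⟨f, hpp, hF⟩ := FiniteField.card F p
  haveI := Fact.mk hpp
  obtain ⟨θ⟩ := exists_ringAut_equiv hF
  exact θ.injective (by rw [map_mul, map_mul, mul_comm])

variable [Finite F]

/-- A conjugate of a standard (graph-)field automorphism is conjugate under `Inndiag`. -/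
theorem exists_inndiag_conj (hn : 2 ≤ n) (σ : RingAut F) (e : Bool)
    (α : MulAut (Matrix.ProjectiveSpecialLinearGroup (Fin n) F)) :
    ∃ h ∈ Cfsg.inndiagPSL n F,
      α * rep 1 σ e * α⁻¹ = h * rep 1 σ e * h⁻¹ := by
  obtain ⟨g, τ, e', rfl⟩ := exists_rep hn α
  refine ⟨ind g 1, mem_inndiag_iff.2 ⟨g, rfl⟩, ?_⟩
  have hdec : rep g τ e' = ind g 1 * rep 1 τ e' := by
    rw [rep, rep, ← mul_assoc, ind_mul_fieldHom]
  have hc1 : ∀ ρ : RingAut F, Commute (itAut : MulAut (Matrix.ProjectiveSpecialLinearGroup (Fin n) F))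
      (ind 1 ρ) := fun ρ => itAut_fieldHom ρ
  have hc2 : Commute (ind (1 : GL (Fin n) F) τ) (ind 1 σ) :=
    (congrArg fieldHom (ringAut_comm τ σ)).trans (map_mul fieldHom σ τ) |> fun h =>
      ((map_mul fieldHom τ σ).symm.trans h)
  have hc : Commute (rep (1 : GL (Fin n) F) τ e') (rep 1 σ e) := by
    cases e <;> cases e' <;> simp only [rep, cond_true, cond_false, mul_one]
    · exact hc2
    · exact hc2.mul_left (hc1 σ)
    · exact hc2.mul_right (hc1 τ).symm
    · exact (hc2.mul_right (hc1 τ).symm).mul_left ((hc1 σ).mul_right (Commute.refl _))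
  rw [hdec, _root_.mul_inv_rev, mul_assoc (ind g 1), hc.eq]
  group

/-- Elements of order dividing `r` in the coset of a field automorphism of order `r`. -/
theorem field_coset_conj (hn : 2 ≤ n) {σ : RingAut F} {r : ℕ} (hr : orderOf σ = r) (hr0 : 0 < r)
    (A : GL (Fin n) F) (hA : ind A σ ^ r = 1) :
    ∃ B : GL (Fin n) F, ind A σ = ind B 1 * ind 1 σ * (ind B 1)⁻¹ := by
  haveI : NeZero n := ⟨by omega⟩
  have hσr : σ ^ r = 1 := hr ▸ pow_orderOf_eq_one σ
  rw [ind_pow, hσr] at hA
  obtain ⟨-, c, hc0, hc⟩ := eq_one_of_ind_eq_one hn hA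
  have hN : nprod σ A r = scal (Units.mk0 c hc0) := by
    apply Units.ext
    rw [scal_val]
    exact hc
  have hfix : glMap σ (nprod σ A r) = nprod σ A r := by
    have h1 := nprod_succ' σ A r
    rw [hσr, glMap_one, show nprod σ A (r + 1) = A * glMap σ (nprod σ A r) from rfl, hN,
      scal_comm] at h1
    rw [hN]
    exact mul_left_cancel h1
  have hcfix : σ c = c := by
    rw [hN, glField_scal] at hfix
    have h2 := congrArg (fun X : GL (Fin n) F => X.1 0 0) hfix
    simpa [scal_val] using h2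
  obtain ⟨a, ha0, ha⟩ := exists_norm_eq hr hr0 hc0 hcfix
  set s : Fˣ := (Units.mk0 a ha0)⁻¹
  have key : ∀ k, nprod σ (scal s * A) k = scal (Descent.normHom σ k s) * nprod σ A k := by
    intro k
    induction k with
    | zero =>
      have h0 : Descent.normHom σ 0 s = 1 := by
        apply Units.ext
        rw [Descent.normHom_val]
        simp
      rw [h0,
        show scal (n := n) (1 : Fˣ) = 1 from map_one _]
      exact (one_mul _).symm
    | succ k ih =>
      rw [nprod_succ', ih, nprod_succ', map_mul, glField_scal,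
        show Descent.normHom σ (k + 1) s = Descent.normHom σ k s * Units.map ((σ ^ k : RingAut F) : F →* F) s from
          Finset.prod_range_succ _ _,
        show scal (n := n) (Descent.normHom σ k s * Units.map ((σ ^ k : RingAut F) : F →* F) s) =
          scal (Descent.normHom σ k s) * scal (Units.map ((σ ^ k : RingAut F) : F →* F) s) from map_mul _ _ _]
      simp only [mul_assoc]
      rw [← mul_assoc (nprod σ A k), ← scal_comm, mul_assoc]
  have hA' : nprod σ (scal s * A) r = 1 := by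
    rw [key, hN]
    have hm : scal (n := n) (Descent.normHom σ r s * Units.mk0 c hc0) =
        scal (Descent.normHom σ r s) * scal (Units.mk0 c hc0) := map_mul _ _ _
    rw [← hm]
    have : Descent.normHom σ r s * Units.mk0 c hc0 = 1 := by
      rw [map_inv, inv_mul_eq_one]
      exact Units.ext ((Descent.normHom_val σ r _).trans ha)
    rw [this]
    exact map_one _
  obtain ⟨B, hB⟩ := exists_h90 hr hr0 hA'
  refine ⟨B, ?_⟩
  rw [eq_mul_inv_iff_mul_eq, ind_mul_fieldHom, ind_mul, mul_one, ← ind_scal_mul s (A * glField σ B),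
    ← mul_assoc, glField_eq_glMap, hB]

/-- Involutions in the coset of an involutory graph-field automorphism. -/
theorem graph_coset_conj (hn : 3 ≤ n) {σ : RingAut F} (hr : orderOf σ = 2)
    (A : GL (Fin n) F) (hA : (ind A σ * itAut) ^ 2 = 1) :
    ∃ B : GL (Fin n) F, ind A σ * itAut = ind B 1 * (ind 1 σ * itAut) * (ind B 1)⁻¹ := by
  haveI : NeZero n := ⟨by omega⟩
  have hσ2 : σ * σ = 1 := by rw [← sq, ← hr, pow_orderOf_eq_one]
  have hσσ : ∀ x, σ (σ x) = x := fun x => congrArg (fun τ : RingAut F => τ x) hσ2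
  have h1 : (ind A σ * itAut) ^ 2 = ind (A * glMap σ (glIT A)) (σ * σ) := by
    rw [sq, mul_assoc, ← mul_assoc itAut, itAut_ind, mul_assoc (ind (glIT A) σ), itAut_mul_self,
      mul_one, ind_mul]
    rfl
  rw [h1, hσ2] at hA
  obtain ⟨-, c, hc0, hc⟩ := eq_one_of_ind_eq_one (n := n) (by omega) hA
  -- `A = c σ(A)ᵀ`
  have hAc : A.1 = c • (A.1.map σ)ᵀ := by
    have h2 : (glMap σ (glIT A)).1 * ((A.1.map σ)ᵀ) = 1 := by
      show ((A⁻¹).1ᵀ).map σ * (A.1.map σ)ᵀ = 1
      rw [Matrix.transpose_map, ← Matrix.transpose_mul]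
      show ((glMap σ A).1 * (glMap σ A⁻¹).1)ᵀ = 1
      rw [← Units.val_mul, ← map_mul, mul_inv_cancel, map_one, Units.val_one, Matrix.transpose_one]
    have h3 := congrArg (fun X => X * (A.1.map σ)ᵀ) hc
    simp only [Units.val_mul, mul_assoc, h2, mul_one, smul_mul_assoc, one_mul] at h3
    exact h3
  have hcc : c * σ c = 1 := by
    have h2 : A.1 = (c * σ c) • A.1 := by
      conv_lhs => rw [hAc, hAc]
      ext i j
      simp only [Matrix.smul_apply, Matrix.transpose_apply, Matrix.map_apply, smul_eq_mul, map_mul,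
        hσσ]
      ring
    by_contra hne
    have h4 : (1 - c * σ c) • A.1 = 0 := by rw [sub_smul, one_smul, ← h2, sub_self]
    rcases smul_eq_zero.1 h4 with h5 | h5
    · exact hne (sub_eq_zero.1 h5).symm
    · exact A.ne_zero h5
  obtain ⟨b, hb0, hb⟩ := exists_h90_units hr two_pos (c := c) (by
    rw [Finset.prod_range_succ, Finset.prod_range_one, pow_zero, pow_one]
    exact hcc)
  set s : Fˣ := (Units.mk0 b hb0)⁻¹
  have hherm : ((scal (n := n) s * A).1.map σ)ᵀ = (scal (n := n) s * A).1 := by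
    rw [Units.val_mul, scal_val, smul_mul_assoc, one_mul]
    conv_rhs => rw [hAc]
    rw [smul_smul]
    ext i j
    simp only [Matrix.smul_apply, Matrix.transpose_apply, Matrix.map_apply, smul_eq_mul, map_mul]
    congr 1
    show σ (b⁻¹) = b⁻¹ * c
    rw [map_inv₀]
    have hσb : σ b ≠ 0 := fun h => hb0 (σ.injective (by rw [h, map_zero]))
    field_simp
    linear_combination -hb
  obtain ⟨B, hB⟩ := exists_hermitian_decomp σ hr (scal s * A) hherm
  refine ⟨B, ?_⟩
  rw [eq_mul_inv_iff_mul_eq, ← mul_assoc (ind B 1), ind_mul_fieldHom, mul_assoc, itAut_ind,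
    ← mul_assoc, ind_mul, mul_one, ← ind_scal_mul s (A * glField σ (glIT B))]
  congr 2
  apply Units.ext
  rw [← mul_assoc, Units.val_mul, hB, glField_val]
  show B.1 * (B.1.map σ)ᵀ * ((B⁻¹).1ᵀ).map σ = B.1
  rw [Matrix.transpose_map, mul_assoc, ← Matrix.transpose_mul]
  show B.1 * ((glMap σ B⁻¹).1 * (glMap σ B).1)ᵀ = B.1
  rw [← Units.val_mul, ← map_mul, inv_mul_cancel, map_one, Units.val_one, Matrix.transpose_one,
    mul_one]

theorem orderOf_fieldHom (hn : 2 ≤ n) (σ : RingAut F) :
    orderOf (ind (1 : GL (Fin n) F) σ) = orderOf σ := by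
  refine orderOf_injective fieldHom ((injective_iff_map_eq_one _).2 fun τ hτ => ?_) σ
  exact (eq_one_of_ind_eq_one hn hτ).1

theorem graph_order (hn : 3 ≤ n) {σ : RingAut F} (hσ : σ ≠ 1) {r : ℕ} (hr : r.Prime)
    (hx : orderOf (ind (1 : GL (Fin n) F) σ * itAut) = r) : r = 2 ∧ orderOf σ = 2 := by
  have hc : Commute (ind (1 : GL (Fin n) F) σ) itAut := (itAut_fieldHom σ).symm
  have hp : (ind (1 : GL (Fin n) F) σ * itAut) ^ r = 1 := hx ▸ pow_orderOf_eq_one _
  have h2 : r = 2 := by
    by_contra hne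
    obtain ⟨k, rfl⟩ := hr.odd_of_ne_two hne
    rw [hc.mul_pow, ← fieldHom_apply, ← map_pow, fieldHom_apply, pow_succ itAut, pow_mul,
      sq, itAut_mul_self, one_pow, one_mul] at hp
    have : rep (1 : GL (Fin n) F) (σ ^ (2 * k + 1)) true = rep 1 1 false := by
      simp only [rep, cond_true, cond_false, mul_one]
      rw [hp, ind_one]
    exact absurd (rep_inj hn this).2 (by decide)
  subst h2
  refine ⟨rfl, ?_⟩
  rw [hc.mul_pow, sq itAut, itAut_mul_self, mul_one, ← fieldHom_apply, ← map_pow,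
    fieldHom_apply] at hp
  exact orderOf_eq_prime (eq_one_of_ind_eq_one (n := n) (by omega) hp).1 hσ

end CfsgLib.AutPSL
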