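import Mathlib
import Cfsg.Agent.Lib.AutPSL.Coset
import Cfsg.Agent.Lib.Descent.FixedField

/-!
Centralisers in `Inndiag` of field and graph-field automorphisms of prime order, and the number
of classes into which their classes split.
-/

set_option autoImplicit false

namespace CfsgLib.AutPSL

open Matrix CfsgLib.Descent

section general

variable {X : Type*} [Group X]

theorem isConjUnder_conj_eq {H : Subgroup X} {x h : X} (hh : h ∈ H) :
    Cfsg.IsConjUnder H (h * x * h⁻¹) = Cfsg.IsConjUnder H x := by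
  funext y
  apply propext
  constructor
  · rintro ⟨k, hk, rfl⟩
    exact ⟨k * h, mul_mem hk hh, by group⟩
  · rintro ⟨k, hk, rfl⟩
    exact ⟨k * h⁻¹, mul_mem hk (inv_mem hh), by group⟩

theorem splitClassCount_conj {H K : Subgroup X} {x h : X} (hh : h ∈ H) :
    Cfsg.splitClassCount H K (h * x * h⁻¹) = Cfsg.splitClassCount H K x := by
  unfold Cfsg.splitClassCount
  rw [isConjUnder_conj_eq hh]

/-- The centraliser inside `H` of a conjugate. -/
theorem exists_centralizer_equiv {H : Subgroup X} {x h : X} (hh : h ∈ H) :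
    Nonempty ((H ⊓ Subgroup.centralizer {x} : Subgroup X) ≃*
      (H ⊓ Subgroup.centralizer {h * x * h⁻¹} : Subgroup X)) := by
  have he : (H ⊓ Subgroup.centralizer {x}).map (MulAut.conj h).toMonoidHom =
      H ⊓ Subgroup.centralizer {h * x * h⁻¹} := by
    ext y
    simp only [Subgroup.mem_map, Subgroup.mem_inf, Subgroup.mem_centralizer_iff,
      Set.mem_singleton_iff, forall_eq, MulEquiv.coe_toMonoidHom, MulAut.conj_apply]
    constructor
    · rintro ⟨z, ⟨hz, hc⟩, rfl⟩
      refine ⟨mul_mem (mul_mem hh hz) (inv_mem hh), ?_⟩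
      calc h * x * h⁻¹ * (h * z * h⁻¹) = h * (x * z) * h⁻¹ := by group
        _ = h * (z * x) * h⁻¹ := by rw [hc]
        _ = h * z * h⁻¹ * (h * x * h⁻¹) := by group
    · rintro ⟨hy, hc⟩
      refine ⟨h⁻¹ * y * h, ⟨mul_mem (mul_mem (inv_mem hh) hy) hh, ?_⟩, by group⟩
      calc x * (h⁻¹ * y * h) = h⁻¹ * (h * x * h⁻¹ * y) * h := by group
        _ = h⁻¹ * (y * (h * x * h⁻¹)) * h := by rw [hc]
        _ = h⁻¹ * y * h * x := by group
  exact ⟨((MulAut.conj h).subgroupMap _).trans (MulEquiv.subgroupCongr he)⟩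

end general

variable {n : ℕ} {F : Type*} [Field F] [Finite F]

local notation "PT" => MulAut (Matrix.ProjectiveSpecialLinearGroup (Fin n) F)

/-- Matrices inducing automorphisms centralising `x`. -/
def centPre (x : PT) : Subgroup (GL (Fin n) F) :=
  (Subgroup.centralizer {x}).comap indHom

theorem mem_centPre {x : PT} {g : GL (Fin n) F} :
    g ∈ centPre x ↔ x * ind g 1 = ind g 1 * x := by
  simp [centPre, Subgroup.mem_centralizer_iff, indHom_apply]

theorem scal_mul (a b : Fˣ) : scal (n := n) (a * b) = scal a * scal b := map_mul _ _ _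

theorem scal_one : scal (n := n) (1 : Fˣ) = 1 := map_one _

theorem det_surjective [NeZero n] :
    Function.Surjective (Matrix.GeneralLinearGroup.det : GL (Fin n) F →* Fˣ) := fun u =>
  ⟨diagUnit n u, Units.ext (det_diagUnit u)⟩

theorem toGL_det (s : Matrix.SpecialLinearGroup (Fin n) F) :
    Matrix.GeneralLinearGroup.det (Matrix.SpecialLinearGroup.toGL s) = 1 := Units.ext s.2

/-- The number of classes is the index of the determinants of the centraliser. -/
theorem splitClassCount_eq_index [NeZero n] (x : PT) :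
    Cfsg.splitClassCount (Cfsg.inndiagPSL n F)
        (Cfsg.Inn (Matrix.ProjectiveSpecialLinearGroup (Fin n) F)) x =
      ((centPre x).map Matrix.GeneralLinearGroup.det).index := by
  classical
  set S := (centPre x).map (Matrix.GeneralLinearGroup.det (n := Fin n) (R := F)) with hS
  set H := Cfsg.inndiagPSL n F
  set K := Cfsg.Inn (Matrix.ProjectiveSpecialLinearGroup (Fin n) F)
  let D : GL (Fin n) F → Fˣ ⧸ S := fun g => QuotientGroup.mk (Matrix.GeneralLinearGroup.det g)
  have crit : ∀ g h : GL (Fin n) F,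
      Cfsg.IsConjUnder K (ind g 1 * x * (ind g 1)⁻¹) (ind h 1 * x * (ind h 1)⁻¹) ↔ D g = D h := by
    intro g h
    constructor
    · rintro ⟨k, hk, he⟩
      obtain ⟨s, rfl⟩ := mem_inn_iff.1 hk
      set z := (Matrix.SpecialLinearGroup.toGL s * g)⁻¹ * h with hz
      have hzc : z ∈ centPre x := by
        rw [mem_centPre, ← indHom_apply, hz, map_mul, map_inv, map_mul]
        simp only [indHom_apply]
        calc x * ((ind (Matrix.SpecialLinearGroup.toGL s) 1 * ind g 1)⁻¹ * ind h 1)
            = (ind (Matrix.SpecialLinearGroup.toGL s) 1 * ind g 1)⁻¹ *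
              (ind (Matrix.SpecialLinearGroup.toGL s) 1 * (ind g 1 * x * (ind g 1)⁻¹) *
                (ind (Matrix.SpecialLinearGroup.toGL s) 1)⁻¹) * ind h 1 := by group
          _ = (ind (Matrix.SpecialLinearGroup.toGL s) 1 * ind g 1)⁻¹ *
              (ind h 1 * x * (ind h 1)⁻¹) * ind h 1 := by rw [← he]
          _ = _ := by group
      refine QuotientGroup.eq.2 ⟨z, hzc, ?_⟩
      rw [hz, map_mul, map_inv, map_mul, toGL_det, one_mul]
    · intro hd
      obtain ⟨z, hz, hzd⟩ := QuotientGroup.eq.1 hd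
      have hdet : (h * z⁻¹ * g⁻¹).1.det = 1 := by
        have h1 : Matrix.GeneralLinearGroup.det (h * z⁻¹ * g⁻¹) = 1 := by
          rw [map_mul, map_mul, map_inv, map_inv, hzd, _root_.mul_inv_rev, inv_inv,
            ← mul_assoc, mul_inv_cancel, one_mul, mul_inv_cancel]
        exact congrArg Units.val h1
      refine ⟨ind (h * z⁻¹ * g⁻¹) 1, mem_inn_iff.2 ⟨⟨_, hdet⟩,
        congrArg (fun a => ind a 1) (Units.ext rfl)⟩, ?_⟩
      simp only [← indHom_apply, map_mul, map_inv]
      simp only [indHom_apply]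
      have hc := mem_centPre.1 hz
      calc ind h 1 * x * (ind h 1)⁻¹
          = ind h 1 * (ind z 1)⁻¹ * (ind z 1 * x) * (ind h 1)⁻¹ := by group
        _ = ind h 1 * (ind z 1)⁻¹ * (x * ind z 1) * (ind h 1)⁻¹ := by rw [hc]
        _ = _ := by group
  have hex : ∀ y : {y : PT // Cfsg.IsConjUnder H x y},
      ∃ g, y.1 = ind g 1 * x * (ind g 1)⁻¹ := by
    rintro ⟨y, k, hk, rfl⟩
    obtain ⟨g, rfl⟩ := mem_inndiag_iff.1 hk
    exact ⟨g, rfl⟩
  choose G hG using hex
  let f : Quot (fun y z : {y : PT // Cfsg.IsConjUnder H x y} => Cfsg.IsConjUnder K y.1 z.1) →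
      Fˣ ⧸ S := Quot.lift (fun y => D (G y)) fun y z hyz => by
        rw [hG y, hG z] at hyz
        exact (crit _ _).1 hyz
  refine Nat.card_eq_of_bijective f ⟨?_, ?_⟩
  · rintro ⟨y⟩ ⟨z⟩ hyz
    refine Quot.sound ?_
    show Cfsg.IsConjUnder K y.1 z.1
    rw [hG y, hG z]
    exact (crit _ _).2 hyz
  · intro m
    obtain ⟨u, rfl⟩ := QuotientGroup.mk'_surjective S m
    obtain ⟨g, rfl⟩ := det_surjective (n := n) u
    refine ⟨Quot.mk _ ⟨ind g 1 * x * (ind g 1)⁻¹, ind g 1, mem_inndiag_iff.2 ⟨g, rfl⟩, rfl⟩, ?_⟩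
    refine ((crit _ _).1 ⟨1, one_mem _, ?_⟩).symm
    rw [← hG]
    group

/-- The inner-diagonal centraliser as an image. -/
theorem centralizer_eq_map (x : PT) :
    Cfsg.inndiagPSL n F ⊓ Subgroup.centralizer {x} = (centPre x).map indHom := by
  ext y
  simp only [Subgroup.mem_inf, Subgroup.mem_map, centPre, Subgroup.mem_comap, mem_inndiag_iff]
  constructor
  · rintro ⟨⟨g, rfl⟩, hy⟩
    exact ⟨g, hy, rfl⟩
  · rintro ⟨g, hg, rfl⟩
    exact ⟨⟨g, rfl⟩, hg⟩

/-- A group mapped onto the centraliser with scalar kernel. -/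
theorem centralizer_equiv_quotient (hn : 2 ≤ n) (x : PT) {U : Type*} [Group U]
    (ι : U →* GL (Fin n) F) (N : Subgroup U) [N.Normal]
    (hN : ∀ u, u ∈ N ↔ ∃ c : F, (ι u).1 = c • (1 : Matrix (Fin n) (Fin n) F))
    (hle : ∀ u, ι u ∈ centPre x)
    (hsurj : ∀ g ∈ centPre x, ∃ (c : Fˣ) (u : U), g = scal c * ι u) :
    Nonempty ((U ⧸ N) ≃* (Cfsg.inndiagPSL n F ⊓ Subgroup.centralizer {x} : Subgroup PT)) := by
  have hker : (indHom.comp ι).ker = N := by
    ext u
    rw [MonoidHom.mem_ker, hN]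
    show ind (ι u) 1 = 1 ↔ _
    constructor
    · intro h
      obtain ⟨-, c, -, hc⟩ := eq_one_of_ind_eq_one hn h
      exact ⟨c, hc⟩
    · rintro ⟨c, hc⟩
      haveI : NeZero n := ⟨by omega⟩
      have hc0 : c ≠ 0 := fun h0 => (ι u).ne_zero (by rw [hc, h0, zero_smul])
      rw [show ι u = scal (Units.mk0 c hc0) from Units.ext (by rw [scal_val]; exact hc), ind_scal,
        ind_one]
  have hrange : (indHom.comp ι).range =
      Cfsg.inndiagPSL n F ⊓ Subgroup.centralizer {x} := by
    rw [centralizer_eq_map]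
    apply le_antisymm
    · rintro _ ⟨u, rfl⟩
      exact ⟨ι u, hle u, rfl⟩
    · rintro _ ⟨g, hg, rfl⟩
      obtain ⟨c, u, rfl⟩ := hsurj g hg
      exact ⟨u, (ind_scal_mul c (ι u) 1).symm⟩
  exact ⟨(QuotientGroup.quotientMulEquivOfEq hker.symm).trans
    ((QuotientGroup.quotientKerEquivRange _).trans (MulEquiv.subgroupCongr hrange))⟩

theorem ind_eq_imp (hn : 2 ≤ n) {g h : GL (Fin n) F} {σ : RingAut F} (he : ind g σ = ind h σ) :
    ∃ c : Fˣ, h = scal c * g := by
  rw [← ind_mul_fieldHom g, ← ind_mul_fieldHom h] at he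
  have h1 : ind (h * g⁻¹) 1 = (1 : PT) := by
    rw [← indHom_apply, map_mul, map_inv]
    exact mul_inv_eq_one.2 (mul_right_cancel he).symm
  obtain ⟨-, c, hc0, hc⟩ := eq_one_of_ind_eq_one hn h1
  refine ⟨Units.mk0 c hc0, ?_⟩
  rw [show scal (Units.mk0 c hc0) = h * g⁻¹ from Units.ext (by rw [scal_val]; exact hc.symm),
    inv_mul_cancel_right]

theorem mem_centPre_field (hn : 2 ≤ n) {σ : RingAut F} {g : GL (Fin n) F} :
    g ∈ centPre (ind (1 : GL (Fin n) F) σ) ↔ ∃ c : Fˣ, g = scal c * glMap σ g := by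
  rw [mem_centPre, ind_mul, one_mul, mul_one, ind_mul_fieldHom]
  constructor
  · exact fun h => ind_eq_imp hn h
  · rintro ⟨c, hc⟩
    conv_rhs => rw [hc, ind_scal_mul]
    rfl

theorem mem_centPre_graph (hn : 2 ≤ n) {σ : RingAut F} {g : GL (Fin n) F} :
    g ∈ centPre (ind (1 : GL (Fin n) F) σ * itAut) ↔
      ∃ c : Fˣ, g = scal c * glMap σ (glIT g) := by
  rw [mem_centPre, mul_assoc, itAut_ind, ← mul_assoc, ind_mul, one_mul, mul_one,
    ← mul_assoc (ind g 1), ind_mul_fieldHom, mul_left_inj]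
  constructor
  · exact fun h => ind_eq_imp hn h
  · rintro ⟨c, hc⟩
    conv_rhs => rw [hc, ind_scal_mul]
    rfl

theorem det_scal (c : Fˣ) :
    Matrix.GeneralLinearGroup.det (scal (n := n) c) = c ^ n := by
  apply Units.ext
  rw [Matrix.GeneralLinearGroup.val_det_apply, scal_val, Matrix.det_smul, Matrix.det_one, mul_one,
    Fintype.card_fin, Units.val_pow_eq_pow_val]

theorem det_glMap (σ : RingAut F) (g : GL (Fin n) F) :
    ((Matrix.GeneralLinearGroup.det (glMap σ g) : Fˣ) : F) =
      σ ((Matrix.GeneralLinearGroup.det g : Fˣ) : F) :=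
  (σ.toRingHom.map_det g.1).symm

theorem centPre_field_decomp (hn : 2 ≤ n) {σ : RingAut F} {r : ℕ} (hr : orderOf σ = r)
    (hr0 : 0 < r) {g : GL (Fin n) F} (hg : g ∈ centPre (ind (1 : GL (Fin n) F) σ)) :
    ∃ b : Fˣ, glMap σ (scal b * g) = scal b * g := by
  haveI : NeZero n := ⟨by omega⟩
  obtain ⟨c, hc⟩ := (mem_centPre_field hn).1 hg
  have key : ∀ k, g = scal (Descent.normHom σ k c) * glMap (σ ^ k) g := by
    intro k
    induction k with
    | zero =>
      have h0 : Descent.normHom σ 0 c = 1 := by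
        apply Units.ext; rw [Descent.normHom_val]; simp
      rw [h0, show scal (n := n) (1 : Fˣ) = 1 from map_one _, pow_zero, glMap_one, one_mul]
    | succ k ih =>
      conv_lhs => rw [ih, hc]
      rw [map_mul, glField_scal, glMap_glMap, ← pow_succ, ← mul_assoc,
        show Descent.normHom σ (k + 1) c =
          Descent.normHom σ k c * Units.map ((σ ^ k : RingAut F) : F →* F) c from
          Finset.prod_range_succ _ _]
      congr 1
      exact (map_mul _ _ _).symm
  have h1 := key r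
  rw [← hr, pow_orderOf_eq_one, glMap_one, hr] at h1
  have hN : Descent.normHom σ r c = 1 := by
    have h2 : scal (n := n) (Descent.normHom σ r c) = 1 := mul_eq_right.1 h1.symm
    have h3 := congrArg (fun X : GL (Fin n) F => X.1 0 0) h2
    apply Units.ext
    simpa [scal_val] using h3
  obtain ⟨b, hb0, hb⟩ := exists_h90_units hr hr0 (c := (c : F))
    (by rw [← Descent.normHom_val, hN, Units.val_one])
  refine ⟨(Units.mk0 b hb0)⁻¹, ?_⟩
  rw [map_mul, glField_scal]
  conv_rhs => rw [hc, ← mul_assoc, ← scal_mul]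
  congr 2
  apply Units.ext
  rw [Units.val_mul, Units.val_inv_eq_inv_val, Units.val_mk0]
  show σ ((Units.mk0 b hb0)⁻¹ : Fˣ).val = b⁻¹ * c
  rw [Units.val_inv_eq_inv_val, Units.val_mk0, map_inv₀]
  have hσb : σ b ≠ 0 := fun h => hb0 (σ.injective (by rw [h, map_zero]))
  field_simp
  linear_combination -hb

theorem field_det_image (hn : 2 ≤ n) {σ : RingAut F} {r : ℕ} (hr : orderOf σ = r) (hr0 : 0 < r) :
    (centPre (ind (1 : GL (Fin n) F) σ)).map Matrix.GeneralLinearGroup.det =
      (powMonoidHom n : Fˣ →* Fˣ).range ⊔ fixedUnits σ := by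
  haveI : NeZero n := ⟨by omega⟩
  apply le_antisymm
  · rintro _ ⟨g, hg, rfl⟩
    obtain ⟨b, hb⟩ := centPre_field_decomp hn hr hr0 hg
    have h1 : Matrix.GeneralLinearGroup.det (scal b * g) ∈ fixedUnits σ := by
      rw [mem_fixedUnits, ← det_glMap, hb]
    have h2 : Matrix.GeneralLinearGroup.det g =
        (b⁻¹) ^ n * Matrix.GeneralLinearGroup.det (scal b * g) := by
      rw [map_mul, det_scal, inv_pow, inv_mul_cancel_left]
    rw [h2]
    exact Subgroup.mul_mem_sup ⟨b⁻¹, rfl⟩ h1
  · rw [sup_le_iff]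
    constructor
    · rintro _ ⟨c, rfl⟩
      refine ⟨scal c, (mem_centPre_field hn).2 ⟨c * (Units.map (σ : F →* F) c)⁻¹, ?_⟩, det_scal c⟩
      rw [glField_scal, ← scal_mul, inv_mul_cancel_right]
    · intro u hu
      refine ⟨diagUnit n u, (mem_centPre_field hn).2 ⟨1, ?_⟩, Units.ext (det_diagUnit u)⟩
      rw [show scal (n := n) (1 : Fˣ) = 1 from map_one _, one_mul]
      apply Units.ext
      show Matrix.diagonal (Pi.mulSingle (0 : Fin n) (u : F)) =
        (Matrix.diagonal (Pi.mulSingle (0 : Fin n) (u : F))).map σ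
      rw [Matrix.diagonal_map (map_zero σ)]
      congr 1
      funext i
      rcases eq_or_ne i 0 with rfl | hi
      · simp [mem_fixedUnits.1 hu]
      · simp [hi]

/-- Unitary matrices for `σ`. -/
def IsUnitaryFor (σ : RingAut F) (g : GL (Fin n) F) : Prop := g.1 * (g.1.map σ)ᵀ = 1

theorem graph_glMap_glIT_mul (σ : RingAut F) (g : GL (Fin n) F) :
    (glMap σ (glIT g)).1 * (g.1.map σ)ᵀ = 1 := by
  show ((g⁻¹).1ᵀ).map σ * (g.1.map σ)ᵀ = 1
  rw [Matrix.transpose_map, ← Matrix.transpose_mul]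
  show ((glMap σ g).1 * (glMap σ g⁻¹).1)ᵀ = 1
  rw [← Units.val_mul, ← map_mul, mul_inv_cancel, map_one, Units.val_one, Matrix.transpose_one]

theorem mem_centPre_of_unitary (hn : 2 ≤ n) {σ : RingAut F} {g : GL (Fin n) F}
    (hg : IsUnitaryFor σ g) : g ∈ centPre (ind (1 : GL (Fin n) F) σ * itAut) := by
  refine (mem_centPre_graph hn).2 ⟨1, ?_⟩
  rw [show scal (n := n) (1 : Fˣ) = 1 from map_one _, one_mul]
  apply Units.ext
  exact (left_inv_eq_right_inv (graph_glMap_glIT_mul σ g)
    (mul_eq_one_comm.1 hg)).symm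

theorem centPre_graph_decomp (hn : 2 ≤ n) {σ : RingAut F} (hr : orderOf σ = 2)
    {g : GL (Fin n) F} (hg : g ∈ centPre (ind (1 : GL (Fin n) F) σ * itAut)) :
    ∃ b : Fˣ, IsUnitaryFor σ (scal b * g) := by
  haveI : NeZero n := ⟨by omega⟩
  obtain ⟨c, hc⟩ := (mem_centPre_graph hn).1 hg
  have hσ2 : σ * σ = 1 := by rw [← sq, ← hr, pow_orderOf_eq_one]
  have hσσ : ∀ x, σ (σ x) = x := fun x => congrArg (fun τ : RingAut F => τ x) hσ2
  have hgg : g.1 * (g.1.map σ)ᵀ = (c : F) • 1 := by
    conv_lhs => arg 1; rw [hc]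
    rw [Units.val_mul, scal_val, smul_mul_assoc, one_mul, smul_mul_assoc, graph_glMap_glIT_mul]
  have hcfix : σ (c : F) = c := by
    have h1 : (((g.1 * (g.1.map σ)ᵀ)).map σ)ᵀ = g.1 * (g.1.map σ)ᵀ := by
      ext i j
      simp only [Matrix.transpose_apply, Matrix.map_apply, Matrix.mul_apply, map_sum, map_mul, hσσ]
      exact Finset.sum_congr rfl fun k _ => mul_comm _ _
    rw [hgg] at h1
    have h2 := congrFun (congrFun h1 0) 0
    simpa using h2
  obtain ⟨a, ha0, ha⟩ := exists_norm_eq hr two_pos c.ne_zero hcfix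
  rw [Finset.prod_range_succ, Finset.prod_range_one, pow_zero, pow_one] at ha
  refine ⟨(Units.mk0 a ha0)⁻¹, ?_⟩
  show (scal _ * g).1 * ((scal _ * g).1.map σ)ᵀ = 1
  rw [Units.val_mul, scal_val, smul_mul_assoc, one_mul, Matrix.map_smul' _ _ _ (map_mul σ),
    Matrix.transpose_smul, smul_mul_smul_comm, hgg, smul_smul]
  have hσa : σ a ≠ 0 := fun h => ha0 (σ.injective (by rw [h, map_zero]))
  have : ((Units.mk0 a ha0)⁻¹ : Fˣ).val * σ ((Units.mk0 a ha0)⁻¹ : Fˣ).val * c = 1 := by
    rw [Units.val_inv_eq_inv_val, Units.val_mk0, map_inv₀, ← ha]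
    show a⁻¹ * (σ a)⁻¹ * (a * σ a) = 1
    field_simp
  rw [this, one_smul]

theorem graph_det_image (hn : 2 ≤ n) {σ : RingAut F} (hr : orderOf σ = 2) :
    (centPre (ind (1 : GL (Fin n) F) σ * itAut)).map Matrix.GeneralLinearGroup.det =
      (powMonoidHom n : Fˣ →* Fˣ).range ⊔ (Descent.normHom σ 2).ker := by
  haveI : NeZero n := ⟨by omega⟩
  have hnorm : ∀ u : Fˣ, u ∈ (Descent.normHom σ 2).ker ↔ (u : F) * σ u = 1 := by
    intro u
    rw [MonoidHom.mem_ker, ← Units.val_eq_one, Descent.normHom_val, Finset.prod_range_succ,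
      Finset.prod_range_one, pow_zero, pow_one]
    rfl
  apply le_antisymm
  · rintro _ ⟨g, hg, rfl⟩
    obtain ⟨b, hb⟩ := centPre_graph_decomp hn hr hg
    have h1 : Matrix.GeneralLinearGroup.det (scal b * g) ∈ (Descent.normHom σ 2).ker := by
      rw [hnorm, ← det_glMap, Matrix.GeneralLinearGroup.val_det_apply,
        Matrix.GeneralLinearGroup.val_det_apply, glMap_val]
      have h3 := congrArg Matrix.det hb
      rwa [Matrix.det_mul, Matrix.det_transpose, Matrix.det_one] at h3
    have h2 : Matrix.GeneralLinearGroup.det g =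
        (b⁻¹) ^ n * Matrix.GeneralLinearGroup.det (scal b * g) := by
      rw [map_mul, det_scal, inv_pow, inv_mul_cancel_left]
    rw [h2]
    exact Subgroup.mul_mem_sup ⟨b⁻¹, rfl⟩ h1
  · rw [sup_le_iff]
    constructor
    · rintro _ ⟨c, rfl⟩
      refine ⟨scal c, (mem_centPre_graph hn).2 ⟨c * Units.map (σ : F →* F) c, ?_⟩, det_scal c⟩
      have hIT : glIT (scal (n := n) c) = scal c⁻¹ := by
        apply Units.ext
        show ((scal c)⁻¹).1ᵀ = _
        rw [show (scal (n := n) c)⁻¹ = scal c⁻¹ from (map_inv _ c).symm, scal_val,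
          Matrix.transpose_smul, Matrix.transpose_one]
      rw [hIT, glField_scal, ← scal_mul, map_inv, mul_inv_cancel_right]
    · intro u hu
      refine ⟨diagUnit n u, mem_centPre_of_unitary hn ?_, Units.ext (det_diagUnit u)⟩
      show Matrix.diagonal (Pi.mulSingle (0 : Fin n) (u : F)) *
        ((Matrix.diagonal (Pi.mulSingle (0 : Fin n) (u : F))).map σ)ᵀ = 1
      rw [Matrix.diagonal_map (map_zero σ), Matrix.diagonal_transpose, Matrix.diagonal_mul_diagonal,
        ← Matrix.diagonal_one]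
      congr 1
      funext i
      rcases eq_or_ne i 0 with rfl | hi
      · simpa using (hnorm u).1 hu
      · simp [hi]

/-- The centraliser of a field automorphism is `PGL` of the fixed field. -/
theorem pgl_equiv_centralizer (hn : 2 ≤ n) {σ : RingAut F} {r : ℕ} (hr : orderOf σ = r)
    (hr0 : 0 < r) (F₀ : Type*) [Field F₀] [Fintype F₀]
    (hcard : Nat.card (fixedField σ) = Fintype.card F₀) :
    Nonempty (Matrix.ProjGenLinGroup (Fin n) F₀ ≃*
      (Cfsg.inndiagPSL n F ⊓ Subgroup.centralizer {ind (1 : GL (Fin n) F) σ} :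
        Subgroup PT)) := by
  classical
  haveI : NeZero n := ⟨by omega⟩
  haveI : Fintype (fixedField σ) := Fintype.ofFinite _
  rw [Nat.card_eq_fintype_card] at hcard
  let e : F₀ ≃+* fixedField σ := FiniteField.ringEquivOfCardEq hcard.symm
  let j : F₀ →+* F := (fixedField σ).subtype.comp e.toRingHom
  have hjfix : ∀ a, σ (j a) = j a := fun a => (e a).2
  have hjsurj : ∀ y, σ y = y → ∃ a, j a = y := fun y hy =>
    ⟨e.symm ⟨y, hy⟩, by simp [j]⟩
  refine centralizer_equiv_quotient hn _ (Matrix.GeneralLinearGroup.map (n := Fin n) j)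
    (Subgroup.center (GL (Fin n) F₀)) ?_ ?_ ?_
  · intro u
    rw [Matrix.GeneralLinearGroup.mem_center_iff_val_eq_scalar]
    constructor
    · rintro ⟨a, ha⟩
      refine ⟨j a, ?_⟩
      show u.1.map j = _
      rw [← ha, Matrix.scalar_apply, Matrix.diagonal_map (map_zero j), Matrix.smul_one_eq_diagonal]
    · rintro ⟨c, hc⟩
      refine ⟨u.1 0 0, ?_⟩
      ext i k
      have h2 : ∀ a b, j (u.1 a b) = if a = b then c else 0 := fun a b => by
        have h3 := congrFun (congrFun hc a) b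
        change j (u.1 a b) = _ at h3
        rw [h3, Matrix.smul_one_eq_diagonal, Matrix.diagonal_apply]
      apply j.injective
      rw [h2, Matrix.scalar_apply, Matrix.diagonal_apply]
      split
      · rw [h2]; simp
      · rw [map_zero]
  · intro u
    refine (mem_centPre_field hn).2 ⟨1, ?_⟩
    rw [scal_one, one_mul]
    apply Units.ext
    ext i k
    exact (hjfix _).symm
  · intro g hg
    obtain ⟨b, hb⟩ := centPre_field_decomp hn hr hr0 hg
    have hb' : ∀ i k, σ ((scal b * g).1 i k) = (scal b * g).1 i k := fun i k =>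
      congrArg (fun X : GL (Fin n) F => X.1 i k) hb
    choose A hA using fun i k => hjsurj _ (hb' i k)
    set M : Matrix (Fin n) (Fin n) F₀ := Matrix.of A
    have hAdet : M.det ≠ 0 := by
      intro h0
      have h1 : j M.det = (j.mapMatrix M).det := j.map_det M
      rw [h0, map_zero] at h1
      refine (Matrix.GeneralLinearGroup.det (scal b * g)).ne_zero ?_
      rw [Matrix.GeneralLinearGroup.val_det_apply, h1]
      congr 1
      ext i k
      exact (hA i k).symm
    refine ⟨b⁻¹, Matrix.GeneralLinearGroup.mkOfDetNeZero M hAdet, ?_⟩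
    rw [show Matrix.GeneralLinearGroup.map (n := Fin n) j
        (Matrix.GeneralLinearGroup.mkOfDetNeZero M hAdet) = scal b * g from
      Units.ext (by ext i k; exact hA i k), ← mul_assoc, ← scal_mul, inv_mul_cancel, scal_one,
      one_mul]

omit [Finite F] in
theorem index_fixedUnits [Fintype F] {σ : RingAut F} {q q0 : ℕ} (hF : Fintype.card F = q)
    (hc : Nat.card (fixedField σ) = q0) : (fixedUnits σ).index = (q - 1) / (q0 - 1) := by
  classical
  have h1 := Subgroup.card_mul_index (fixedUnits σ)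
  rw [card_fixedUnits, hc, Nat.card_units, Nat.card_eq_fintype_card, hF] at h1
  have h2 : 0 < q0 - 1 := by
    rw [← hc, ← card_fixedUnits]
    exact Nat.card_pos
  rw [← h1, Nat.mul_div_cancel_left _ h2]

end CfsgLib.AutPSL
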