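import Mathlib
import Cfsg.Prelude.Def_LieTypeDatum
import Cfsg.Agent.Lib.AutPSL.Centralizer

/-!
The centraliser of an involutory graph-field automorphism is the projective unitary group.
-/

set_option autoImplicit false

namespace CfsgLib.AutPSL

open Matrix CfsgLib.Descent

variable {n : ℕ} {F : Type*} [Field F] [Fintype F]

/-- An automorphism of order two of a finite field is `x ↦ x ^ q₀`. -/
theorem involution_eq_pow {p f : ℕ} [Fact p.Prime] (hF : Fintype.card F = p ^ f) {σ : RingAut F}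
    (hσ : orderOf σ = 2) : Even f ∧ ∀ x, σ x = x ^ p ^ (f / 2) := by
  classical
  haveI : CharP F p := charP_of_card_eq_prime_pow hF
  obtain ⟨h2f, hcard⟩ := card_fixedField Fact.out hF hσ two_pos
  have hp := (Fact.out : p.Prime)
  have hf0 : 0 < f / 2 := by
    rcases Nat.eq_zero_or_pos (f / 2) with h0 | h0
    · obtain ⟨k, rfl⟩ := h2f
      have : k = 0 := by omega
      subst this
      have := Fintype.one_lt_card (α := F)
      simp [hF] at this
    · exact h0
  refine ⟨even_iff_two_dvd.2 h2f, ?_⟩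
  obtain ⟨θ⟩ := exists_ringAut_equiv hF
  haveI : IsCyclic (RingAut F) := isCyclic_of_surjective θ.symm θ.symm.surjective
  haveI : Finite (RingAut F) := Finite.of_injective (fun τ : RingAut F => (τ : F → F))
    DFunLike.coe_injective
  haveI : Fintype (RingAut F) := Fintype.ofFinite _
  set τ : RingAut F := iterateFrobeniusEquiv F p (f / 2) with hτdef
  have hτ : ∀ x, τ x = x ^ p ^ (f / 2) := fun x => iterateFrobeniusEquiv_def F p (f / 2) x
  have hτ2 : τ ^ 2 = 1 := by
    apply RingEquiv.ext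
    intro x
    show τ (τ x) = x
    rw [hτ, hτ, ← pow_mul, ← pow_add, ← two_mul, Nat.mul_div_cancel' h2f, ← hF,
      FiniteField.pow_card]
  have hτ1 : τ ≠ 1 := by
    intro h1
    obtain ⟨g, hg⟩ := IsCyclic.exists_ofOrder_eq_natCard (α := Fˣ)
    rw [Nat.card_units, Nat.card_eq_fintype_card, hF] at hg
    have hg1 : g ^ (p ^ (f / 2) - 1) = 1 := by
      apply mul_right_cancel (b := g)
      rw [one_mul, ← pow_succ, Nat.sub_add_cancel (Nat.one_le_pow _ _ hp.pos)]
      apply Units.ext
      rw [Units.val_pow_eq_pow_val, ← hτ, h1]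
      rfl
    have h3 := orderOf_dvd_of_pow_eq_one hg1
    rw [hg] at h3
    have h4 : p ^ (f / 2) < p ^ f := Nat.pow_lt_pow_right hp.one_lt (by omega)
    have h5 : 2 ≤ p ^ (f / 2) := le_trans hp.two_le (Nat.le_self_pow hf0.ne' p)
    have := Nat.le_of_dvd (by omega) h3
    omega
  have hστ : σ = τ := by
    by_contra hne
    have hs2 : σ ^ 2 = 1 := hσ ▸ pow_orderOf_eq_one σ
    have hs1 : σ ≠ 1 := fun h => by simp [h] at hσ
    have h3 : ({1, σ, τ} : Finset (RingAut F)).card = 3 :=
      Finset.card_eq_three.2 ⟨1, σ, τ, hs1.symm, hτ1.symm, hne, rfl⟩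
    have h4 := Finset.card_le_card (s := ({1, σ, τ} : Finset (RingAut F)))
      (t := Finset.univ.filter fun a => a ^ 2 = 1) (by
        intro a ha
        simp only [Finset.mem_insert, Finset.mem_singleton] at ha
        rcases ha with rfl | rfl | rfl <;> simp [hs2, hτ2])
    have h5 : (Finset.univ.filter fun a : RingAut F => a ^ 2 = 1).card ≤ 2 :=
      IsCyclic.card_pow_eq_one_le two_pos
    omega
  intro x
  rw [hστ, hτ]

theorem mem_GU_iff {σ : RingAut F} {q : ℕ} (hq : ∀ x, σ x = x ^ q) (hq0 : q ≠ 0)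
    (g : GL (Fin n) F) : g ∈ Cfsg.GU n F q ↔ IsUnitaryFor σ g := by
  have hconv : IsUnitaryFor σ g ↔ g.1ᵀ * g.1.map σ = 1 := by
    unfold IsUnitaryFor
    rw [mul_eq_one_comm]
    constructor
    · intro h
      have h1 := congrArg Matrix.transpose h
      rwa [Matrix.transpose_mul, Matrix.transpose_transpose, Matrix.transpose_one] at h1
    · intro h
      have h1 := congrArg Matrix.transpose h
      rwa [Matrix.transpose_mul, Matrix.transpose_transpose, Matrix.transpose_one] at h1
  rw [hconv]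
  have hdot : ∀ u v : Fin n → F, Cfsg.hermForm n F q u v = u ⬝ᵥ (fun i => σ (v i)) := by
    intro u v
    simp [Cfsg.hermForm, dotProduct, hq]
  constructor
  · intro h
    ext i j
    have h1 := h (Pi.single i 1) (Pi.single j 1)
    simp only [Units.coeHom_apply, Matrix.mulVec_single_one] at h1
    rw [hdot, hdot, single_one_dotProduct] at h1
    rw [Matrix.mul_apply, Matrix.one_apply]
    simp only [Matrix.transpose_apply, Matrix.map_apply]
    refine h1.trans ?_
    rw [Pi.single_apply]
    split <;> simp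
  · intro h u v
    show Cfsg.hermForm n F q (g.1 *ᵥ u) (g.1 *ᵥ v) = Cfsg.hermForm n F q u v
    rw [hdot, hdot]
    have h2 : (fun i => σ ((g.1 *ᵥ v) i)) = g.1.map σ *ᵥ (fun i => σ (v i)) := by
      funext i
      simp [Matrix.mulVec, dotProduct, map_sum, map_mul]
    rw [h2, dotProduct_mulVec, ← Matrix.mulVec_transpose, Matrix.mulVec_mulVec]
    have h3 : (g.1.map σ)ᵀ * g.1 = 1 := by
      have h1 := congrArg Matrix.transpose h
      rwa [Matrix.transpose_mul, Matrix.transpose_transpose, Matrix.transpose_one] at h1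
    rw [h3, Matrix.one_mulVec]

theorem pgu_equiv_centralizer (hn : 2 ≤ n) {σ : RingAut F} (hσ : orderOf σ = 2) {q : ℕ}
    (hq : ∀ x, σ x = x ^ q) (hq0 : q ≠ 0) :
    Nonempty (Cfsg.PGU n F q ≃*
      (Cfsg.inndiagPSL n F ⊓ Subgroup.centralizer {ind (1 : GL (Fin n) F) σ * itAut} :
        Subgroup (MulAut (Matrix.ProjectiveSpecialLinearGroup (Fin n) F)))) := by
  refine centralizer_equiv_quotient hn _ (Cfsg.GU n F q).subtype
    ((Cfsg.Geo.scalars (Fin n) F).subgroupOf (Cfsg.GU n F q)) ?_ ?_ ?_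
  · intro u
    rw [Subgroup.mem_subgroupOf, Cfsg.Geo.mem_scalars_iff]
    constructor
    · rintro ⟨c, hc⟩
      exact ⟨c, hc⟩
    · rintro ⟨c, hc⟩
      haveI : NeZero n := ⟨by omega⟩
      have hc0 : c ≠ 0 := fun h0 => (Units.ne_zero ((Cfsg.GU n F q).subtype u))
        (by rw [hc, h0, zero_smul])
      exact ⟨Units.mk0 c hc0, hc⟩
  · intro u
    exact mem_centPre_of_unitary hn ((mem_GU_iff hq hq0 _).1 u.2)
  · intro g hg
    obtain ⟨b, hb⟩ := centPre_graph_decomp hn hσ hg
    refine ⟨b⁻¹, ⟨scal b * g, (mem_GU_iff hq hq0 _).2 hb⟩, ?_⟩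
    show g = scal b⁻¹ * (scal b * g)
    rw [← mul_assoc, ← scal_mul, inv_mul_cancel, scal_one, one_mul]

theorem index_ker_normHom {σ : RingAut F} (hσ : orderOf σ = 2) {q : ℕ}
    (hc : Nat.card (fixedField σ) = q) : (normHom σ 2).ker.index = q - 1 := by
  rw [Subgroup.index_ker, range_normHom hσ two_pos, card_fixedUnits, hc]

end CfsgLib.AutPSL
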