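import Cfsg.Agent.Lib.AutPSL.BalanceField
import Cfsg.Agent.Lib.FormClass.PSL
import Cfsg.Agent.Lib.FormClass.NoOdd
import Cfsg.Agent.Lib.Classical.SignScalar
import Cfsg.Agent.Lib.Classical.PSUSimple
import Cfsg.Agent.Lib.SU.Field
import Cfsg.Agent.Lib.AutPSL.GraphCentralizer

/-!
# Cores of centralisers of graph and graph-field involutions of `PSL_n`
-/

set_option autoImplicit false
set_option linter.all false

namespace CfsgLib.AutPSL

open Matrix CfsgLib.Descent

variable {F : Type*} [Field F] {n : ℕ}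

theorem proj_central {A B : Matrix.SpecialLinearGroup (Fin n) F} (h : proj A = proj B) :
    ∃ z ∈ Subgroup.center (Matrix.SpecialLinearGroup (Fin n) F), A = B * z :=
  ⟨B⁻¹ * A, QuotientGroup.eq.1 h.symm, by rw [mul_inv_cancel_left]⟩

/-- conjugation by a representative of a fixed point preserves the fixed matrices -/
theorem lift_normal (θ : MulAut (Matrix.SpecialLinearGroup (Fin n) F)) {s u : Matrix.SpecialLinearGroup (Fin n) F}
    (hs : proj (θ s) = proj s) (hu : θ u = u) : θ (s * u * s⁻¹) = s * u * s⁻¹ := by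
  obtain ⟨z, hz, hzs⟩ := proj_central hs
  rw [map_mul, map_mul, map_inv, hu, hzs, _root_.mul_inv_rev]
  have := Subgroup.mem_center_iff.1 hz u
  rw [show s * z * u * (z⁻¹ * s⁻¹) = s * (z * u * z⁻¹) * s⁻¹ by group, ← this, mul_inv_cancel_right]

/-- Siegel transvections as automorphisms -/
def siegSet (M : GL (Fin n) F) (s : F) : Set (Matrix.ProjectiveSpecialLinearGroup (Fin n) F) :=
  {k | ∃ U : Matrix.SpecialLinearGroup (Fin n) F, FormCl.Sieg M.1 s (Matrix.SpecialLinearGroup.toGL U) ∧ k = proj U}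

theorem isPM_oddForm (h2 : (2 : F) ≠ 0) {M : GL (Fin n) F} (hM : FormCl.IsPM M.1) :
    ∃ s, FormCl.OddForm M.1 s := by
  rcases hM with h | h
  · exact ⟨1, h2, by rw [h, one_smul], Or.inl rfl, ((Matrix.isUnit_iff_isUnit_det _).1 M.isUnit).ne_zero⟩
  · exact ⟨-1, h2, by rw [h, neg_one_smul], Or.inr rfl, ((Matrix.isUnit_iff_isUnit_det _).1 M.isUnit).ne_zero⟩

variable [Fintype F]

theorem out_of_rep (hn : 3 ≤ n) (g : GL (Fin n) F) (τ : RingAut F)
    (k : Matrix.ProjectiveSpecialLinearGroup (Fin n) F) : MulAut.conj k ≠ ind g τ * itAut := by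
  intro h
  obtain ⟨s, rfl⟩ := QuotientGroup.mk'_surjective _ k
  have h1 : indHom (Matrix.SpecialLinearGroup.toGL s) = ind g τ * itAut := (conj_proj s).symm.trans h
  exact Bool.false_ne_true (rep_inj hn (g := Matrix.SpecialLinearGroup.toGL s) (h := g) (e := false) (e' := true)
    (by simp only [rep, cond_true, cond_false, mul_one]; exact h1)).2

/-- the fixed-point core for a graph involution -/
theorem graph_core (hn : 3 ≤ n) (h2 : (2 : F) ≠ 0) {M : GL (Fin n) F} (hM : FormCl.IsPM M.1)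
    (A : Subgroup (MulAut (Matrix.ProjectiveSpecialLinearGroup (Fin n) F))) (hinn : ∀ k, MulAut.conj k ∈ A) :
    Cfsg.pPrimeCore 2 ↥(A ⊓ Subgroup.centralizer {FormCl.gam M}) = ⊥ := by
  classical
  haveI : NeZero n := ⟨by omega⟩
  haveI : Fact (Nat.Prime 2) := ⟨Nat.prime_two⟩
  obtain ⟨s, hF⟩ := isPM_oddForm h2 hM
  obtain ⟨-, hord⟩ := FormCl.gam_spec hn hM
  have hcomm : ∀ g : GL (Fin n) F, g ∈ FormCl.simGrp M.1 → FormCl.gam M * indHom g = indHom g * FormCl.gam M :=
    fun g hg => mem_centPre.1 (by rw [FormCl.centPre_gam hn]; exact hg)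
  have hmemsim : ∀ g : GL (Fin n) F, FormCl.gam M * indHom g = indHom g * FormCl.gam M → g ∈ FormCl.simGrp M.1 :=
    fun g hg => FormCl.centPre_gam hn M ▸ mem_centPre.2 hg
  have hfix : ∀ k ∈ siegSet M s, FormCl.gam M k = k := by
    rintro _ ⟨U, hU, rfl⟩
    apply conj_injective (by omega)
    rw [← BalanceSet.conj_smul, conj_proj, hcomm _ ⟨1, hF.sieg_mult hU⟩, mul_inv_cancel_right]
  refine BalanceSet.core_eq_bot (conj_injective (by omega)) A hinn _ hord
    (fun k => out_of_rep hn M⁻¹ 1 k) (siegSet M s) hfix ?_ ?_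
  · intro a hax ha
    -- reduce to the semilinear case
    suffices hlin : ∀ (g : GL (Fin n) F) τ, (∀ k ∈ siegSet M s, ind g τ k = k) → ind g τ = 1 by
      obtain ⟨g, τ, rfl | ⟨-, rfl⟩⟩ := aut_classify (by omega) a
      · rw [hlin g τ ha]; exact one_mem _
      · apply BalanceSet.zpowers_of_mul
        have e : ind g τ * itAut * FormCl.gam M = ind (g * glField τ (glIT M⁻¹)) τ := by
          rw [FormCl.gam, mul_assoc, ← mul_assoc itAut, itAut_ind, mul_assoc _ itAut, itAut_mul_self, mul_one, ind_mul,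
            mul_one]
        rw [e, hlin _ τ fun k hk => ?_]
        · exact one_mem _
        · rw [← e, MulAut.mul_apply, hfix k hk, ha k hk]
    intro g τ hfx
    have key : ∀ U : GL (Fin n) F, FormCl.Sieg M.1 s U → g.1 * U.1.map τ * (g⁻¹).1 = U.1 := by
      intro U hU
      obtain ⟨V, hV⟩ : ∃ V : Matrix.SpecialLinearGroup (Fin n) F, V.1 = U.1 := ⟨⟨_, hF.sieg_det hU⟩, rfl⟩
      have hVU : Matrix.SpecialLinearGroup.toGL V = U := Units.ext hV
      obtain ⟨c, hc⟩ := proj_eq_imp (show proj (slConj g (slField τ V)) = proj V from hfx _ ⟨V, hVU ▸ hU, rfl⟩)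
      rw [slConj_val, slField_val, hV] at hc
      obtain ⟨e, u, b, he0, he, hu, hb, hUv⟩ := hU
      set N := FormCl.siegN M.1 s e u b with hN
      have hN3 : N ^ 3 = 0 := hF.siegN_pow_three he hu
      have hL : g.1 * (N.map τ) * (g⁻¹).1 = (c - 1) • 1 + c • N := by
        rw [hUv, Matrix.map_add _ (map_add τ), Matrix.map_one _ (map_zero τ) (map_one τ), Matrix.mul_add,
          Matrix.add_mul, Matrix.mul_one, ← Units.val_mul, mul_inv_cancel, Units.val_one, smul_add] at hc
        rw [sub_smul, one_smul, sub_add_eq_add_sub, ← hc, add_sub_cancel_left]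
      have hcube : ((c - 1) • (1 : Matrix (Fin n) (Fin n) F) + c • N) ^ 3 = 0 := by
        rw [← hL, Units.conj_pow, ← RingEquiv.mapMatrix_apply, ← map_pow, hN3, map_zero, Matrix.mul_zero, Matrix.zero_mul]
      have hNe : N *ᵥ e = 0 := by
        rw [hN, FormCl.siegN_mulVec, he, hu]; simp
      have hev : ((c - 1) • (1 : Matrix (Fin n) (Fin n) F) + c • N) *ᵥ e = (c - 1) • e := by
        rw [Matrix.add_mulVec, Matrix.smul_mulVec, Matrix.smul_mulVec, hNe, smul_zero, add_zero, Matrix.one_mulVec]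
      have h3 : ((c - 1) * ((c - 1) * (c - 1))) • e = 0 := by
        have := congrArg (fun X => X *ᵥ e) hcube
        simp only [pow_succ, pow_zero, Matrix.one_mul, ← Matrix.mulVec_mulVec, hev, Matrix.mulVec_smul, smul_smul,
          Matrix.zero_mulVec] at this
        rw [← this]
      have hc1 : c = 1 := by
        rcases smul_eq_zero.1 h3 with e1 | e1
        · simp only [mul_eq_zero, or_self] at e1; exact sub_eq_zero.1 e1
        · exact absurd e1 he0
      rw [hc, hc1, one_smul]
    have hτ : τ = 1 := RingEquiv.ext fun t =>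
      hF.field_fix (RingHom.id F) hn g τ (fun U hU => by simpa using key U hU) t
    subst hτ
    obtain ⟨l, hl⟩ := hF.scalar_of_comm (RingHom.id F) hn g.1 fun U hU => by
      have h1 := key U hU
      have hm : U.1.map (⇑(1 : RingAut F)) = U.1 := by ext i j; rfl
      rw [hm] at h1
      simp only [RingHom.coe_id, Matrix.map_id]
      conv_rhs => rw [← h1]
      rw [Matrix.mul_assoc (g.1 * U.1) (g⁻¹).1 g.1, ← Units.val_mul g⁻¹ g, inv_mul_cancel, Units.val_one,
        Matrix.mul_one]
    rw [← indHom_apply]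
    exact indHom_scalar (by omega) hl
  · intro Y hYf hYn hY2 y hy k hk
    obtain ⟨W, hW⟩ : ∃ W : Subgroup (GL (Fin n) F), W = (Y.map MulAut.conj).comap indHom := ⟨_, rfl⟩
    have hWsim : W ≤ FormCl.simGrp M.1 := fun w hw => by
      rw [hW, Subgroup.mem_comap, Subgroup.mem_map] at hw
      obtain ⟨z, hz, hzw⟩ := hw
      apply hmemsim
      rw [← hzw]
      conv_rhs => rw [← hYf z hz]
      rw [← BalanceSet.conj_smul, mul_assoc, inv_mul_cancel, mul_one]
    have hnorm : ∀ U, FormCl.Sieg M.1 s U → ∀ w ∈ W, U * w * U⁻¹ ∈ W := fun U hU w hw => by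
      obtain ⟨V, hV⟩ : ∃ V : Matrix.SpecialLinearGroup (Fin n) F, V.1 = U.1 := ⟨⟨_, hF.sieg_det hU⟩, rfl⟩
      have hVU : Matrix.SpecialLinearGroup.toGL V = U := Units.ext hV
      rw [hW, Subgroup.mem_comap, Subgroup.mem_map] at hw ⊢
      obtain ⟨z, hz, hzw⟩ := hw
      refine ⟨proj V * z * (proj V)⁻¹, hYn _ (hfix _ ⟨V, hVU ▸ hU, rfl⟩) z hz, ?_⟩
      rw [map_mul, map_mul, map_inv, hzw, conj_proj, hVU, map_mul, map_mul, map_inv]
    have hodd : ∀ w ∈ W, ∃ m, Odd m ∧ ∃ c : F, (w ^ m).1 = c • 1 := fun w hw => by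
      rw [hW, Subgroup.mem_comap, Subgroup.mem_map] at hw
      obtain ⟨z, hz, hzw⟩ := hw
      refine ⟨Nat.card Y, Nat.not_even_iff_odd.1 (fun he => hY2 (even_iff_two_dvd.1 he)), scalar_of_indHom (by omega) ?_⟩
      have h1 : z ^ Nat.card Y = 1 := congrArg Subtype.val (pow_card_eq_one' (x := (⟨z, hz⟩ : Y)))
      rw [map_pow, ← hzw, ← map_pow, h1, map_one]
    obtain ⟨S, rfl⟩ := QuotientGroup.mk'_surjective _ y
    have hw : Matrix.SpecialLinearGroup.toGL S ∈ W := by
      rw [hW, Subgroup.mem_comap, Subgroup.mem_map]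
      exact ⟨_, hy, conj_proj S⟩
    obtain ⟨c, hc⟩ := hF.odd_normal_scalar hn W hWsim hnorm hodd hw
    rw [show QuotientGroup.mk' _ S = proj S from rfl, proj_eq_one_of_scalar (by omega) (s := S) (c := c) hc, one_mul, mul_one]

/-- `s ↦ σ(s⁻¹ᵀ)` -/
def gfSL (σ : RingAut F) : MulAut (Matrix.SpecialLinearGroup (Fin n) F) := slField σ * slIT

/-- the standard graph-field automorphism -/
def gfAut (σ : RingAut F) : MulAut (Matrix.ProjectiveSpecialLinearGroup (Fin n) F) :=
  ind (1 : GL (Fin n) F) σ * itAut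

/-- the fixed matrices of the standard graph-field automorphism -/
def fixSU (σ : RingAut F) : Subgroup (Matrix.SpecialLinearGroup (Fin n) F) :=
  (gfSL (n := n) σ).toMonoidHom.eqLocus (MonoidHom.id _)

theorem mem_fixSU {σ : RingAut F} {s : Matrix.SpecialLinearGroup (Fin n) F} :
    s ∈ fixSU σ ↔ s.1ᵀ * s.1.map σ = 1 := by
  have e : (gfSL (n := n) σ s).1 * (s.1ᵀ).map σ = 1 := by
    have h0 : (s⁻¹).1ᵀ * s.1ᵀ = 1 := by
      rw [← Matrix.transpose_mul]
      exact (congrArg Matrix.transpose (congrArg Subtype.val (mul_inv_cancel s))).trans Matrix.transpose_one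
    have h1 := congrArg σ.toRingHom.mapMatrix h0
    rw [map_mul, map_one] at h1
    exact h1
  constructor
  · intro hs
    rw [show (gfSL (n := n) σ s) = s from hs, Matrix.transpose_map] at e
    have := congrArg Matrix.transpose (mul_eq_one_comm.1 e)
    rw [Matrix.transpose_mul, Matrix.transpose_transpose, Matrix.transpose_one] at this
    exact this
  · intro hs
    refine (?_ : gfSL (n := n) σ s = s)
    apply Subtype.ext
    have h1 : (s.1ᵀ).map σ * s.1 = 1 := by
      rw [Matrix.transpose_map]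
      have := congrArg Matrix.transpose hs
      rwa [Matrix.transpose_mul, Matrix.transpose_transpose, Matrix.transpose_one] at this
    calc (gfSL (n := n) σ s).1 = (gfSL (n := n) σ s).1 * ((s.1ᵀ).map σ * s.1) := by
          rw [h1, Matrix.mul_one]
      _ = s.1 := by rw [← Matrix.mul_assoc, e, Matrix.one_mul]

theorem graphField_proj (σ : RingAut F) (s : Matrix.SpecialLinearGroup (Fin n) F) :
    gfAut σ (proj s) = proj (gfSL σ s) := by
  show ind (1 : GL (Fin n) F) σ (proj (slIT s)) = _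
  rw [field_proj]; rfl

theorem srot_fix (σ : RingAut F) {i j : Fin n} (hij : i ≠ j) : SignScalar.srotSL hij F ∈ fixSU σ := by
  rw [mem_fixSU, SignScalar.srotSL_val]
  have h1 : (SignScalar.srot F i j).map σ = SignScalar.srot F i j := SignScalar.srot_map σ.toRingHom i j
  rw [h1, SignScalar.srot_transpose, SignScalar.srot_mul_transpose hij]

theorem proj_srot_ne (hn : 2 ≤ n) {i j : Fin n} (hij : i ≠ j) : proj (SignScalar.srotSL hij F) ≠ 1 := by
  intro h
  obtain ⟨c, hc⟩ := proj_eq_imp (B := 1) (h.trans (map_one _).symm)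
  have := congrFun (congrFun hc j) i
  rw [SignScalar.srotSL_val] at this
  simp [SignScalar.srot, hij, hij.symm] at this

/-- scalars from the signed transpositions -/
theorem scalar_of_srot_fix (hn : 3 ≤ n) (h2 : (2 : F) ≠ 0) (g : GL (Fin n) F) (τ : RingAut F)
    (h : ∀ i j (hij : i ≠ j), ind g τ (proj (SignScalar.srotSL hij F)) = proj (SignScalar.srotSL hij F)) :
    ∃ l : F, g.1 = l • 1 := by
  refine SignScalar.scalar_of_srot hn h2 g.1 ((Matrix.isUnit_iff_isUnit_det _).1 g.isUnit).ne_zero fun i j hij => ?_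
  obtain ⟨c, hc⟩ := proj_eq_imp (show proj (slConj g (slField τ (SignScalar.srotSL hij F))) = _ from h i j hij)
  rw [slConj_val, slField_val, SignScalar.srotSL_val,
    show (SignScalar.srot F i j).map τ = SignScalar.srot F i j from SignScalar.srot_map τ.toRingHom i j] at hc
  refine ⟨c, ?_⟩
  have := congrArg (· * g.1) hc
  simp only [Matrix.mul_assoc, ← Units.val_mul, inv_mul_cancel, Units.val_one, Matrix.mul_one, Matrix.smul_mul] at this
  exact this

/-- the fixed-point core for the standard graph-field involution -/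
theorem graphField_core (hn : 3 ≤ n) (h2 : (2 : F) ≠ 0) {σ : RingAut F} (hσ : orderOf σ = 2)
    (A : Subgroup (MulAut (Matrix.ProjectiveSpecialLinearGroup (Fin n) F))) (hinn : ∀ k, MulAut.conj k ∈ A) :
    Cfsg.pPrimeCore 2 ↥(A ⊓ Subgroup.centralizer {gfAut σ}) = ⊥ := by
  classical
  haveI : NeZero n := ⟨by omega⟩
  haveI : Fact (Nat.Prime 2) := ⟨Nat.prime_two⟩
  have hσne : σ ≠ 1 := fun e => by rw [e, orderOf_one] at hσ; exact absurd hσ (by norm_num)
  have hσσ' : σ * σ = 1 := by rw [← sq, ← hσ, pow_orderOf_eq_one]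
  have hσσ : ∀ x, σ (σ x) = x := fun x => congrArg (fun τ : RingAut F => τ x) hσσ'
  have hc : Commute (ind (1 : GL (Fin n) F) σ) itAut := (itAut_fieldHom σ).symm
  have hxx : (ind (1 : GL (Fin n) F) σ * itAut) * (ind (1 : GL (Fin n) F) σ * itAut) = 1 := by
    rw [show (ind (1 : GL (Fin n) F) σ * itAut) * (ind (1 : GL (Fin n) F) σ * itAut) =
      ind (1 : GL (Fin n) F) σ * (itAut * ind (1 : GL (Fin n) F) σ) * itAut by group, ← hc.eq,
      ← mul_assoc (ind (1 : GL (Fin n) F) σ), mul_assoc _ itAut itAut, itAut_mul_self, mul_one, ← fieldHom_apply,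
      ← map_mul, hσσ', map_one]
  have hord : orderOf (ind (1 : GL (Fin n) F) σ * itAut) = 2 :=
    orderOf_eq_prime (by rw [sq]; exact hxx)
      (fun e => out_of_rep hn 1 σ 1 (by rw [map_one, e]))
  set i0 : Fin n := ⟨0, by omega⟩
  set i1 : Fin n := ⟨1, by omega⟩
  have h01 : i0 ≠ i1 := by simp [i0, i1, Fin.ext_iff]
  set N := (fixSU (n := n) σ).map proj with hN
  have hfix : ∀ k ∈ N, gfAut σ k = k := by
    rintro _ ⟨s, hs, rfl⟩
    rw [graphField_proj, show gfSL σ s = s from hs]
  refine BalanceSet.core_eq_bot (conj_injective (by omega)) A hinn _ hord (fun k => out_of_rep hn 1 σ k) N hfix ?_ ?_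
  · intro a hax ha
    suffices hlin : ∀ (g : GL (Fin n) F) τ, (∀ k ∈ N, ind g τ k = k) → ind g τ = 1 by
      obtain ⟨g, τ, rfl | ⟨-, rfl⟩⟩ := aut_classify (by omega) a
      · rw [hlin g τ ha]; exact one_mem _
      · apply BalanceSet.zpowers_of_mul
        have e : ind g τ * itAut * (ind (1 : GL (Fin n) F) σ * itAut) = ind g (τ * σ) := by
          rw [mul_assoc, ← mul_assoc itAut, ← hc.eq, mul_assoc _ itAut, itAut_mul_self, mul_one, ind_mul, map_one,
            mul_one]
        rw [gfAut, e, hlin g (τ * σ) fun k hk => ?_]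
        · exact one_mem _
        · rw [← e]; show ind g τ (itAut (gfAut σ k)) = k; rw [hfix k hk]; exact ha k hk
    intro g τ hfx
    obtain ⟨l, hl⟩ := scalar_of_srot_fix hn h2 g τ fun i j hij =>
      hfx _ (Subgroup.mem_map_of_mem _ (srot_fix σ hij))
    have hl0 : l ≠ 0 := fun e => g.ne_zero (by rw [hl, e, zero_smul])
    have hτ : τ = 1 := by
      refine SignScalar.eq_one_of_norm_one σ τ hσne hσσ (fun t ht => ?_)
        (fun x => congrArg (fun ρ : RingAut F => ρ x) (ringAut_comm τ σ))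
      have ht0 : t ≠ 0 := fun e => by rw [e, zero_mul] at ht; exact zero_ne_one ht
      have hst : σ t = t⁻¹ := eq_inv_of_mul_eq_one_right ht
      set d : Fin n → F := fun k => if k = i0 then t else if k = i1 then t⁻¹ else 1 with hd
      have hdet : (Matrix.diagonal d).det = 1 := by
        rw [Matrix.det_diagonal, ← Finset.prod_subset (Finset.subset_univ ({i0, i1} : Finset (Fin n)))]
        · rw [Finset.prod_pair h01]; simp [hd, h01.symm, ht0]
        · intro k _ hk
          simp only [Finset.mem_insert, Finset.mem_singleton, not_or] at hk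
          simp [hd, hk.1, hk.2]
      obtain ⟨D, hD⟩ : ∃ D : Matrix.SpecialLinearGroup (Fin n) F, D.1 = Matrix.diagonal d := ⟨⟨_, hdet⟩, rfl⟩
      have hDN : D ∈ fixSU σ := by
        rw [mem_fixSU, hD, Matrix.diagonal_transpose, Matrix.diagonal_map (map_zero σ), Matrix.diagonal_mul_diagonal,
          ← Matrix.diagonal_one]
        refine congrArg _ (funext fun k => ?_)
        simp only [Function.comp_apply, hd]
        split_ifs <;> simp [hst, ht0]
      obtain ⟨c, hc'⟩ := proj_eq_imp (show proj (slConj g (slField τ D)) = proj D from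
        hfx _ (Subgroup.mem_map_of_mem _ hDN))
      have hgi : l • (g⁻¹).1 = 1 := by
        have := congrArg Units.val (mul_inv_cancel g)
        rwa [Units.val_mul, hl, Matrix.smul_mul, Matrix.one_mul] at this
      rw [slConj_val, slField_val, hl, Matrix.smul_mul, Matrix.one_mul, Matrix.smul_mul, ← Matrix.mul_smul, hgi,
        Matrix.mul_one, hD, Matrix.diagonal_map (map_zero τ)] at hc'
      have e2 := congrFun (congrFun hc' ⟨2, by omega⟩) ⟨2, by omega⟩
      have e0 := congrFun (congrFun hc' i0) i0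
      simp only [Matrix.smul_apply, Matrix.diagonal_apply_eq, smul_eq_mul, Function.comp_apply, hd,
        if_neg (show (⟨2, by omega⟩ : Fin n) ≠ i0 by simp [i0, Fin.ext_iff]),
        if_neg (show (⟨2, by omega⟩ : Fin n) ≠ i1 by simp [i1, Fin.ext_iff]), if_true, map_one, mul_one] at e2 e0
      rw [← e2, one_mul] at e0
      exact e0
    subst hτ
    rw [← indHom_apply]
    exact indHom_scalar (by omega) hl
  · -- the normal subgroup `N` is simple
    intro Y hYf hYn hY2 y hy k hk
    obtain ⟨p, f, hp, hf⟩ : ∃ p f, p.Prime ∧ Fintype.card F = p ^ f := by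
      obtain ⟨p, hp⟩ := CharP.exists F
      obtain ⟨f, hpp, hf⟩ := FiniteField.card F p
      exact ⟨p, f, hpp, hf⟩
    haveI := Fact.mk hp
    obtain ⟨hev, hpow⟩ := involution_eq_pow hf hσ
    set q := p ^ (f / 2) with hq
    have hFq : Fintype.card F = q ^ 2 := by rw [hf, hq, ← pow_mul, Nat.div_mul_cancel (even_iff_two_dvd.1 hev)]
    have hq2 : q ≠ 2 := fun e => h2 (by
      have h5 := FiniteField.cast_card_eq_zero F
      rw [hFq, e] at h5
      norm_num at h5
      exact pow_eq_zero_iff (two_ne_zero) |>.1 (show (2 : F) ^ 2 = 0 by rw [← h5]; norm_num))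
    let C : SU.UCtx F q := ⟨σ, hσ, hpow⟩
    haveI : IsSimpleGroup (Cfsg.PSU n F q) :=
      CfsgLib.Classical.psu_isSimple hFq hn (fun e => hq2 e.2)
    have hmem : ∀ s : Matrix.SpecialLinearGroup (Fin n) F, s ∈ Cfsg.SU n F q ↔ s ∈ fixSU σ := fun s => by
      rw [mem_fixSU]
      exact (show s ∈ Cfsg.SU n F q ↔ Matrix.SpecialLinearGroup.toGL s ∈ Cfsg.GU n F q from Iff.rfl).trans
        C.mem_gu_iff_mat
    let f0 : ↥(Cfsg.SU n F q) →* ↥N :=
      (proj.comp (Cfsg.SU n F q).subtype).codRestrict N fun s => Subgroup.mem_map_of_mem _ ((hmem s.1).1 s.2)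
    have hker : Subgroup.center ↥(Cfsg.SU n F q) ≤ f0.ker := fun z hz => by
      obtain ⟨l, hl⟩ := SignScalar.scalar_of_srot hn h2 z.1.1 (by rw [z.1.2]; exact one_ne_zero) fun i j hij => ⟨1, by
        have := congrArg (fun w : ↥(Cfsg.SU n F q) => w.1.1)
          (Subgroup.mem_center_iff.1 hz ⟨_, (hmem _).2 (srot_fix σ hij)⟩)
        simp only [Subgroup.coe_mul, Matrix.SpecialLinearGroup.coe_mul, SignScalar.srotSL_val] at this
        rw [one_smul, this]⟩
      exact Subtype.ext (proj_eq_one_of_scalar (by omega) hl)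
    have hNk : proj (SignScalar.srotSL h01 F) ∈ N := Subgroup.mem_map_of_mem _ (srot_fix σ h01)
    haveI : Nontrivial ↥N := ⟨⟨⟨_, hNk⟩, 1, fun e => proj_srot_ne (by omega) h01 (congrArg Subtype.val e)⟩⟩
    haveI : IsSimpleGroup ↥N := by
      refine IsSimpleGroup.isSimpleGroup_of_surjective (f := QuotientGroup.lift _ f0 hker) ?_
      rintro ⟨_, s, hs, rfl⟩
      exact ⟨QuotientGroup.mk ⟨s, (hmem s).2 hs⟩, rfl⟩
    have hnormN : ∀ k', gfAut σ k' = k' → ∀ u ∈ N, k' * u * k'⁻¹ ∈ N := by
      rintro k' hk' _ ⟨u, hu, rfl⟩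
      obtain ⟨s, rfl⟩ := QuotientGroup.mk'_surjective _ k'
      refine ⟨s * u * s⁻¹, lift_normal _ ((graphField_proj σ s).symm.trans hk') hu, ?_⟩
      rw [map_mul, map_mul, map_inv]
    haveI : (Y.subgroupOf N).Normal := ⟨fun u hu c => by
      rw [Subgroup.mem_subgroupOf] at hu ⊢
      exact hYn c.1 (hfix _ c.2) _ hu⟩
    rcases IsSimpleGroup.eq_bot_or_eq_top_of_normal (Y.subgroupOf N) inferInstance with h | h
    · have hm : y * k * y⁻¹ * k⁻¹ ∈ Y ⊓ N := by
        refine Subgroup.mem_inf.2 ⟨?_, mul_mem (hnormN y (hYf y hy) k hk) (inv_mem hk)⟩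
        rw [show y * k * y⁻¹ * k⁻¹ = y * (k * y⁻¹ * k⁻¹) by group]
        exact mul_mem hy (hYn k (hfix k hk) _ (inv_mem hy))
      have h1 : (⟨_, hm.2⟩ : N) ∈ Y.subgroupOf N := hm.1
      rw [h, Subgroup.mem_bot] at h1
      have h5 : y * k * y⁻¹ * k⁻¹ = 1 := congrArg Subtype.val h1
      rwa [mul_inv_eq_one, mul_inv_eq_iff_eq_mul] at h5
    · exfalso
      refine hY2 (dvd_trans ?_ (Subgroup.card_dvd_of_le (Subgroup.subgroupOf_eq_top.1 h)))
      have h5 : ((SignScalar.srotSL h01 F) * (SignScalar.srotSL h01 F)).1 = SignScalar.sgn F i0 i1 := by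
        rw [Matrix.SpecialLinearGroup.coe_mul, SignScalar.srotSL_val, SignScalar.srot_sq h01]
      have hu1 : proj ((SignScalar.srotSL h01 F) * (SignScalar.srotSL h01 F)) ≠ 1 := fun e => by
        obtain ⟨c, hc'⟩ := proj_eq_imp (B := 1) (e.trans (map_one _).symm)
        rw [h5] at hc'
        have e0 := congrFun (congrFun hc' i0) i0
        have e2 := congrFun (congrFun hc' ⟨2, by omega⟩) ⟨2, by omega⟩
        simp [SignScalar.sgn, i0, i1, Fin.ext_iff] at e0 e2
        exact h2 (by linear_combination e2 - e0)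
      have hu2 : proj ((SignScalar.srotSL h01 F) * (SignScalar.srotSL h01 F)) ^ 2 = 1 := by
        rw [← map_pow]
        refine proj_eq_one_of_scalar (by omega) (c := 1) ?_
        rw [sq, Matrix.SpecialLinearGroup.coe_mul, h5, SignScalar.sgn_sq h01, one_smul]
      have hmemN : proj ((SignScalar.srotSL h01 F) * (SignScalar.srotSL h01 F)) ∈ N :=
        Subgroup.mem_map_of_mem _ (mul_mem (srot_fix σ h01) (srot_fix σ h01))
      rw [← orderOf_eq_prime hu2 hu1, ← Subgroup.orderOf_mk _ hmemN]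
      exact orderOf_dvd_natCard _

end CfsgLib.AutPSL
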