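import Cfsg.Agent.Lib.AutPSL.Main
import Cfsg.Agent.Lib.AutPSL.Coset
import Cfsg.Agent.Lib.AutPSL.Outer
import Cfsg.Agent.Lib.Descent.FixedField
import Cfsg.Agent.Lib.GLClass.Orders
import Cfsg.Agent.Lib.Classical.ProjLine

/-!
# Automorphisms of `PSL₂(q)` of odd prime power order fixing a Sylow subgroup

Such an automorphism is inner: a field automorphism centralises neither a root group nor the full
`r`-part of a torus.
-/

set_option autoImplicit false
set_option linter.style.haveILetI false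

namespace CfsgLib.AutPSL.FixSylow

open Matrix Subgroup CfsgLib.AutPSL CfsgLib.Descent

variable {F : Type*} [Field F] [Fintype F]

local notation "SL₂" => Matrix.SpecialLinearGroup (Fin 2) F
local notation "PSL₂" => Matrix.ProjectiveSpecialLinearGroup (Fin 2) F

/-- A fixed element of odd order has a lift which is fixed. -/
theorem fixed_lift {m : ℕ} (hm : Odd m) {g : GL (Fin 2) F} {σ : RingAut F} {X : SL₂}
    (hX : X ^ m = 1) (h : ind g σ (proj X) = proj X) :
    σ X.1.trace = X.1.trace := by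
  obtain ⟨c, hc, hXc⟩ := proj_eq_iff.1
    (show proj (slConj g (slField σ X)) = proj X from h)
  set Y := slConj g (slField σ X) with hY
  have hYm : Y ^ m = 1 := by rw [hY, ← map_pow, ← map_pow, hX, map_one, map_one]
  have hY' : Y.1 ^ m = 1 := by rw [← Matrix.SpecialLinearGroup.coe_pow, hYm, Matrix.SpecialLinearGroup.coe_one]
  have hX' : X.1 ^ m = 1 := by rw [← Matrix.SpecialLinearGroup.coe_pow, hX, Matrix.SpecialLinearGroup.coe_one]
  rw [hXc, smul_pow, hY'] at hX'
  have hcm : c ^ m = 1 := by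
    have := congrFun (congrFun hX' 0) 0
    simpa using this
  have hc1 : c = 1 := by
    obtain ⟨j, rfl⟩ := hm
    rwa [pow_succ, pow_mul, hc, one_pow, one_mul] at hcm
  rw [hc1, one_smul] at hXc
  have ht := congrArg Matrix.trace hXc
  rw [hY, slConj_val, Matrix.trace_units_conj, slField_val] at ht
  conv_rhs => rw [ht]
  simp [Matrix.trace]

/-- An element prime to the characteristic with trace in the subfield of `p ^ i` elements. -/
theorem pow_eq_one_of_trace {p : ℕ} [Fact p.Prime] [CharP F p] {i m : ℕ} (hm : ¬ p ∣ m) {X : SL₂}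
    (hX : X ^ m = 1) (ht : X.1.trace ^ p ^ i = X.1.trace) :
    X ^ ((p ^ i) ^ 2 - 1) = 1 := by
  classical
  set t := X.1.trace with htr
  set q₀ := p ^ i with hq₀
  have hq1 : 1 ≤ q₀ := Nat.one_le_pow _ _ (Fact.out (p := p.Prime)).pos
  set N := q₀ ^ 2 - 1 with hN
  set ι := algebraMap F (AlgebraicClosure F)
  haveI : CharP (AlgebraicClosure F) p := charP_of_injective_ringHom ι.injective p
  have hfc : X.1.charpoly = Polynomial.X ^ 2 - Polynomial.C t * Polynomial.X + Polynomial.C 1 := by
    rw [Matrix.charpoly_fin_two, X.2, htr]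
  have hdvd : X.1.charpoly ∣ ((Polynomial.X : Polynomial F) ^ N - 1) ^ 2 := by
    rw [← Polynomial.map_dvd_map' ι]
    obtain ⟨a, ha⟩ := IsAlgClosed.exists_root (X.1.charpoly.map ι) (by
      rw [Polynomial.degree_map, Matrix.charpoly_degree_eq_dim]
      simp)
    set b := ι t - a with hb
    have hab : a * b = 1 := by
      rw [Polynomial.IsRoot.def, hfc] at ha
      simp at ha
      rw [hb]
      linear_combination -ha
    have hf : X.1.charpoly.map ι =
        (Polynomial.X - Polynomial.C a) * (Polynomial.X - Polynomial.C b) := by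
      have h1 : Polynomial.C (ι t) = Polynomial.C a + Polynomial.C b := by
        rw [← Polynomial.C_add, hb]
        congr 1
        ring
      have h2 : Polynomial.C a * Polynomial.C b = 1 := by
        rw [← Polynomial.C_mul, hab, Polynomial.C_1]
      rw [hfc]
      simp only [Polynomial.map_add, Polynomial.map_sub, Polynomial.map_pow, Polynomial.map_X,
        Polynomial.map_mul, Polynomial.map_C, map_one, Polynomial.map_one, h1]
      linear_combination -h2
    have key : ∀ x : AlgebraicClosure F, x ^ 2 + 1 = ι t * x → x ^ N = 1 := by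
      intro x hx
      have hx0 : x ≠ 0 := by rintro rfl; simp at hx
      have hιt : (ι t) ^ q₀ = ι t := by rw [← map_pow, ht]
      have h1 : (x ^ q₀) ^ 2 + 1 = ι t * x ^ q₀ := by
        have := congrArg (· ^ q₀) hx
        simp only [hq₀, add_pow_char_pow, one_pow, mul_pow] at this
        rw [← hq₀, hιt, pow_right_comm] at this
        exact this
      have h2 : (x ^ q₀ - x) * (x ^ q₀ - (ι t - x)) = 0 := by linear_combination h1 - hx
      have h3 : (x ^ q₀) ^ q₀ = x := by
        rcases mul_eq_zero.1 h2 with h | h <;> rw [sub_eq_zero] at h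
        · rw [h, h]
        · rw [h, hq₀, sub_pow_char_pow, ← hq₀, hιt, h]
          ring
      refine mul_right_cancel₀ hx0 ?_
      rw [one_mul, ← pow_succ, hN, Nat.sub_add_cancel (Nat.one_le_pow _ _ hq1), sq, pow_mul, h3]
    have hroot : ∀ x : AlgebraicClosure F, x ^ 2 + 1 = ι t * x →
        Polynomial.X - Polynomial.C x ∣ (Polynomial.X : Polynomial (AlgebraicClosure F)) ^ N - 1 := by
      intro x hx
      rw [Polynomial.dvd_iff_isRoot]
      simp [key x hx]
    rw [hf, Polynomial.map_pow, Polynomial.map_sub, Polynomial.map_pow, Polynomial.map_X,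
      Polynomial.map_one, sq ((Polynomial.X : Polynomial (AlgebraicClosure F)) ^ N - 1)]
    refine mul_dvd_mul (hroot a ?_) (hroot b ?_)
    · rw [hb] at hab
      linear_combination -hab
    · rw [hb] at hab ⊢
      linear_combination -hab
  obtain ⟨P, hP⟩ := hdvd
  have h2 : (X.1 ^ N - 1) ^ 2 = 0 := by
    have := congrArg (Polynomial.aeval X.1) hP
    rw [map_mul, Matrix.aeval_self_charpoly, zero_mul] at this
    simpa using this
  haveI : CharP (Matrix (Fin 2) (Fin 2) F) p := Matrix.charP p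
  have h3 : (X.1 ^ N - 1) ^ p = 0 :=
    pow_eq_zero_of_le (Fact.out (p := p.Prime)).two_le h2
  rw [sub_pow_char_of_commute p (Commute.one_right _), one_pow, sub_eq_zero] at h3
  have h4 : (X ^ N) ^ p = 1 := Subtype.ext (by simpa using h3)
  have h5 : (X ^ N) ^ m = 1 := by rw [← pow_mul, mul_comm, pow_mul, hX, one_pow]
  have h6 := (pow_gcd_eq_one (a := X ^ N)).2 ⟨h4, h5⟩
  rwa [((Fact.out (p := p.Prime)).coprime_iff_not_dvd.2 hm).gcd_eq_one, pow_one] at h6

/-- The `r`-part of `y ^ s - 1` is bigger than that of `y - 1` when `r` divides `s`. -/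
theorem pow_succ_dvd {r a y s : ℕ} (hy : 1 ≤ y) (ha : 1 ≤ a) (h : r ^ a ∣ y - 1) (hs : r ∣ s) :
    r ^ (a + 1) ∣ y ^ s - 1 := by
  have hr : r ∣ y - 1 := (dvd_pow_self r (by omega)).trans h
  refine dvd_trans ?_ (Nat.pow_sub_one_dvd_pow_sub_one y hs)
  rw [← Int.natCast_dvd_natCast, Nat.cast_sub (Nat.one_le_pow _ _ hy), Nat.cast_pow, Nat.cast_pow,
    Nat.cast_one]
  rw [← Int.natCast_dvd_natCast, Nat.cast_sub hy, Nat.cast_pow, Nat.cast_one] at h
  rw [← Int.natCast_dvd_natCast, Nat.cast_sub hy, Nat.cast_one] at hr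
  have hg := geom_sum₂_mul (y : ℤ) 1 r
  rw [one_pow] at hg
  rw [← hg, pow_succ, mul_comm ((r : ℤ) ^ a)]
  exact mul_dvd_mul (dvd_geom_sum₂_self hr) h

/-- An element of `SL₂(q)` of any odd prime power order dividing `q² - 1`. -/
theorem exists_sl2_orderOf {r a : ℕ} [Fact r.Prime] (hr2 : r ≠ 2)
    (h : r ^ a ∣ Fintype.card F ^ 2 - 1) : ∃ X : SL₂, orderOf X = r ^ a := by
  classical
  have hrp := (Fact.out (p := r.Prime))
  rcases Nat.eq_zero_or_pos a with rfl | ha
  · exact ⟨1, by simp⟩
  have hq : 1 < Fintype.card F := Fintype.one_lt_card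
  by_cases hd : r ∣ Fintype.card F - 1
  · have hnd : ¬ r ∣ Fintype.card F + 1 := fun h' => hr2 <| by
      have : r ∣ 2 := by
        have := Nat.dvd_sub h' hd
        rwa [show Fintype.card F + 1 - (Fintype.card F - 1) = 2 by omega] at this
      exact (Nat.prime_dvd_prime_iff_eq hrp Nat.prime_two).1 this
    have hd' : r ^ a ∣ Fintype.card F - 1 := by
      rw [← one_pow 2, Nat.sq_sub_sq] at h
      exact ((hrp.coprime_iff_not_dvd.2 hnd).pow_left a).dvd_of_dvd_mul_left h
    obtain ⟨w, hw⟩ := IsCyclic.exists_ofOrder_eq_natCard (α := Fˣ)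
    rw [Nat.card_units, Nat.card_eq_fintype_card] at hw
    set z := w ^ (orderOf w / r ^ a)
    have hz : orderOf z = r ^ a :=
      orderOf_pow_orderOf_div (orderOf_pos w).ne' (hw ▸ hd')
    let φ : Fˣ →* SL₂ :=
      { toFun := fun u => ⟨!![(u : F), 0; 0, ((u⁻¹ : Fˣ) : F)], by simp [Matrix.det_fin_two_of]⟩
        map_one' := by
          ext i j
          fin_cases i <;> fin_cases j <;> simp
        map_mul' := fun u v => Subtype.ext <| by
          show !![((u * v : Fˣ) : F), 0; 0, (((u * v)⁻¹ : Fˣ) : F)] =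
            !![(u : F), 0; 0, ((u⁻¹ : Fˣ) : F)] * !![(v : F), 0; 0, ((v⁻¹ : Fˣ) : F)]
          ext i j
          fin_cases i <;> fin_cases j <;>
            simp [Matrix.mul_apply, Fin.sum_univ_two, mul_comm] }
    refine ⟨φ z, (orderOf_injective φ (fun u v huv => Units.ext ?_) z).trans hz⟩
    exact congrArg (fun M : SL₂ => M.1 0 0) huv
  · obtain ⟨g, hg⟩ := CfsgLib.GLClass.exists_orderOf_eq (F := F) (n := 2) (d := 2) (by omega) le_rfl h
    have hdet : Matrix.GeneralLinearGroup.det g = 1 := by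
      have h1 : Matrix.GeneralLinearGroup.det g ^ r ^ a = 1 := by
        rw [← map_pow, ← hg, pow_orderOf_eq_one, map_one]
      have h2 : Matrix.GeneralLinearGroup.det g ^ (Fintype.card F - 1) = 1 := by
        rw [← Fintype.card_units]; exact pow_card_eq_one
      have := pow_gcd_eq_one.2 ⟨h1, h2⟩
      rwa [((hrp.coprime_iff_not_dvd.2 hd).pow_left a).gcd_eq_one, pow_one] at this
    have hd1 : g.1.det = 1 := congrArg Units.val hdet
    let A : SL₂ := ⟨g.1, hd1⟩
    refine ⟨A, ?_⟩
    rw [← orderOf_injective (Matrix.SpecialLinearGroup.toGL (n := Fin 2) (R := F))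
      (fun B C hBC => Subtype.ext (congrArg Units.val hBC)) A, ← hg]
    exact congrArg orderOf (Units.ext rfl)

/-- Images in `PSL₂` keep odd orders. -/
theorem orderOf_proj {X : SL₂} (h : Odd (orderOf X)) : orderOf (proj X) = orderOf X := by
  refine Nat.dvd_antisymm (orderOf_map_dvd _ X) ?_
  set m := orderOf (proj X)
  have h1 : proj (X ^ m) = proj 1 := by rw [map_pow, pow_orderOf_eq_one, map_one]
  obtain ⟨c, hc, hXc⟩ := proj_eq_iff.1 h1.symm
  have h2 : X ^ (2 * m) = 1 := by
    apply Subtype.ext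
    rw [mul_comm, pow_mul, Matrix.SpecialLinearGroup.coe_pow, hXc, smul_pow, hc]
    simp
  exact (Nat.Coprime.dvd_of_dvd_mul_left ((Nat.coprime_two_right).2 h) (orderOf_dvd_of_pow_eq_one h2))

/-- The odd `r`-part of the order of `PSL₂(q)`, `r` prime to `q`. -/
theorem factorization_card {r : ℕ} [Fact r.Prime] (hr2 : r ≠ 2) (hr : ¬ r ∣ Fintype.card F) :
    (Nat.card PSL₂).factorization r = (Fintype.card F ^ 2 - 1).factorization r := by
  have hrp := (Fact.out (p := r.Prime))
  have h := CfsgLib.Classical.card_psl2 (F := F)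
  have hq : 1 < Fintype.card F := Fintype.one_lt_card
  have hg : ¬ r ∣ Nat.gcd 2 (Fintype.card F - 1) := fun h' =>
    hr2 ((Nat.prime_dvd_prime_iff_eq hrp Nat.prime_two).1 (h'.trans (Nat.gcd_dvd_left _ _)))
  have := congrArg (fun n => n.factorization r) h
  simp only [Nat.factorization_mul (Nat.gcd_pos_of_pos_left _ two_pos).ne' Nat.card_pos.ne',
    Finsupp.add_apply, Nat.factorization_eq_zero_of_not_dvd hg, zero_add] at this
  rw [this, Nat.factorization_mul (by omega) (Nat.mul_pos (by omega) (by omega)).ne',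
    Finsupp.add_apply, Nat.factorization_eq_zero_of_not_dvd hr, zero_add]
  congr 2
  conv_rhs => rw [← one_pow 2, Nat.sq_sub_sq, mul_comm]

/-- Off the characteristic: the field part is trivial. -/
theorem field_eq_one_coprime {r : ℕ} [Fact r.Prime] (hr2 : r ≠ 2) (hr : ¬ r ∣ Fintype.card F)
    (hdvd : r ∣ Nat.card PSL₂) {g : GL (Fin 2) F} {σ : RingAut F} (R : Sylow r PSL₂)
    (hR : ∀ x ∈ (R : Subgroup PSL₂), ind g σ x = x) {k : ℕ} (hσ : σ ^ r ^ k = 1) : σ = 1 := by
  classical
  have hrp := (Fact.out (p := r.Prime))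
  by_contra hne
  obtain ⟨p, hp⟩ := CharP.exists F
  obtain ⟨f, hpp, hF⟩ := FiniteField.card F p
  haveI := Fact.mk hpp
  set a := (Fintype.card F ^ 2 - 1).factorization r with ha
  have hcard := factorization_card (F := F) hr2 hr
  have ha1 : 1 ≤ a := by
    rw [ha, ← hcard]
    exact hrp.factorization_pos_of_dvd Nat.card_pos.ne' hdvd
  obtain ⟨X₀, hX₀⟩ := exists_sl2_orderOf (F := F) (a := a) hr2 (Nat.ordProj_dvd _ _)
  have hodd : Odd (r ^ a) := (hrp.odd_of_ne_two hr2).pow
  have hy₀ : orderOf (proj X₀) = r ^ a := (orderOf_proj (hX₀ ▸ hodd)).trans hX₀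
  let S : Sylow r PSL₂ := Sylow.ofCard (Subgroup.zpowers (proj X₀))
    (by rw [Nat.card_zpowers, hy₀, ha, ← hcard])
  obtain ⟨x, hx⟩ := MulAction.exists_smul_eq PSL₂ S R
  obtain ⟨s, rfl⟩ := QuotientGroup.mk'_surjective _ x
  set X := s * X₀ * s⁻¹ with hXdef
  have hmem : proj X ∈ (R : Subgroup PSL₂) := by
    rw [← hx, Sylow.coe_subgroup_smul, hXdef, map_mul, map_mul, map_inv]
    exact Subgroup.smul_mem_pointwise_smul (proj X₀) (MulAut.conj (proj s)) _
      (Subgroup.mem_zpowers _)
  have hXo : orderOf X = r ^ a := by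
    rw [← hX₀]
    exact MulEquiv.orderOf_eq (MulAut.conj s) X₀
  have hXm : X ^ r ^ a = 1 := hXo ▸ pow_orderOf_eq_one X
  have ht : σ X.1.trace = X.1.trace := fixed_lift hodd hXm (hR _ hmem)
  haveI : Finite (RingAut F) := Finite.of_injective (fun τ : RingAut F => (τ : F → F))
    DFunLike.coe_injective
  obtain ⟨-, hc⟩ := card_fixedField hpp hF (σ := σ) rfl (orderOf_pos σ)
  set i := (f : ℕ) / orderOf σ with hi
  haveI : Fintype (fixedField σ) := Fintype.ofFinite _
  have ht' : X.1.trace ^ p ^ i = X.1.trace := by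
    have := FiniteField.pow_card (⟨X.1.trace, ht⟩ : fixedField σ)
    rw [← Nat.card_eq_fintype_card, hc] at this
    exact congrArg Subtype.val this
  have hpm : ¬ p ∣ r ^ a := fun h => hr (by
    rw [hF, ← (Nat.prime_dvd_prime_iff_eq hpp hrp).1 (hpp.dvd_of_dvd_pow h)]
    exact dvd_pow_self p f.pos.ne')
  have hN := orderOf_dvd_of_pow_eq_one (pow_eq_one_of_trace hpm hXm ht')
  rw [hXo] at hN
  have hs : r ∣ orderOf σ := by
    obtain ⟨j, -, hj⟩ := (Nat.dvd_prime_pow hrp).1 (orderOf_dvd_of_pow_eq_one hσ)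
    rcases j with _ | j
    · exact absurd (orderOf_eq_one_iff.1 (by rw [hj, pow_zero])) hne
    · rw [hj]; exact dvd_pow_self r j.succ_ne_zero
  have hbig := pow_succ_dvd (Nat.one_le_pow _ _ (pow_pos hpp.pos i)) ha1 hN hs
  have hq : ((p ^ i) ^ 2) ^ orderOf σ = Fintype.card F ^ 2 := by
    rw [← card_fixedField_pow σ, hc]; ring
  rw [hq, ha] at hbig
  refine Nat.pow_succ_factorization_not_dvd ?_ hrp hbig
  have := Fintype.one_lt_card (α := F)
  have : 1 < Fintype.card F ^ 2 := Nat.one_lt_pow (by omega) this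
  omega

/-- In the characteristic: the field part is trivial. -/
theorem field_eq_one_char {p : ℕ} [Fact p.Prime] [CharP F p] (hp2 : p ≠ 2)
    {g : GL (Fin 2) F} {σ : RingAut F} (R : Sylow p PSL₂)
    (hR : ∀ x ∈ (R : Subgroup PSL₂), ind g σ x = x) : σ = 1 := by
  classical
  obtain ⟨x, hx⟩ := MulAction.exists_smul_eq PSL₂ (sylowU (n := 2) (F := F) (p := p)) R
  obtain ⟨s, rfl⟩ := QuotientGroup.mk'_surjective _ x
  set S := Matrix.SpecialLinearGroup.toGL s
  set h := S⁻¹ * (g * glField σ S) with hh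
  have h01 : (0 : Fin 2) ≠ 1 := by decide
  have hfix : ∀ t : F, ind h σ (proj (xr h01 t)) = proj (xr h01 t) := by
    intro t
    have hu : proj (xr h01 t) ∈ (sylowU (n := 2) (F := F) (p := p) : Subgroup PSL₂) :=
      ⟨_, tv_mem_unitri (show (0 : Fin 2) < 1 by decide) t, rfl⟩
    have hm : MulAut.conj (proj s) (proj (xr h01 t)) ∈ (R : Subgroup PSL₂) := by
      rw [← hx, Sylow.coe_subgroup_smul]
      exact Subgroup.smul_mem_pointwise_smul _ (MulAut.conj (proj s)) _ hu
    have hS : MulAut.conj (proj s) = ind S 1 := by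
      refine MulEquiv.ext fun y => ?_
      obtain ⟨u, rfl⟩ := QuotientGroup.mk'_surjective _ y
      show proj s * proj u * (proj s)⁻¹ = proj (slConj _ (slField 1 u))
      rw [← map_inv, ← map_mul, ← map_mul, map_one, MulAut.one_apply]
      exact congrArg proj (Subtype.ext rfl)
    have hprod : ind S⁻¹ 1 * (ind g σ * ind S 1) = ind h σ := by
      rw [ind_mul g S σ 1, mul_one, ind_mul S⁻¹ _ 1 σ, one_mul, hh]
      rfl
    have hinv : ind S⁻¹ 1 * ind S 1 = 1 := by
      rw [← indHom_apply, ← indHom_apply, ← map_mul, inv_mul_cancel, map_one]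
    rw [hS] at hm
    rw [← hprod, MulAut.mul_apply, MulAut.mul_apply, hR _ hm, ← MulAut.mul_apply, hinv,
      MulAut.one_apply]
  have hent : ∀ t : F, h.1 1 0 * t = 0 ∧ h.1 0 0 * σ t = t * h.1 1 1 := by
    intro t
    obtain ⟨c, hc, hcX⟩ := proj_eq_iff.1
      (show proj (slConj h (slField σ (xr h01 t))) = proj (xr h01 t) from hfix t)
    rw [slConj_val, slField_val, xr01_val] at hcX
    have h1 : c = 1 := by
      have h2 := congrArg Matrix.trace hcX
      rw [Matrix.trace_smul, Matrix.trace_units_conj] at h2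
      simp [Matrix.trace_fin_two] at h2
      have h20 : (2 : F) ≠ 0 := fun h0 => hp2 <| by
        have : p ∣ 2 := (CharP.cast_eq_zero_iff F p 2).1 (by simpa using h0)
        exact (Nat.prime_dvd_prime_iff_eq Fact.out Nat.prime_two).1 this
      refine mul_right_cancel₀ h20 ?_
      linear_combination -h2
    rw [h1, one_smul] at hcX
    have h3 := congrArg (fun M => M * h.1) hcX
    simp only [Units.inv_mul_cancel_right] at h3
    have e00 := congrFun (congrFun h3 0) 0
    have e01 := congrFun (congrFun h3 0) 1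
    simp [Matrix.mul_apply, Fin.sum_univ_two] at e00 e01
    exact ⟨mul_eq_zero.2 e00.symm,
      by first | linear_combination e01 | linear_combination -e01⟩
  have h10 : h.1 1 0 = 0 := by simpa using (hent 1).1
  have h00 : h.1 0 0 = h.1 1 1 := by simpa using (hent 1).2
  have hne : h.1 1 1 ≠ 0 := fun h0 => by
    have := (Matrix.GeneralLinearGroup.det h).ne_zero
    rw [Matrix.GeneralLinearGroup.val_det_apply, Matrix.det_fin_two] at this
    simp [h10, h00, h0] at this
  refine RingEquiv.ext fun t => ?_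
  have := (hent t).2
  rw [h00, mul_comm t] at this
  exact mul_left_cancel₀ hne this

/-- An automorphism of `PSL₂(q)` of odd prime power order fixing a Sylow subgroup for that prime
elementwise is inner. -/
theorem mem_inn {r : ℕ} [Fact r.Prime] (hr2 : r ≠ 2) (hdvd : r ∣ Nat.card PSL₂)
    (β : MulAut PSL₂) {k : ℕ} (hβ : β ^ r ^ k = 1) (R : Sylow r PSL₂)
    (hR : ∀ x ∈ (R : Subgroup PSL₂), β x = x) : β ∈ Cfsg.Inn PSL₂ := by
  classical
  obtain ⟨g, σ, rfl | ⟨h3, -⟩⟩ := aut_classify (le_refl 2) β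
  swap
  · omega
  have hrp := (Fact.out (p := r.Prime))
  have hσk : σ ^ r ^ k = 1 := by
    rw [ind_pow] at hβ
    exact (eq_one_of_ind_eq_one (le_refl 2) hβ).1
  obtain rfl : σ = 1 := by
    by_cases hrq : r ∣ Fintype.card F
    · obtain ⟨p, hp⟩ := CharP.exists F
      obtain ⟨f, hpp, hF⟩ := FiniteField.card F p
      obtain rfl : r = p := (Nat.prime_dvd_prime_iff_eq hrp hpp).1 (hrp.dvd_of_dvd_pow (hF ▸ hrq))
      exact field_eq_one_char hr2 R hR
    · exact field_eq_one_coprime hr2 hrq hdvd R hR hσk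
  rw [← indHom_apply, ← map_pow, indHom_apply] at hβ
  obtain ⟨-, c, hc0, hc⟩ := eq_one_of_ind_eq_one (le_refl 2) hβ
  obtain ⟨j, hj⟩ := (hrp.odd_of_ne_two hr2).pow (n := k)
  have hg0 : g.1.det ≠ 0 := (Matrix.GeneralLinearGroup.det g).ne_zero
  have hdet := congrArg Matrix.det hc
  rw [Units.val_pow_eq_pow_val, Matrix.det_pow, Matrix.det_smul, Fintype.card_fin, Matrix.det_one,
    mul_one, hj, pow_succ] at hdet
  -- `det g` is a square
  set e : F := c / g.1.det ^ j with he
  have he0 : e ≠ 0 := div_ne_zero hc0 (pow_ne_zero _ hg0)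
  have he2 : e ^ 2 = g.1.det := by
    rw [he, div_pow, ← hdet, ← pow_mul, mul_comm j 2]
    field_simp
  have hs : (e⁻¹ • g.1).det = 1 := by
    rw [Matrix.det_smul, Fintype.card_fin, inv_pow, he2, inv_mul_cancel₀ hg0]
  refine mem_inn_iff.2 ⟨⟨_, hs⟩, ?_⟩
  have hg : g = scal (Units.mk0 e he0) * Matrix.SpecialLinearGroup.toGL ⟨_, hs⟩ := by
    apply Units.ext
    rw [Units.val_mul, scal_val, smul_mul_assoc, one_mul]
    show g.1 = e • (e⁻¹ • g.1)
    rw [smul_smul, mul_inv_cancel₀ he0, one_smul]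
  conv_lhs => rw [hg, ind_scal_mul]

end CfsgLib.AutPSL.FixSylow
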