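import Mathlib
import Cfsg.Agent.Lib.AutPSL.Coset

/-!
Orders of automorphisms of `PSL_n(F)`: projective orders are bounded by the number of lines in the
algebra of a matrix; semilinear maps descend to the fixed field; graph elements are bounded by
half of that number.
-/

set_option autoImplicit false
set_option linter.all false

namespace CfsgLib.AutPSL.MaxOrder

open Matrix Polynomial CfsgLib.Descent

/-! ### arithmetic -/

theorem geo_le (q : ℕ) (hq : 2 ≤ q) : ∀ n, 1 ≤ n → ∑ i ∈ Finset.range n, q ^ i ≤ 2 * q ^ (n - 1)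
  | 0, h => absurd h (by omega)
  | 1, _ => by simp
  | n + 2, _ => by
    have ih := geo_le q hq (n + 1) (by omega)
    rw [Finset.sum_range_succ, show n + 2 - 1 = n + 1 from rfl]
    rw [show n + 1 - 1 = n from rfl] at ih
    have : 2 * q ^ n ≤ q ^ (n + 1) := by rw [pow_succ']; exact Nat.mul_le_mul_right _ hq
    omega

theorem four_pow (e : ℕ) (he : 2 ≤ e) : 2 * e ≤ 4 ^ (e - 1) ∧ (3 ≤ e → 4 * e ≤ 4 ^ (e - 1)) := by
  induction e, he using Nat.le_induction with
  | base => norm_num
  | succ e he ih =>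
    rw [show e + 1 - 1 = (e - 1) + 1 by omega, pow_succ]
    refine ⟨by omega, fun h => ?_⟩
    omega

theorem geo_field (q₀ e n c : ℕ) (hq : 2 ≤ q₀) (hn : 3 ≤ n) (hc : 2 * c ≤ q₀ ^ (2 * (e - 1)))
    (he : 1 ≤ e) : c * ∑ i ∈ Finset.range n, q₀ ^ i ≤ ∑ i ∈ Finset.range n, (q₀ ^ e) ^ i := by
  calc c * ∑ i ∈ Finset.range n, q₀ ^ i ≤ c * (2 * q₀ ^ (n - 1)) :=
        Nat.mul_le_mul_left _ (geo_le q₀ hq n (by omega))
    _ = 2 * c * q₀ ^ (n - 1) := by ring
    _ ≤ q₀ ^ ((n - 1) * (e - 1)) * q₀ ^ (n - 1) :=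
        Nat.mul_le_mul_right _ (hc.trans (Nat.pow_le_pow_right (by omega)
          (Nat.mul_le_mul_right _ (by omega))))
    _ = (q₀ ^ e) ^ (n - 1) := by
        rw [← pow_add, ← pow_mul]
        congr 1
        obtain ⟨d, rfl⟩ : ∃ d, e = d + 1 := ⟨e - 1, by omega⟩
        rw [Nat.add_sub_cancel]
        ring
    _ ≤ _ := Finset.single_le_sum (f := fun i => (q₀ ^ e) ^ i) (fun i _ => Nat.zero_le _)
        (Finset.mem_range.2 (by omega))

theorem two_case (q₀ e : ℕ) (hq : 2 ≤ q₀) (he : 2 ≤ e) (hx : ¬ (q₀ = 2 ∧ e = 2)) :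
    e * (q₀ + 1) ≤ q₀ ^ e + 1 := by
  rcases Nat.lt_or_ge q₀ 3 with h | h
  · obtain rfl : q₀ = 2 := by omega
    obtain ⟨d, rfl⟩ : ∃ d, e = d + 3 := ⟨e - 3, by omega⟩
    clear he hx
    induction d with
    | zero => norm_num
    | succ d ih =>
      rw [show d + 1 + 3 = d + 3 + 1 from rfl, pow_succ]
      have : 8 ≤ 2 ^ (d + 3) := Nat.pow_le_pow_right (by norm_num) (Nat.le_add_left 3 d) |>.trans' (by norm_num)
      omega
  · induction e, he using Nat.le_induction with
    | base => nlinarith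
    | succ e he ih =>
      rw [pow_succ]
      have h2 : q₀ ^ 2 ≤ q₀ ^ e := Nat.pow_le_pow_right (by omega) he
      have ih' := ih (by omega)
      nlinarith

theorem half_pow (j : ℕ) : ∀ t, j ^ t * (j + t) ≤ (j + 1) ^ t * j
  | 0 => by simp
  | t + 1 => by
    calc j ^ (t + 1) * (j + (t + 1)) = j ^ t * (j * (j + t + 1)) := by ring
      _ ≤ j ^ t * ((j + t) * (j + 1)) := Nat.mul_le_mul_left _ (by nlinarith)
      _ = j ^ t * (j + t) * (j + 1) := by ring
      _ ≤ (j + 1) ^ t * j * (j + 1) := Nat.mul_le_mul_right _ (half_pow j t)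
      _ = (j + 1) ^ (t + 1) * j := by ring

theorem le_geo {k q n : ℕ} (hq : 2 ≤ q) (h : k * (q - 1) ≤ q ^ n - 1) :
    k ≤ ∑ i ∈ Finset.range n, q ^ i := by
  have h2 := geom_sum_mul_add (q - 1) n
  rw [Nat.sub_add_cancel (show 1 ≤ q by omega)] at h2
  exact Nat.le_of_mul_le_mul_right (c := q - 1) (by omega) (by omega)

theorem of_le_geo {k q n : ℕ} (hq : 2 ≤ q) (h : k ≤ ∑ i ∈ Finset.range n, q ^ i) :
    (q - 1) * k ≤ q ^ n - 1 := by
  have h2 := geom_sum_mul_add (q - 1) n
  rw [Nat.sub_add_cancel (show 1 ≤ q by omega)] at h2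
  calc (q - 1) * k = k * (q - 1) := mul_comm _ _
    _ ≤ (∑ i ∈ Finset.range n, q ^ i) * (q - 1) := Nat.mul_le_mul_right _ h
    _ = _ := by omega

/-! ### powers of a matrix over a subfield -/

variable {n : ℕ} {F : Type*} [Field F] [Finite F]

theorem ind_pow_one (hn : 2 ≤ n) (M : GL (Fin n) F) (j : ℕ) :
    (ind M 1) ^ j = 1 ↔ ∃ c : F, c ≠ 0 ∧ (M ^ j).1 = c • (1 : Matrix (Fin n) (Fin n) F) := by
  rw [← indHom_apply, ← map_pow, indHom_apply]
  refine ⟨fun h => (eq_one_of_ind_eq_one hn h).2, fun ⟨c, hc, h⟩ => ?_⟩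
  have : M ^ j = scal (Units.mk0 c hc) := Units.ext (by rw [scal_val, h, Units.val_mk0])
  rw [this, ind_scal, ind_one]

theorem order_pos (β : MulAut (Matrix.ProjectiveSpecialLinearGroup (Fin n) F)) : 0 < orderOf β := by
  haveI : Finite (MulAut (Matrix.ProjectiveSpecialLinearGroup (Fin n) F)) :=
    Finite.of_injective (fun e : MulAut (Matrix.ProjectiveSpecialLinearGroup (Fin n) F) => (e : _ → _))
      DFunLike.coe_injective
  exact orderOf_pos β

section sub

variable (K : Type*) [Field K] [Algebra K F]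

/-- linear combinations of `1, M, …, M^(n-1)` -/
noncomputable def pev (M : Matrix (Fin n) (Fin n) F) : (Fin n → K) →ₗ[K] Matrix (Fin n) (Fin n) F :=
  Fintype.linearCombination K (fun i : Fin n => M ^ (i : ℕ))

theorem pev_apply (M : Matrix (Fin n) (Fin n) F) (a : Fin n → K) :
    pev K M a = ∑ i, a i • M ^ (i : ℕ) := rfl

theorem pev_single (M : Matrix (Fin n) (Fin n) F) (i : Fin n) (x : K) :
    pev K M (Pi.single i x) = x • M ^ (i : ℕ) := by
  rw [pev, Fintype.linearCombination_apply_single]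

theorem aeval_mem (M : Matrix (Fin n) (Fin n) F) {P : K[X]} (hP : P.Monic) (hd : P.natDegree = n)
    (hPM : aeval M P = 0) (p : K[X]) : aeval M p ∈ LinearMap.range (pev K M) := by
  rcases Nat.eq_zero_or_pos n with rfl | hn
  · exact ⟨0, Subsingleton.elim _ _⟩
  rw [← aeval_modByMonic_eq_self_of_root hPM]
  have hdeg : (p %ₘ P).natDegree < n := by
    rw [← hd]
    exact natDegree_modByMonic_lt _ hP (fun h => by rw [h, natDegree_one] at hd; omega)
  refine ⟨fun i => (p %ₘ P).coeff i, ?_⟩
  rw [pev_apply, aeval_eq_sum_range' hdeg, Finset.sum_range]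

theorem card_bound (hn : 2 ≤ n) (M : GL (Fin n) F) {P : K[X]} (hP : P.Monic) (hd : P.natDegree = n)
    (hPM : aeval M.1 P = 0) :
    orderOf (ind M 1) * (Nat.card K - 1) ≤ Nat.card (LinearMap.range (pev K M.1)) - 1 := by
  classical
  haveI : Finite K := Finite.of_injective _ (algebraMap K F).injective
  haveI : NeZero n := ⟨by omega⟩
  have hmem : ∀ i : ℕ, M.1 ^ i ∈ LinearMap.range (pev K M.1) := fun i => by
    have := aeval_mem K M.1 hP hd hPM (X ^ i)
    rwa [map_pow, aeval_X] at this
  let f : Fin (orderOf (ind M 1)) × Kˣ → {x : LinearMap.range (pev K M.1) // x ≠ 0} := fun p =>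
    ⟨⟨(p.2 : K) • M.1 ^ (p.1 : ℕ), Submodule.smul_mem _ _ (hmem _)⟩, fun h => by
      have h' : (p.2 : K) • M.1 ^ (p.1 : ℕ) = 0 := congrArg Subtype.val h
      rw [smul_eq_zero] at h'
      rcases h' with h' | h'
      · exact p.2.ne_zero h'
      · rw [← Units.val_pow_eq_pow_val] at h'
        exact (M ^ (p.1 : ℕ)).ne_zero h'⟩
  have key : ∀ (i j : ℕ) (c d : Kˣ), i ≤ j → j < orderOf (ind M 1) →
      (c : K) • M.1 ^ i = (d : K) • M.1 ^ j → i = j := by
    intro i j c d hij hj h
    by_contra hne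
    obtain ⟨t, rfl⟩ : ∃ t, j = i + t := ⟨j - i, by omega⟩
    have h2 : M.1 ^ i * ((c : K) • (1 : Matrix (Fin n) (Fin n) F)) = M.1 ^ i * ((d : K) • M.1 ^ t) := by
      rw [mul_smul_comm, mul_one, mul_smul_comm, ← pow_add, h]
    rw [← Units.val_pow_eq_pow_val, Units.mul_right_inj] at h2
    have h3 : M.1 ^ t = ((d : K)⁻¹ * c) • (1 : Matrix (Fin n) (Fin n) F) := by
      rw [mul_smul, h2, inv_smul_smul₀ d.ne_zero]
    have : (ind M 1) ^ t = 1 := (ind_pow_one hn M t).2 ⟨algebraMap K F ((d : K)⁻¹ * c),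
      by simpa using ⟨d.ne_zero, c.ne_zero⟩, by rw [Units.val_pow_eq_pow_val, h3, algebraMap_smul]⟩
    exact pow_ne_one_of_lt_orderOf (by omega) (by omega) this
  have hf : Function.Injective f := by
    rintro ⟨i, c⟩ ⟨j, d⟩ h
    have h' : (c : K) • M.1 ^ (i : ℕ) = (d : K) • M.1 ^ (j : ℕ) :=
      congrArg (fun x => (x.1.1 : Matrix (Fin n) (Fin n) F)) h
    have hij : i = j := Fin.ext (by
      rcases le_total (i : ℕ) j with hle | hle
      · exact key _ _ c d hle j.2 h'
      · exact (key _ _ d c hle i.2 h'.symm).symm)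
    subst hij
    refine Prod.ext rfl (Units.ext ?_)
    refine smul_left_injective K (fun h0 => ?_) h'
    rw [← Units.val_pow_eq_pow_val] at h0
    exact (M ^ (i : ℕ)).ne_zero h0
  have h1 := Nat.card_le_card_of_injective f hf
  rw [Nat.card_prod, Nat.card_fin, Nat.card_units] at h1
  have h2 : Nat.card {x : LinearMap.range (pev K M.1) // x ≠ 0} =
      Nat.card (LinearMap.range (pev K M.1)) - 1 := by
    haveI : Fintype (LinearMap.range (pev K M.1)) := Fintype.ofFinite _
    rw [Nat.card_eq_fintype_card, Nat.card_eq_fintype_card, Fintype.card_subtype_compl,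
      Fintype.card_subtype_eq]
  omega

theorem card_bound' (hn : 2 ≤ n) (M : GL (Fin n) F) {P : K[X]} (hP : P.Monic) (hd : P.natDegree = n)
    (hPM : aeval M.1 P = 0) : orderOf (ind M 1) * (Nat.card K - 1) ≤ Nat.card K ^ n - 1 := by
  haveI : Finite K := Finite.of_injective _ (algebraMap K F).injective
  refine (card_bound K hn M hP hd hPM).trans (Nat.sub_le_sub_right ?_ 1)
  have := Finite.card_range_le (pev K M.1)
  rw [Nat.card_fun, Nat.card_fin] at this
  exact this

end sub

theorem linear_bound (hn : 2 ≤ n) (M : GL (Fin n) F) :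
    (Nat.card F - 1) * orderOf (ind M 1) ≤ Nat.card F ^ n - 1 := by
  rw [mul_comm]
  exact card_bound' F hn M (Matrix.charpoly_monic _) (by rw [Matrix.charpoly_natDegree_eq_dim, Fintype.card_fin])
    (Matrix.aeval_self_charpoly _)

theorem field_bound (hn : 2 ≤ n) (A : GL (Fin n) F) (σ : RingAut F) :
    ∃ q₀ k : ℕ, 2 ≤ q₀ ∧ Nat.card F = q₀ ^ orderOf σ ∧ k ≤ ∑ i ∈ Finset.range n, q₀ ^ i ∧
      orderOf (ind A σ) ≤ orderOf σ * k := by
  classical
  haveI : Finite (RingAut F) := Finite.of_injective (fun e : RingAut F => (e : F → F)) DFunLike.coe_injective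
  set e := orderOf σ with he
  have he0 : 0 < e := orderOf_pos σ
  letI : MulSemiringAction (RingAut F) F := RingAut.applyMulSemiringAction
  let K := FixedPoints.subfield (Subgroup.zpowers σ) F
  haveI : Fintype (Subgroup.zpowers σ) := Fintype.ofFinite _
  haveI : FaithfulSMul (Subgroup.zpowers σ) F :=
    ⟨fun {a b} h => Subtype.ext (RingEquiv.ext h)⟩
  haveI : Fintype K := Fintype.ofFinite _
  have hfin : Module.finrank K F = e := by
    rw [FixedPoints.finrank_eq_card, ← Nat.card_eq_fintype_card, Nat.card_zpowers]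
  have hcard : Nat.card F = Nat.card K ^ e := by
    haveI : FiniteDimensional K F := Module.Finite.of_finite
    rw [← hfin]
    exact Module.natCard_eq_pow_finrank
  set M := nprod σ A e with hMdef
  have hσe : σ ^ e = 1 := pow_orderOf_eq_one σ
  have hM : glMap σ M = A⁻¹ * M * A := by
    rw [eq_comm, mul_assoc, inv_mul_eq_iff_eq_mul]
    have h1 := nprod_succ' σ A e
    rw [hσe, glMap_one] at h1
    exact h1.symm
  have hfix : ∀ i, M.1.charpoly.coeff i ∈ K := by
    intro i g
    have hg : ∀ x, σ x = x → g • x = x := by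
      intro x hx
      have : g.1 ∈ MulAction.stabilizer (RingAut F) x := by
        have hle : Subgroup.zpowers σ ≤ MulAction.stabilizer (RingAut F) x := by
          rw [Subgroup.zpowers_le]; exact hx
        exact hle g.2
      exact this
    refine hg _ ?_
    have h2 : (M.1.map σ).charpoly = M.1.charpoly := by
      rw [← glMap_val, hM, Units.val_mul, Units.val_mul, Matrix.coe_units_inv, Matrix.charpoly_units_conj']
    conv_rhs => rw [← h2]
    rw [show M.1.map σ = M.1.map σ.toRingHom from rfl, Matrix.charpoly_map, Polynomial.coeff_map]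
    rfl
  obtain ⟨P, hPmap, hPdeg, hP⟩ := lifts_and_natDegree_eq_and_monic (f := algebraMap K F)
    ((lifts_iff_coeff_lifts _).2 fun i => ⟨⟨_, hfix i⟩, rfl⟩) (Matrix.charpoly_monic M.1)
  have hPM : aeval M.1 P = 0 := by
    rw [← aeval_map_algebraMap F, hPmap]
    exact Matrix.aeval_self_charpoly M.1
  have hb := card_bound' K hn M hP
    (hPdeg.trans ((Matrix.charpoly_natDegree_eq_dim M.1).trans (Fintype.card_fin n))) hPM
  have hq : 2 ≤ Nat.card K := Finite.one_lt_card
  refine ⟨Nat.card K, orderOf (ind M 1), hq, hcard, le_geo hq hb, ?_⟩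
  apply Nat.le_of_dvd (Nat.mul_pos he0 (order_pos _))
  rw [orderOf_dvd_iff_pow_eq_one, pow_mul, ind_pow, hσe]
  exact pow_orderOf_eq_one _

theorem field_order (hn : 2 ≤ n) (h24 : ¬ (n = 2 ∧ Nat.card F = 4)) (A : GL (Fin n) F) (σ : RingAut F) :
    (Nat.card F - 1) * orderOf (ind A σ) ≤ Nat.card F ^ n - 1 := by
  rcases eq_or_ne σ 1 with rfl | hσ
  · exact linear_bound hn A
  haveI : Finite (RingAut F) := Finite.of_injective (fun e : RingAut F => (e : F → F)) DFunLike.coe_injective
  obtain ⟨q₀, k, hq₀, hq, hk, ho⟩ := field_bound hn A σ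
  have he : 2 ≤ orderOf σ := by
    have := orderOf_pos σ
    rcases Nat.lt_or_ge (orderOf σ) 2 with h | h
    · exact absurd (orderOf_eq_one_iff.1 (by omega)) hσ
    · exact h
  refine of_le_geo Finite.one_lt_card (ho.trans ((Nat.mul_le_mul_left _ hk).trans ?_))
  rw [hq]
  rcases Nat.lt_or_ge n 3 with hn3 | hn3
  · obtain rfl : n = 2 := by omega
    simp only [Finset.sum_range_succ, Finset.sum_range_zero, zero_add, pow_zero, pow_one]
    have := two_case q₀ _ hq₀ he (fun h => h24 ⟨rfl, by rw [hq, h.1, h.2]; norm_num⟩)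
    rw [add_comm 1 q₀, add_comm 1]
    exact this
  · refine geo_field _ _ _ _ hq₀ hn3 ((four_pow _ he).1.trans ?_) (by omega)
    rw [pow_mul]
    exact Nat.pow_le_pow_left (by nlinarith) _

/-! ### graph elements -/

/-- `e ↦ A σ(e)ᵀ A⁻¹` -/
def theta (A : GL (Fin n) F) (σ : RingAut F) (e : Matrix (Fin n) (Fin n) F) : Matrix (Fin n) (Fin n) F :=
  A.1 * (e.map σ)ᵀ * (A⁻¹).1

theorem theta_mul (A : GL (Fin n) F) (σ : RingAut F) (e f : Matrix (Fin n) (Fin n) F) :
    theta A σ (e * f) = theta A σ f * theta A σ e := by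
  rw [theta, theta, theta, show (e * f).map σ = e.map σ * f.map σ from Matrix.map_mul (f := σ.toRingHom),
    Matrix.transpose_mul]
  simp only [mul_assoc, Units.inv_mul_cancel_left]

theorem theta_smul (A : GL (Fin n) F) (σ : RingAut F) (c : F) (e : Matrix (Fin n) (Fin n) F) :
    theta A σ (c • e) = σ c • theta A σ e := by
  rw [theta, theta, show (c • e).map σ = σ c • e.map σ by ext i j; simp,
    Matrix.transpose_smul, mul_smul_comm, smul_mul_assoc]

theorem theta_add (A : GL (Fin n) F) (σ : RingAut F) (e f : Matrix (Fin n) (Fin n) F) :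
    theta A σ (e + f) = theta A σ e + theta A σ f := by
  rw [theta, theta, theta, show (e + f).map σ = e.map σ + f.map σ by ext i j; simp,
    Matrix.transpose_add, mul_add, add_mul]

theorem theta_one (A : GL (Fin n) F) (σ : RingAut F) : theta A σ 1 = 1 := by
  rw [theta, Matrix.map_one σ (map_zero σ) (map_one σ), Matrix.transpose_one, mul_one, Units.mul_inv]

/-- units with `u θ(u)` scalar -/
def normScalar (A : GL (Fin n) F) (σ : RingAut F) : Submonoid (GL (Fin n) F) where
  carrier := {u | ∃ c : F, u.1 * theta A σ u.1 = c • (1 : Matrix (Fin n) (Fin n) F)}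
  one_mem' := ⟨1, by rw [Units.val_one, theta_one, mul_one, one_smul]⟩
  mul_mem' := by
    rintro u v ⟨c, hc⟩ ⟨d, hd⟩
    refine ⟨c * d, ?_⟩
    rw [Units.val_mul, theta_mul]
    calc u.1 * v.1 * (theta A σ v.1 * theta A σ u.1)
        = u.1 * (v.1 * theta A σ v.1) * theta A σ u.1 := by simp only [mul_assoc]
      _ = (c * d) • 1 := by rw [hd, mul_smul_comm, mul_one, smul_mul_assoc, hc, smul_smul, mul_comm d]

theorem graph_half (hn : 3 ≤ n) (hx : ¬ (n = 3 ∧ Nat.card F = 2)) (A : GL (Fin n) F) (σ : RingAut F)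
    (hσ : σ * σ = 1) :
    2 * orderOf (ind (A * glMap σ (glIT A)) 1) * (Nat.card F - 1) ≤ Nat.card F ^ n - 1 := by
  classical
  haveI : Fintype F := Fintype.ofFinite F
  set q := Nat.card F with hqdef
  have hq : 2 ≤ q := Finite.one_lt_card
  haveI : NeZero n := ⟨by omega⟩
  set B := A * glMap σ (glIT A) with hB
  set k := orderOf (ind B 1) with hkdef
  have hσσ : ∀ x, σ (σ x) = x := fun x => congrArg (fun τ : RingAut F => τ x) hσ
  have hd : B.1.charpoly.natDegree = n := by rw [Matrix.charpoly_natDegree_eq_dim, Fintype.card_fin]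
  have hmem : ∀ p : F[X], aeval B.1 p ∈ LinearMap.range (pev F B.1) :=
    aeval_mem F B.1 (Matrix.charpoly_monic _) hd (Matrix.aeval_self_charpoly _)
  by_cases hinj : Function.Injective (pev F B.1)
  swap
  · -- the algebra has dimension less than `n`
    have h1 := card_bound F (by omega) B (Matrix.charpoly_monic _) hd (Matrix.aeval_self_charpoly _)
    have hlt : Module.finrank F (LinearMap.range (pev F B.1)) < n := by
      have h2 := LinearMap.finrank_range_add_finrank_ker (pev F B.1)
      rw [Module.finrank_fintype_fun_eq_card, Fintype.card_fin] at h2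
      have : 0 < Module.finrank F (LinearMap.ker (pev F B.1)) := by
        rw [Nat.pos_iff_ne_zero]
        intro h0
        exact hinj (LinearMap.ker_eq_bot.1 (Submodule.finrank_eq_zero.1 h0))
      omega
    rw [Module.natCard_eq_pow_finrank (K := F) (V := LinearMap.range (pev F B.1))] at h1
    have h3 : q ^ Module.finrank F (LinearMap.range (pev F B.1)) ≤ q ^ (n - 1) :=
      Nat.pow_le_pow_right (by omega) (by omega)
    have h4 : 2 * q ^ (n - 1) ≤ q ^ n := by
      calc 2 * q ^ (n - 1) ≤ q * q ^ (n - 1) := Nat.mul_le_mul_right _ hq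
        _ = q ^ n := by rw [← pow_succ']; congr 1; omega
    rw [mul_assoc]
    rw [← hqdef, ← hkdef] at h1
    omega
  -- units of the algebra
  let Ea : Submonoid (GL (Fin n) F) :=
    { carrier := {u | u.1 ∈ LinearMap.range (pev F B.1)}
      one_mem' := by simpa using hmem 1
      mul_mem' := by
        rintro u v ⟨a, ha⟩ ⟨b, hb⟩
        have he : ∀ a : Fin n → F, pev F B.1 a = aeval B.1 (∑ i, C (a i) * X ^ (i : ℕ)) := fun a => by
          simp [pev_apply, Algebra.smul_def]
        show u.1 * v.1 ∈ LinearMap.range (pev F B.1)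
        rw [← ha, ← hb, he, he, ← map_mul]
        exact hmem _ }
  let Eu : Subgroup (GL (Fin n) F) :=
    { Ea with
      inv_mem' := fun {u} hu => by
        have : u⁻¹ = u ^ (orderOf u - 1) := inv_eq_of_mul_eq_one_right (by
          rw [← pow_succ', Nat.sub_add_cancel (orderOf_pos u), pow_orderOf_eq_one])
        show u⁻¹ ∈ Ea
        rw [this]
        exact pow_mem (show u ∈ Ea from hu) _ }
  let H : Subgroup (GL (Fin n) F) :=
    { (normScalar A σ ⊓ Ea : Submonoid (GL (Fin n) F)) with
      inv_mem' := fun {u} hu => by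
        have : u⁻¹ = u ^ (orderOf u - 1) := inv_eq_of_mul_eq_one_right (by
          rw [← pow_succ', Nat.sub_add_cancel (orderOf_pos u), pow_orderOf_eq_one])
        show u⁻¹ ∈ (normScalar A σ ⊓ Ea : Submonoid (GL (Fin n) F))
        rw [this]
        exact pow_mem (show u ∈ (normScalar A σ ⊓ Ea : Submonoid (GL (Fin n) F)) from hu) _ }
  have hBE : B.1 ∈ LinearMap.range (pev F B.1) := by simpa using hmem X
  have hBinv : theta A σ B.1 = (B⁻¹).1 := by
    have h1 : glMap σ B = glMap σ A * glIT A := by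
      rw [hB, map_mul]
      congr 1
      refine Units.ext ?_
      ext i j
      simp [hσσ]
    have h2 : (B⁻¹).1 = (A.1.map σ)ᵀ * (A⁻¹).1 := by
      rw [hB, _root_.mul_inv_rev, Units.val_mul, ← map_inv]
      congr 1
    rw [theta, ← glMap_val, h1, Units.val_mul, Matrix.transpose_mul,
      show (glIT A).1ᵀ = (A⁻¹).1 from Matrix.transpose_transpose _, Units.mul_inv_cancel_left, h2, glMap_val]
  have hBH : B ∈ H := ⟨⟨1, by rw [hBinv, Units.mul_inv, one_smul]⟩, hBE⟩
  have hscal : ∀ c : Fˣ, scal c ∈ H := fun c => by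
    refine ⟨⟨c * σ c, ?_⟩, ?_⟩
    · rw [scal_val, theta_smul, theta_one, smul_mul_assoc, one_mul, smul_smul]
    · show (scal c).1 ∈ LinearMap.range (pev F B.1)
      rw [scal_val]
      exact Submodule.smul_mem _ _ (by simpa using hmem 1)
  have hHE : H ≤ Eu := fun u hu => hu.2
  have hcardH : k * (q - 1) ≤ Nat.card H := by
    let f : Fin k × Fˣ → H := fun p => ⟨scal p.2 * B ^ (p.1 : ℕ),
      H.mul_mem (hscal _) (H.pow_mem hBH _)⟩
    have hf : Function.Injective f := by
      have key : ∀ (i j : ℕ) (c d : Fˣ), i ≤ j → j < k →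
          scal (n := n) c * B ^ i = scal d * B ^ j → i = j := by
        intro i j c d hij hj h
        by_contra hne
        obtain ⟨t, rfl⟩ : ∃ t, j = i + t := ⟨j - i, by omega⟩
        rw [scal_comm, scal_comm, pow_add, mul_assoc, mul_left_cancel_iff] at h
        have ht : B ^ t = scal (c * d⁻¹) := by
          rw [show scal (n := n) (c * d⁻¹) = scal c * (scal d)⁻¹ from
            (map_mul _ _ _).trans (congrArg _ (map_inv _ _)), h]
          group
        exact pow_ne_one_of_lt_orderOf (show t ≠ 0 by omega) (show t < k by omega)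
          ((ind_pow_one (by omega) B t).2 ⟨_, (c * d⁻¹).ne_zero, by rw [ht, scal_val]⟩)
      rintro ⟨i, c⟩ ⟨j, d⟩ h
      have h' : scal (n := n) c * B ^ (i : ℕ) = scal d * B ^ (j : ℕ) := congrArg Subtype.val h
      have hij : i = j := Fin.ext (by
        rcases le_total (i : ℕ) j with hle | hle
        · exact key _ _ c d hle j.2 h'
        · exact (key _ _ d c hle i.2 h'.symm).symm)
      subst hij
      have h2 := congrArg (fun X : GL (Fin n) F => X.1 ⟨0, by omega⟩ ⟨0, by omega⟩) (mul_right_cancel h')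
      simp [scal_val] at h2
      exact Prod.ext rfl (Units.ext h2)
    have := Nat.card_le_card_of_injective f hf
    rwa [Nat.card_prod, Nat.card_fin, Nat.card_units] at this
  have hcardEu : Nat.card Eu ≤ q ^ n - 1 := by
    choose a ha using fun u : Eu => (u.2 : u.1.1 ∈ LinearMap.range (pev F B.1))
    let f : Eu → {a : Fin n → F // a ≠ 0} := fun u => ⟨a u, fun h => u.1.ne_zero (by
      rw [← ha u, h, map_zero])⟩
    have hf : Function.Injective f := fun u v h => Subtype.ext (Units.ext (by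
      rw [← ha u, ← ha v, show a u = a v from congrArg Subtype.val h]))
    have := Nat.card_le_card_of_injective f hf
    rwa [Nat.card_eq_fintype_card (α := {a : Fin n → F // a ≠ 0}), Fintype.card_subtype_compl,
      Fintype.card_subtype_eq, ← Nat.card_eq_fintype_card, Nat.card_fun, Nat.card_fin, ← hqdef] at this
  by_contra hcon
  rw [not_le, mul_assoc] at hcon
  have htop : ∀ u : GL (Fin n) F, u.1 ∈ LinearMap.range (pev F B.1) →
      ∃ c : F, u.1 * theta A σ u.1 = c • (1 : Matrix (Fin n) (Fin n) F) := by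
    intro u hu
    have heq : H = Eu := by
      by_contra hne
      obtain ⟨t, ht⟩ := Subgroup.card_dvd_of_le hHE
      have hpos : 0 < Nat.card H := Nat.card_pos
      have : 2 ≤ t := by
        by_contra hlt
        refine hne (Subgroup.eq_of_le_of_card_ge hHE ?_)
        rw [ht]
        exact (Nat.mul_le_mul_left _ (show t ≤ 1 by omega)).trans (mul_one _).le
      have : Nat.card H * 2 ≤ Nat.card Eu := ht ▸ Nat.mul_le_mul_left _ this
      omega
    have : u ∈ H := heq ▸ (hu : u ∈ Eu)
    exact this.1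
  let i0 : Fin n := ⟨0, by omega⟩
  let i1 : Fin n := ⟨1, by omega⟩
  let i2 : Fin n := ⟨2, by omega⟩
  by_cases hc : ∃ c : F, c ≠ 0 ∧ (B.1 - c • 1).det ≠ 0
  · obtain ⟨c, hc0, hdet⟩ := hc
    obtain ⟨u, hu⟩ := (Matrix.isUnit_iff_isUnit_det _).2 (isUnit_iff_ne_zero.2 hdet)
    have huE : u.1 ∈ LinearMap.range (pev F B.1) := by
      rw [hu]
      exact Submodule.sub_mem _ hBE (Submodule.smul_mem _ _ (by simpa using hmem 1))
    obtain ⟨a, ha⟩ := htop u huE
    have hth : theta A σ u.1 = (B⁻¹).1 + (-σ c) • 1 := by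
      rw [hu, sub_eq_add_neg, ← neg_smul, theta_add, theta_smul, theta_one, hBinv, map_neg]
    rw [hth, hu] at ha
    have h2 := congrArg (· * B.1) ha
    simp only [mul_assoc, add_mul, Units.inv_mul, smul_mul_assoc, one_mul] at h2
    have h3 : pev F B.1 (Pi.single i0 (-c) + Pi.single i1 (1 + c * σ c - a) + Pi.single i2 (-σ c)) = 0 := by
      rw [map_add, map_add, pev_single, pev_single, pev_single]
      simp only [i0, i1, i2, pow_zero, pow_one, pow_two]
      rw [← sub_eq_zero] at h2
      rw [← h2]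
      simp only [mul_add, mul_one, mul_smul_comm, sub_mul, smul_mul_assoc, one_mul]
      module
    have h4 := congrFun ((map_eq_zero_iff _ hinj).1 h3) i2
    simp [i0, i1, i2] at h4
    exact hc0 h4
  simp only [not_exists, not_and, not_not] at hc
  have hv : ∀ c : Fˣ, ∃ v : Fin n → F, v ≠ 0 ∧ B.1 *ᵥ v = (c : F) • v := fun c => by
    obtain ⟨v, hv0, hv⟩ := Matrix.exists_mulVec_eq_zero_iff.2 (hc c c.ne_zero)
    rw [Matrix.sub_mulVec, Matrix.smul_mulVec, Matrix.one_mulVec, sub_eq_zero] at hv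
    exact ⟨v, hv0, hv⟩
  have hqn : q - 1 ≤ n := by
    have hsub : (Finset.univ.image fun c : Fˣ => (c : F)) ⊆ B.1.charpoly.roots.toFinset := by
      intro x hx'
      obtain ⟨c, -, rfl⟩ := Finset.mem_image.1 hx'
      rw [Multiset.mem_toFinset, mem_roots (Matrix.charpoly_monic _).ne_zero, IsRoot.def, Matrix.eval_charpoly,
        ← Matrix.exists_mulVec_eq_zero_iff]
      obtain ⟨v, hv0, hv'⟩ := hv c
      refine ⟨v, hv0, ?_⟩
      rw [Matrix.sub_mulVec, hv', sub_eq_zero, Matrix.scalar_apply, ← Matrix.smul_one_eq_diagonal,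
        Matrix.smul_mulVec, Matrix.one_mulVec]
    have h1 := (Finset.card_le_card hsub).trans ((Multiset.toFinset_card_le _).trans (card_roots' _))
    rw [Finset.card_image_of_injective _ Units.val_injective, Finset.card_univ, hd,
      ← Nat.card_eq_fintype_card, Nat.card_units] at h1
    exact h1
  let L : (Fin n → F) →ₗ[F] (Fˣ → F) :=
    LinearMap.pi fun c => Fintype.linearCombination F (fun i : Fin n => (c : F) ^ (i : ℕ))
  have hL : ∀ a c, L a c = ∑ i, a i * (c : F) ^ (i : ℕ) := fun a c => by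
    simp [L, Fintype.linearCombination_apply]
  have hLv : ∀ a (c : Fˣ) v, B.1 *ᵥ v = (c : F) • v → pev F B.1 a *ᵥ v = L a c • v := by
    intro a c v hv'
    have hp : ∀ i : ℕ, (B.1 ^ i) *ᵥ v = (c : F) ^ i • v := by
      intro i
      induction i with
      | zero => simp
      | succ i ih => rw [pow_succ, ← Matrix.mulVec_mulVec, hv', Matrix.mulVec_smul, ih, smul_smul, pow_succ']
    rw [pev_apply, hL, Matrix.sum_mulVec, Finset.sum_smul]
    exact Finset.sum_congr rfl fun i _ => by rw [Matrix.smul_mulVec, hp, smul_smul]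
  have hLs : Function.Surjective L := by
    intro r
    let P := Lagrange.interpolate (Finset.univ : Finset Fˣ) (fun c => (c : F)) r
    have hPdeg : P.degree < (n : ℕ) := by
      refine lt_of_lt_of_le (Lagrange.degree_interpolate_lt r (Units.val_injective.injOn)) ?_
      rw [Finset.card_univ, ← Nat.card_eq_fintype_card, Nat.card_units]
      exact_mod_cast hqn
    refine ⟨fun i => P.coeff i, funext fun c => ?_⟩
    have hnd : P.natDegree < n := by
      rcases eq_or_ne P 0 with h0 | h0
      · rw [h0, natDegree_zero]; omega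
      · exact (natDegree_lt_iff_degree_lt h0).2 hPdeg
    rw [hL, ← Finset.sum_range (fun i => P.coeff i * (c : F) ^ i), ← eval_eq_sum_range' hnd]
    exact Lagrange.eval_interpolate_at_node r (Units.val_injective.injOn) (Finset.mem_univ c)
  -- units lie over nowhere vanishing value vectors
  let S := {a : Fin n → F // ∀ c, L a c ≠ 0}
  have hS : 2 * Nat.card S ≤ q ^ n := by
    obtain ⟨s, hs⟩ := hLs.hasRightInverse
    let f : S → (Fˣ → Fˣ) × LinearMap.ker L := fun a =>
      (fun c => Units.mk0 _ (a.2 c), ⟨a.1 - s (L a.1), by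
        rw [LinearMap.mem_ker, map_sub, hs, sub_self]⟩)
    have hf : Function.Injective f := fun a b h => by
      have h1 : L a.1 = L b.1 := funext fun c => congrArg Units.val (congrFun (congrArg Prod.fst h) c)
      have h2 : a.1 - s (L a.1) = b.1 - s (L b.1) := congrArg Subtype.val (congrArg Prod.snd h)
      rw [h1, sub_left_inj] at h2
      exact Subtype.ext h2
    have h1 := Nat.card_le_card_of_injective f hf
    rw [Nat.card_prod, Nat.card_fun, Nat.card_units, ← hqdef] at h1
    have h2 : q ^ n = q ^ (q - 1) * Nat.card (LinearMap.ker L) := by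
      have h3 := Submodule.card_eq_card_quotient_mul_card (LinearMap.ker L)
      rw [Nat.card_congr (L.quotKerEquivOfSurjective hLs).toEquiv, Nat.card_fun, Nat.card_fun,
        Nat.card_fin, Nat.card_units, ← hqdef] at h3
      rw [h3, mul_comm]
    have h4 : 2 * (q - 1) ^ (q - 1) ≤ q ^ (q - 1) := by
      have h5 := half_pow (q - 1) (q - 1)
      rw [Nat.sub_add_cancel (show 1 ≤ q by omega)] at h5
      refine Nat.le_of_mul_le_mul_right (c := q - 1) ?_ (by omega)
      linarith
    rw [h2]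
    calc 2 * Nat.card S ≤ 2 * ((q - 1) ^ (q - 1) * Nat.card (LinearMap.ker L)) := Nat.mul_le_mul_left _ h1
      _ ≤ _ := by rw [← mul_assoc]; exact Nat.mul_le_mul_right _ h4
  choose a ha using fun u : Eu => (u.2 : u.1.1 ∈ LinearMap.range (pev F B.1))
  have haS : ∀ u c, L (a u) c ≠ 0 := fun u c h0 => by
    obtain ⟨v, hv0, hv'⟩ := hv c
    have h1 := hLv (a u) c v hv'
    rw [h0, zero_smul, ha u] at h1
    exact hv0 (Matrix.mulVec_injective_iff_isUnit.2 u.1.isUnit (h1.trans (Matrix.mulVec_zero _).symm))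
  let g : Eu → S := fun u => ⟨a u, haS u⟩
  have hg : Function.Injective g := fun u v h => Subtype.ext (Units.ext (by
    rw [← ha u, ← ha v, show a u = a v from congrArg Subtype.val h]))
  have hES := Nat.card_le_card_of_injective g hg
  have hHE' : Nat.card H ≤ Nat.card Eu := Subgroup.card_le_of_le hHE
  have heq : 2 * (k * (q - 1)) = q ^ n := by omega
  have hq2 : q = 2 := by
    have h1 : q - 1 ∣ q ^ n := heq ▸ (dvd_mul_of_dvd_right (dvd_mul_left _ _) 2)
    have hco : Nat.Coprime (q - 1) q := by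
      have h2 := (Nat.coprime_self_add_right (m := q - 1) (n := 1)).2 (Nat.coprime_one_right _)
      rwa [Nat.sub_add_cancel (show 1 ≤ q by omega)] at h2
    have := Nat.eq_one_of_dvd_coprimes (hco.pow_right n) dvd_rfl h1
    omega
  have hgs : Function.Surjective g :=
    ((Nat.bijective_iff_injective_and_card _).2 ⟨hg, by omega⟩).2
  have h20 : (2 : F) = 0 := by
    have := Nat.cast_card_eq_zero (R := F)
    rw [← Nat.card_eq_fintype_card, ← hqdef, hq2] at this
    exact_mod_cast this
  have h1c : ∀ c : F, c ≠ 0 → c = 1 := fun c hc0 => by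
    have h := FiniteField.pow_card_sub_one_eq_one c hc0
    rwa [← Nat.card_eq_fintype_card, ← hqdef, hq2, pow_one] at h
  obtain ⟨u, hu⟩ := hgs ⟨Pi.single i0 1 + Pi.single i1 1 + Pi.single i2 1, fun c => by
    rw [map_add, map_add, Pi.add_apply, Pi.add_apply, hL, hL, hL]
    simp only [Pi.single_apply, ite_mul, zero_mul, Finset.sum_ite_eq', Finset.mem_univ, if_true,
      h1c _ c.ne_zero, one_pow, mul_one]
    rw [show (1 : F) + 1 = 2 by norm_num, h20, zero_add]
    exact one_ne_zero⟩
  have hu1 : u.1.1 = 1 + B.1 + B.1 * B.1 := by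
    rw [← ha u, show a u = _ from congrArg Subtype.val hu, map_add, map_add, pev_single, pev_single, pev_single]
    simp [i0, i1, i2, pow_two]
  obtain ⟨d, hd'⟩ := htop u.1 u.2
  have hd1 : d = 1 := by
    refine h1c d fun h0 => ?_
    rw [h0, zero_smul] at hd'
    have h5 := congrArg (fun X => (u.1⁻¹).1 * X) hd'
    simp only [Units.inv_mul_cancel_left, mul_zero] at h5
    haveI : Nonempty (Fin n) := ⟨i0⟩
    have h6 : theta A σ (u.1.1 * (u.1⁻¹).1) = 0 := by rw [theta_mul, h5, mul_zero]
    rw [Units.mul_inv, theta_one] at h6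
    exact one_ne_zero h6
  rw [hd1, one_smul, hu1, theta_add, theta_add, theta_mul, theta_one, hBinv] at hd'
  have h7 := congrArg (fun X => X * (B.1 * B.1)) hd'
  simp only [mul_assoc, add_mul, one_mul, Units.inv_mul_cancel_left] at h7
  have h8 : B.1 ^ 4 = 1 := by
    have h9 : (1 + B.1 + B.1 * B.1) * (B.1 * B.1 + B.1 + 1) = B.1 * B.1 := by
      refine Eq.trans ?_ h7
      simp only [mul_add, add_mul, mul_one, one_mul, mul_assoc, Units.inv_mul, Units.inv_mul_cancel_left]
      try abel
    have h10 : B.1 ^ 4 - 1 + (2 : F) • (B.1 ^ 3 + B.1 ^ 2 + B.1 + 1) = 0 := by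
      rw [← sub_eq_zero] at h9
      rw [← h9]
      simp only [mul_add, add_mul, mul_one, one_mul, pow_succ, pow_zero, mul_assoc]
      module
    rwa [h20, zero_smul, add_zero, sub_eq_zero] at h10
  have hk4 : k ≤ 4 := Nat.le_of_dvd (by norm_num) (orderOf_dvd_of_pow_eq_one
    ((ind_pow_one (by omega) B 4).2 ⟨1, one_ne_zero, by rw [Units.val_pow_eq_pow_val, h8, one_smul]⟩))
  have hn4 : 4 ≤ n := by
    rcases Nat.lt_or_ge n 4 with h | h
    · exact absurd ⟨by omega, hq2⟩ hx
    · exact h
  have : 16 ≤ q ^ n := hq2 ▸ (Nat.pow_le_pow_right (by norm_num : 1 ≤ 2) hn4)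
  rw [hq2] at heq this
  omega

theorem graph_order_le (hn : 3 ≤ n) (hx : ¬ (n = 3 ∧ Nat.card F = 2)) (A : GL (Fin n) F) (σ : RingAut F) :
    (Nat.card F - 1) * orderOf (ind A σ * itAut) ≤ Nat.card F ^ n - 1 := by
  haveI : Finite (RingAut F) := Finite.of_injective (fun e : RingAut F => (e : F → F)) DFunLike.coe_injective
  have hsq : (ind A σ * itAut) ^ 2 = ind (A * glMap σ (glIT A)) (σ * σ) := by
    rw [sq, mul_assoc, ← mul_assoc itAut, itAut_ind, mul_assoc (ind (glIT A) σ), itAut_mul_self,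
      mul_one, ind_mul]
    rfl
  have hle : orderOf (ind A σ * itAut) ≤ 2 * orderOf (ind (A * glMap σ (glIT A)) (σ * σ)) := by
    apply Nat.le_of_dvd (Nat.mul_pos two_pos (order_pos _))
    rw [orderOf_dvd_iff_pow_eq_one, pow_mul, hsq]
    exact pow_orderOf_eq_one _
  refine (Nat.mul_le_mul_left _ hle).trans ?_
  rcases eq_or_ne (σ * σ) 1 with hσ | hσ
  · have := graph_half hn hx A σ hσ
    rw [hσ]
    rwa [mul_comm] at this
  obtain ⟨q₀, k, hq₀, hq, hk, ho⟩ := field_bound (by omega) (A * glMap σ (glIT A)) (σ * σ)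
  refine of_le_geo Finite.one_lt_card ?_
  refine (Nat.mul_le_mul_left 2 (ho.trans (Nat.mul_le_mul_left _ hk))).trans ?_
  rw [← mul_assoc, hq]
  have he : 2 ≤ orderOf (σ * σ) := by
    have := orderOf_pos (σ * σ)
    rcases Nat.lt_or_ge (orderOf (σ * σ)) 2 with h | h
    · exact absurd (orderOf_eq_one_iff.1 (by omega)) hσ
    · exact h
  refine geo_field _ _ _ _ hq₀ hn ?_ (by omega)
  rcases Nat.lt_or_ge 2 (orderOf (σ * σ)) with h3 | h3
  · calc 2 * (2 * orderOf (σ * σ)) = 4 * orderOf (σ * σ) := by ring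
      _ ≤ 4 ^ (orderOf (σ * σ) - 1) := (four_pow _ he).2 h3
      _ ≤ q₀ ^ (2 * (orderOf (σ * σ) - 1)) := by
        rw [pow_mul]
        exact Nat.pow_le_pow_left (by nlinarith) _
  · have he2 : orderOf (σ * σ) = 2 := by omega
    have h4 : orderOf σ = 4 := by
      have hp : σ ^ 4 = 1 := by
        have := pow_orderOf_eq_one (σ * σ)
        rw [he2, ← sq, ← pow_mul] at this
        exact this
      refine orderOf_eq_prime_pow (p := 2) (n := 1) ?_ hp
      rw [pow_one, sq]
      exact hσ
    obtain ⟨r, -, hr2, hr, -, -⟩ := field_bound (by omega : 2 ≤ n) A σ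
    rw [h4, hq, he2, show 4 = 2 * 2 from rfl, pow_mul] at hr
    have : q₀ = r ^ 2 := Nat.pow_left_injective two_ne_zero hr
    have h16 : 4 ≤ q₀ := by rw [this]; nlinarith
    rw [he2]
    calc 2 * (2 * 2) ≤ q₀ * q₀ := by nlinarith
      _ = _ := by ring

/-- an element of maximal order -/
theorem exists_max (hn : 2 ≤ n) :
    ∃ φ : MulAut (Matrix.ProjectiveSpecialLinearGroup (Fin n) F),
      Nat.card F ^ n - 1 ≤ (Nat.card F - 1) * orderOf φ := by
  classical
  haveI : Fintype F := Fintype.ofFinite F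
  obtain ⟨p, hp⟩ := CharP.exists F
  haveI : Fact p.Prime := ⟨CharP.char_is_prime F p⟩
  haveI : NeZero n := ⟨by omega⟩
  let K := FiniteField.Extension F p n
  have hfin : Module.finrank F K = n := FiniteField.finrank_extension F p n
  let b := Module.finBasisOfFinrankEq F K hfin
  obtain ⟨u, hu⟩ := IsCyclic.exists_ofOrder_eq_natCard (α := Kˣ)
  rw [Nat.card_units, FiniteField.natCard_extension] at hu
  let M : GL (Fin n) F := Units.map (Algebra.leftMulMatrix b).toRingHom.toMonoidHom u
  refine ⟨ind M 1, ?_⟩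
  obtain ⟨c, hc, hcM⟩ := (ind_pow_one hn M _).1 (pow_orderOf_eq_one (ind M 1))
  have h1 : (u : K) ^ orderOf (ind M 1) = algebraMap F K c := by
    apply Algebra.leftMulMatrix_injective b
    rw [map_pow, AlgHom.commutes, Algebra.algebraMap_eq_smul_one]
    rw [Units.val_pow_eq_pow_val] at hcM
    exact hcM
  have h2 : u ^ ((Nat.card F - 1) * orderOf (ind M 1)) = 1 := by
    apply Units.ext
    rw [Units.val_pow_eq_pow_val, mul_comm, pow_mul, h1, ← map_pow, Nat.card_eq_fintype_card,
      FiniteField.pow_card_sub_one_eq_one c hc, map_one, Units.val_one]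
  rw [← hu]
  exact Nat.le_of_dvd (Nat.mul_pos (Nat.sub_pos_of_lt Finite.one_lt_card) (order_pos _))
    (orderOf_dvd_of_pow_eq_one h2)

end CfsgLib.AutPSL.MaxOrder
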